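import Groth.Agent.PicCurve.Jacobian
import Groth.Agent.Nakai.CartierMul
import Groth.Agent.HilbSum.SymHilb
import Groth.Agent.SymCurve.Main
import Groth.Agent.SepAffineGen.Main
import Groth.Agent.QuotScheme.Existence
import Groth.Agent.S13602
import Groth.Agent.S14845

/-!
Sums of points of a curve as classes: divisor classes of products, the group law of the scheme of degree zero
classes, symmetric powers of curves over fields.
-/

set_option autoImplicit false
set_option backward.isDefEq.respectTransparency false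
set_option backward.isDefEq.respectTransparency.types false
set_option linter.style.haveILetI false
set_option linter.unusedSectionVars false
set_option maxHeartbeats 1000000

universe u

open CategoryTheory CategoryTheory.Limits AlgebraicGeometry TopologicalSpace Opposite MonoidalCategory CartesianMonoidalCategory
open PicF
open scoped MonObj
open Groth.Agent.W7Cube (pull pull_pull pull_cls)

attribute [local instance] Groth.Agent.W7Cube.law

noncomputable section

namespace Groth.Agent.PicCurve

/-- The class of a sum of two divisors. -/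
theorem divCl_mul {Y : Scheme.{u}} {I J : Y.IdealSheafData} (hI : BlowUp.IsEffCartierIdeal I)
    (hJ : BlowUp.IsEffCartierIdeal J) :
    divCl (I * J) (Groth.Agent.BlowUpLib.cartier_mul hI hJ) = divCl I hI * divCl J hJ := by
  obtain ⟨e⟩ := Nakai.nonempty_idealMod_mul hI hJ
  rw [divCl, divCl, divCl, ← mul_inv]
  refine congrArg _ ?_
  rw [show PicGrp.cls (ClSub.idealMod I) ((Groth.Agent.S8914.result I).mpr hI) *
      PicGrp.cls (ClSub.idealMod J) ((Groth.Agent.S8914.result J).mpr hJ) =
    PicGrp.cls _ (TMul.isInvertible_tensorMod ((Groth.Agent.S8914.result I).mpr hI)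
      ((Groth.Agent.S8914.result J).mpr hJ)) from rfl]
  exact ((PicGrp.cls_eq_cls_iff _ _).2 ⟨e⟩).symm

section Prod

variable {Y : Scheme.{u}}

theorem cartier_prod_succ : ∀ {n : ℕ} (I : Fin (n + 1) → Y.IdealSheafData) (_ : ∀ i, BlowUp.IsEffCartierIdeal (I i)),
    BlowUp.IsEffCartierIdeal (∏ i, I i)
  | 0, I, hI => by rw [Fin.prod_univ_one]; exact hI 0
  | n + 1, I, hI => by
    rw [Fin.prod_univ_succ]
    exact Groth.Agent.BlowUpLib.cartier_mul (hI 0) (cartier_prod_succ _ fun i => hI i.succ)

/-- The class of a sum of divisors. -/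
theorem divCl_prod : ∀ {n : ℕ} (I : Fin (n + 1) → Y.IdealSheafData) (hI : ∀ i, BlowUp.IsEffCartierIdeal (I i))
    (h : BlowUp.IsEffCartierIdeal (∏ i, I i)), divCl (∏ i, I i) h = ∏ i, divCl (I i) (hI i)
  | 0, I, hI, h => by
    rw [Fin.prod_univ_one (fun i => divCl (I i) (hI i))]
    exact divCl_congr (Fin.prod_univ_one _) _ _
  | n + 1, I, hI, h => by
    rw [Fin.prod_univ_succ (fun i => divCl (I i) (hI i)),
      ← divCl_prod (fun i => I i.succ) (fun i => hI _) (cartier_prod_succ _ fun i => hI _), ← divCl_mul]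
    exact divCl_congr (Fin.prod_univ_succ _) _ _

end Prod

section Class

variable {X S : Scheme.{u}} (f : X ⟶ S) [IsProper f] [SmoothOfRelativeDimension 1 f]

/-- The class of the graph of a point. -/
def ptCl (T : Over S) (x : T.left ⟶ X) (hx : x ≫ f = T.hom) : PicLoc.PicSet (XT f T) :=
  divCl (HilbD.secGraph f T x hx)
    (effCartier_obj f T (d := 1) ⟨HilbD.secGraph f T x hx, HilbOne.secGraph_mem f T x hx⟩)

theorem ptCl_congr (T : Over S) {x y : T.left ⟶ X} (h : x = y) (hx : x ≫ f = T.hom) (hy : y ≫ f = T.hom) :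
    ptCl f T x hx = ptCl f T y hy := by subst h; rfl

theorem pull_ptCl {T T' : Over S} (m : T' ⟶ T) (x : T.left ⟶ X) (hx : x ≫ f = T.hom) :
    pull (XTmap f m) (ptCl f T x hx) =
      ptCl f T' (m.left ≫ x) (by rw [Category.assoc, hx]; exact Over.w m) := by
  have e : (HilbD.secGraph f T x hx).comap (XTmap f m) =
      HilbD.secGraph f T' (m.left ≫ x) (by rw [Category.assoc, hx]; exact Over.w m) := by
    rw [← HilbOne.pull_eq_comap, HilbOne.pull_secGraph]
  have h' : BlowUp.IsEffCartierIdeal ((HilbD.secGraph f T x hx).comap (XTmap f m)) := by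
    rw [e]
    exact effCartier_obj f T' (d := 1) ⟨_, HilbOne.secGraph_mem f T' (m.left ≫ x) (by rw [Category.assoc, hx]; exact Over.w m)⟩
  rw [ptCl, pull_divCl _ _ h']
  exact divCl_congr e _ _

end Class

section Grp

variable {k : Type u} [Field k] {X : Scheme.{u}} (f : X ⟶ Spec (CommRingCat.of k)) [IsProper f]
  [SmoothOfRelativeDimension 1 f] [GeometricallyConnected f] (σ : Spec (CommRingCat.of k) ⟶ X)
  (hσ : σ ≫ f = 𝟙 (Spec (CommRingCat.of k)))
  (hdim : ∀ z : Spec (CommRingCat.of k), topologicalKrullDim ↥(f.fiber z) = 1)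
  {J : Over (Spec (CommRingCat.of k))} {uJ : PicLoc.PicSet (XT f J)}
  (hu : pull (secT f σ hσ J) uJ = 1) (hu0 : Zero f J uJ) (hJ : Classifies f σ hσ (Zero f) J uJ)

include hdim hu hu0 hJ in
/-- The group structure given by the product of classes. -/
theorem exists_grpObj_mul : ∃ G : GrpObj J, ∀ (T : Over (Spec (CommRingCat.of k))) (p q : T ⟶ J),
    pull (XTmap f (lift p q ≫ G.mul)) uJ = pull (XTmap f p) uJ * pull (XTmap f q) uJ := by
  let Sub : ∀ T : Over (Spec (CommRingCat.of k)), Subgroup (PicLoc.PicSet (XT f T)) := fun T =>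
    { carrier := {c | pull (secT f σ hσ T) c = 1 ∧ Zero f T c}
      mul_mem' := fun {a b} ha hb => ⟨by rw [map_mul, ha.1, hb.1, one_mul],
        fun t => by rw [degC_mul f hdim, ha.2 t, hb.2 t, add_zero]⟩
      one_mem' := ⟨map_one _, degC_one f hdim T⟩
      inv_mem' := fun {a} ha => ⟨by rw [map_inv, ha.1, inv_one], fun t => by rw [degC_inv f hdim, ha.2 t, neg_zero]⟩ }
  let e : ∀ T : Over (Spec (CommRingCat.of k)), (T ⟶ J) ≃ Sub T := fun T =>
    { toFun := fun g => ⟨pull (XTmap f g) uJ, pull_secT g hu, fun t => by rw [degC_pull]; exact hu0 _⟩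
      invFun := fun c => (hJ T c.1 c.2.1 c.2.2).exists.choose
      left_inv := fun g => (hJ T _ (pull_secT g hu) (fun t => by rw [degC_pull]; exact hu0 _)).unique
        (hJ T _ (pull_secT g hu) (fun t => by rw [degC_pull]; exact hu0 _)).exists.choose_spec rfl
      right_inv := fun c => Subtype.ext (hJ T c.1 c.2.1 c.2.2).exists.choose_spec }
  have hnat : ∀ {T T' : Over (Spec (CommRingCat.of k))} (h : T' ⟶ T) (g : T ⟶ J),
      pull (XTmap f h) (e T g).1 = (e T' (h ≫ g)).1 := fun {T T'} h g => by
    show pull _ (pull _ uJ) = pull _ uJ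
    rw [pull_pull, S12404.XTmap_comp]
  let G : ∀ T : Over (Spec (CommRingCat.of k)), Group (T ⟶ J) := fun T => (e T).group
  let F : (Over (Spec (CommRingCat.of k)))ᵒᵖ ⥤ GrpCat.{u} :=
    { obj := fun T => @GrpCat.of (T.unop ⟶ J) (G T.unop)
      map := fun {T T'} h =>
        letI := G T.unop
        letI := G T'.unop
        GrpCat.ofHom (MonoidHom.mk' (fun g => h.unop ≫ g) fun a b => (e T'.unop).injective (by
          have hmul : ∀ (U : Over (Spec (CommRingCat.of k))) (p q : U ⟶ J),
              letI := G U; e U (p * q) = e U p * e U q := fun U p q => (e U).apply_symm_apply _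
          rw [hmul]
          refine Subtype.ext ?_
          show (e T'.unop (h.unop ≫ (a * b))).1 = (e T'.unop (h.unop ≫ a)).1 * (e T'.unop (h.unop ≫ b)).1
          rw [← hnat, ← hnat, ← hnat]
          exact (congrArg (fun c : Sub T.unop => pull (XTmap f h.unop) c.1) (hmul T.unop a b)).trans
            (map_mul _ _ _)))
      map_id := fun T => by
        letI := G T.unop
        exact GrpCat.hom_ext (MonoidHom.ext fun g => Category.id_comp g)
      map_comp := fun {T T' T''} a b => by
        letI := G T.unop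
        exact GrpCat.hom_ext (MonoidHom.ext fun g => Category.assoc b.unop a.unop g) }
  refine ⟨GrpObj.ofRepresentableBy J F
    { homEquiv := fun {T} => Equiv.refl _
      homEquiv_comp := fun {T T'} h g => rfl }, fun T p q => ?_⟩
  show (e T (lift p q ≫ (e (J ⊗ J)).symm (e (J ⊗ J) (fst J J) * e (J ⊗ J) (snd J J)))).1 =
    (e T p).1 * (e T q).1
  rw [← hnat, Equiv.apply_symm_apply, Subgroup.coe_mul, map_mul, hnat, hnat, lift_fst, lift_snd]

end Grp

section SymPow

/-- Local rings have at most the dimension of the scheme. -/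
theorem dim_stalk_le {Z : Scheme.{u}} (z : Z) : ringKrullDim (Z.presheaf.stalk z) ≤ topologicalKrullDim Z := by
  rw [← PrimeSpectrum.topologicalKrullDim_eq_ringKrullDim]
  exact (Z.fromSpecStalk z).isEmbedding.isInducing.topologicalKrullDim_le

variable {k : Type u} [Field k] {X : Scheme.{u}} (f : X ⟶ Spec (CommRingCat.of k))

/-- The symmetric powers of a proper curve over a field exist. -/
theorem exists_symPow [IsProper f] (hd : topologicalKrullDim X ≤ 1) (n : ℕ) :
    SymProd.IsAF f ∧ ∃ (Y : Scheme.{u}) (q : SymProd.fibPow f n ⟶ Y) (gY : Y ⟶ Spec (CommRingCat.of k)),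
      SymProd.IsSymProd f n q gY := by
  letI : X.Over (Spec (CommRingCat.of k)) := ⟨f⟩
  haveI : IsLocallyNoetherian X := LocallyOfFiniteType.isLocallyNoetherian f
  haveI : X.IsSeparated := ⟨by rw [← terminal.comp_from f]; infer_instance⟩
  have hAF : SymProd.IsAF f := fun _ T _ => by
    obtain ⟨D, hD, hTD⟩ := SepAffineGen.exists_affine_of_dim_le_one (X := X) (E := (T : Set X)) T.finite_toSet
      (fun x _ => inferInstance) (fun x _ => (dim_stalk_le x).trans hd)
    exact ⟨D, hD, fun x hx => hTD hx⟩
  refine ⟨hAF, ?_⟩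
  obtain ⟨Y, q, hq⟩ := QuotScheme.exists_isQuot (SymProd.permActU f n) fun x => by
    obtain ⟨U, hU, hx⟩ := Groth.Agent.S13602.result f hAF n x
    exact ⟨U, hU, fun g => by rw [SymProd.permActU_hom]; exact hx g.down⟩
  obtain ⟨gY, hg, -⟩ := QuotScheme.existsUnique_desc hq (WidePullback.base fun _ : Fin n => f)
    fun g => by rw [SymProd.permActU_hom]; exact SymProd.permHom_base f n g.down
  exact ⟨Y, q, gY, hq, hg⟩

/-- Isomorphisms are geometrically irreducible. -/
theorem geometricallyIrreducible_of_isIso {A B : Scheme.{u}} (φ : A ⟶ B) [IsIso φ] : GeometricallyIrreducible φ :=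
  ⟨fun K _ y W fst snd h => by
    haveI : IsIso snd := h.isIso_snd_of_isIso
    exact snd.homeomorph.irreducibleSpace_iff.2 inferInstance⟩

/-- Powers of a geometrically irreducible curve are irreducible. -/
theorem irreducibleSpace_powOver [GeometricallyIrreducible f] [Flat f] [LocallyOfFinitePresentation f] (n : ℕ) :
    IrreducibleSpace ↥(HilbSum.powOver f n).left := by
  let P : MorphismProperty Scheme.{u} := @GeometricallyIrreducible ⊓ @UniversallyOpen
  haveI : P.IsStableUnderComposition := ⟨fun a b ha hb => by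
    haveI := ha.1; haveI := ha.2; haveI := hb.1; haveI := hb.2
    exact ⟨GeometricallyIrreducible.comp a b, inferInstance⟩⟩
  haveI : P.IsStableUnderBaseChange := inferInstanceAs ((_ ⊓ _ : MorphismProperty _)).IsStableUnderBaseChange
  haveI : UniversallyOpen f := inferInstance
  obtain ⟨h1, h2⟩ := SymCurve.prop_fibPow_base P (fun φ _ => ⟨geometricallyIrreducible_of_isIso φ, inferInstance⟩) f
    ⟨‹_›, inferInstance⟩ n
  haveI := h1
  haveI := h2
  haveI : Subsingleton ↥(Spec (CommRingCat.of k)) := inferInstanceAs (Subsingleton (PrimeSpectrum k))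
  haveI : Surjective (WidePullback.base fun _ : Fin n => f) := inferInstance
  haveI : Nonempty ↥(SymProd.fibPow f n) :=
    ⟨((WidePullback.base fun _ : Fin n => f).surjective (IsLocalRing.closedPoint k)).choose⟩
  exact GeometricallyIrreducible.irreducibleSpace_of_subsingleton (WidePullback.base fun _ : Fin n => f)

end SymPow

end Groth.Agent.PicCurve
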