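import Groth.Agent.PicCurve.Main
import Groth.Agent.S1170
import Groth.Agent.S6463
import Groth.Agent.S6487
import Groth.Agent.ClosedRep.GeomIntegral
import Groth.Agent.ConnDiv.Basic

/-!
Smooth proper curves with a rational point: the data of the representability criterion.
-/

set_option autoImplicit false
set_option backward.isDefEq.respectTransparency false
set_option backward.isDefEq.respectTransparency.types false
set_option linter.style.haveILetI false
set_option maxHeartbeats 2000000

universe u

open CategoryTheory CategoryTheory.Limits AlgebraicGeometry TopologicalSpace Opposite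
open PicF
open Groth.Agent.W7Cube (pull pull_pull pull_cls)

attribute [local instance] Groth.Agent.W7Cube.law

noncomputable section

namespace Groth.Agent.PicCurve

/-- The fibres of a scheme over a field. -/
theorem dim_fiber_spec {k : Type u} [Field k] {X : Scheme.{u}} (q : X ⟶ Spec (CommRingCat.of k))
    (y : Spec (CommRingCat.of k)) : topologicalKrullDim ↥(q.fiber y) = topologicalKrullDim X := by
  haveI : IsIso ((Spec (CommRingCat.of k)).fromSpecResidueField y) := AssTensor.isIso_fromSpecResidueField _ y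
  haveI : IsIso (q.fiberι y) :=
    inferInstanceAs (IsIso (pullback.fst _ ((Spec (CommRingCat.of k)).fromSpecResidueField y)))
  exact (Homeomorph.isHomeomorph (Scheme.homeoOfIso (asIso (q.fiberι y)))).topologicalKrullDim_eq

variable {k : Type u} [Field k] {X : Scheme.{u}} (f : X ⟶ Spec (CommRingCat.of k))
  (hX : Curve.IsSmoothProperCurve k X f) (σ : Spec (CommRingCat.of k) ⟶ X)
  (hσ : σ ≫ f = 𝟙 (Spec (CommRingCat.of k)))

include hX hσ in
theorem geometricallyConnected_curve : GeometricallyConnected f := by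
  obtain ⟨hp, hs, hi, -⟩ := hX
  exact Rigid.geometricallyConnected_of_section f σ hσ

include hX hσ in
theorem isIso_app_proj (T : Over (Spec (CommRingCat.of k))) (U : T.left.Opens) :
    IsIso ((PicF.XTproj f T).app U) := by
  haveI := Groth.Agent.S6463.result k X f hX σ hσ T.left T.hom
  exact inferInstanceAs (IsIso ((pullback.snd f T.hom).c.app (op U)))

include hX hσ in
theorem betti_structure_curve (z : Spec (CommRingCat.of k)) :
    letI : X.Over (Spec (CommRingCat.of k)) := ⟨f⟩
    PerfAux.betti f (Coh.structureModule X) z 0 = 1 ∧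
      PerfAux.betti f (Coh.structureModule X) z 1 = Curv2.genus k X := by
  obtain ⟨hp, hs, hi, hdim⟩ := id hX
  letI : X.Over (Spec (CommRingCat.of k)) := ⟨f⟩
  haveI : IsProper (X ↘ Spec (CommRingCat.of k)) := hp
  refine ⟨?_, (AbelMap.betti_field (QC.isQCoh_unit X) z 1).trans rfl⟩
  refine (AbelMap.betti_field (QC.isQCoh_unit X) z 0).trans ?_
  letI := CurveRR.secMod k (Coh.structureModule X) ⊤
  rw [← CurveRR.finrank_sec]
  let e : k →ₗ[k] Γ(Coh.structureModule X, ⊤) :=
    { toFun := fun a => CurveRR.cst k X ⊤ a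
      map_add' := map_add _
      map_smul' := fun a b => map_mul (CurveRR.cst k X ⊤) a b }
  have hb : Function.Bijective e := by
    show Function.Bijective (CurveRR.cst k X ⊤ : k → Γ(X, ⊤))
    rw [show (CurveRR.cst k X ⊤ : k → Γ(X, ⊤)) = Coh.toGlobal (X ↘ Spec (CommRingCat.of k)) from
      funext fun a => Groth.Agent.QC.resO_self _ _]
    have h1 : IsIso f.appTop := by
      haveI := isIso_app_proj f hX σ hσ (Over.mk (𝟙 _)) ⊤
      haveI : IsIso (pullback.snd f (𝟙 (Spec (CommRingCat.of k)))).appTop := this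
      have e : pullback.snd f (𝟙 (Spec (CommRingCat.of k))) = pullback.fst f (𝟙 _) ≫ f := by
        rw [pullback.condition, Category.comp_id]
      rw [Scheme.Hom.appTop, ← IsIso.inv_hom_id_assoc (pullback.fst f (𝟙 (Spec (CommRingCat.of k)))) f] 
      rw [← e, ← Scheme.Hom.appTop, Scheme.Hom.comp_appTop]
      infer_instance
    exact (ConcreteCategory.bijective_of_isIso
      ((Scheme.ΓSpecIso (CommRingCat.of k)).inv ≫ f.appTop) :)
  rw [← (LinearEquiv.ofBijective e hb).finrank_eq, Module.finrank_self]

include hX in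
/-- Every fibre class can be moved to a good one by a class of the curve (separably closed base field). -/
theorem exists_twist [IsSepClosed k] (T : Over (Spec (CommRingCat.of k))) (c : PicLoc.PicSet (XT f T)) (t : T.left) :
    ∃ L₀ : X.Modules, ∃ hL₀ : PicF.IsInvertible L₀,
      GoodC f T (c * pull (pullback.fst f T.hom) (PicGrp.cls L₀ hL₀)) t := by
  obtain ⟨hp, hs, -, hdim⟩ := id hX
  obtain ⟨L, hL, rfl⟩ := PicGrp.exists_eq_cls c
  let p := XTproj f T
  let K := T.left.residueField t
  letI : (p.fiber t).Over (Spec (CommRingCat.of ↥K)) := ⟨p.fiberToSpecResidueField t⟩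
  letI : X.Over (Spec (CommRingCat.of k)) := ⟨f⟩
  let φ : CommRingCat.of k ⟶ K := Spec.preimage (T.left.fromSpecResidueField t ≫ T.hom)
  have hφ : Spec.map φ = T.left.fromSpecResidueField t ≫ T.hom := Spec.map_preimage _
  letI : Algebra k K := φ.hom.toAlgebra
  let gK : p.fiber t ⟶ X := p.fiberι t ≫ pullback.fst f T.hom
  have hpb : IsPullback gK (p.fiber t ↘ Spec (CommRingCat.of ↥K)) (X ↘ Spec (CommRingCat.of k))
      (Spec.map (CommRingCat.ofHom (algebraMap k K))) := by
    rw [show CommRingCat.ofHom (algebraMap k K) = φ from rfl, hφ]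
    exact (IsPullback.of_hasPullback p (T.left.fromSpecResidueField t)).paste_horiz (IsPullback.of_hasPullback f T.hom)
  obtain ⟨L₀, hL₀, h0, h1⟩ := Groth.Agent.S6487.result k X hX (↥K) (p.fiber t) gK hpb
    ((Scheme.Modules.pullback (p.fiberι t)).obj L) (PicLoc.isInvertible_pullback _ hL)
  refine ⟨L₀, hL₀, ?_⟩
  have hM := TMul.isInvertible_tensorMod hL (PicLoc.isInvertible_pullback (pullback.fst f T.hom) hL₀)
  rw [pull_cls, show PicGrp.cls L hL * PicGrp.cls ((Scheme.Modules.pullback (pullback.fst f T.hom)).obj L₀)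
    (PicLoc.isInvertible_pullback _ hL₀) = PicGrp.cls _ hM from rfl, goodC_cls]
  obtain ⟨a⟩ := TMul.nonempty_pullTensorIso (p.fiberι t) L ((Scheme.Modules.pullback (pullback.fst f T.hom)).obj L₀)
  let b : CohB1.tensorMod ((Scheme.Modules.pullback (p.fiberι t)).obj L) ((Scheme.Modules.pullback gK).obj L₀) ≅
      (Scheme.Modules.pullback (p.fiberι t)).obj
        (CohB1.tensorMod L ((Scheme.Modules.pullback (pullback.fst f T.hom)).obj L₀)) :=
    PicGrp.tensorModIso (Iso.refl _) ((Scheme.Modules.pullbackComp (p.fiberι t) (pullback.fst f T.hom)).app L₀).symm ≪≫ a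
  refine ⟨((CurveRR.h_eq_of_iso (k := ↥K) b.symm 0).trans h0), ?_⟩
  exact (CurveRR.h_eq_of_iso (k := ↥K) b.symm 1).trans (CurveRR.h_eq_zero h1)

include hX in
/-- The rigidified Picard functor of a curve over a separably closed field is representable. -/
theorem rigRepresentable_curve [IsSepClosed k] : PicF.RigRepresentable f σ hσ := by
  obtain ⟨hp, hs, hi, hdim⟩ := id hX
  haveI := geometricallyConnected_curve f hX σ hσ
  haveI := Groth.Agent.AlgEquivCurve.smoothOfRelativeDimension_one f hdim
  haveI : GeometricallyIntegral f := ClosedRep.GeomIntegral.geometricallyIntegral_of_smooth f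
  letI : X.Over (Spec (CommRingCat.of k)) := ⟨f⟩
  obtain ⟨H, Z, hH, -, -⟩ := Groth.Agent.S1170.result k X f hX (Curv2.genus k X)
  refine rigRepresentable f σ hσ (isIso_app_proj f hX σ hσ) (Curv2.genus k X)
    (fun z => (dim_fiber_spec f z).trans hdim) (betti_structure_curve f hX σ hσ) H Z hH fun T c t => ?_
  obtain ⟨L₀, hL₀, h⟩ := exists_twist f hX T c t
  let one : Over (Spec (CommRingCat.of k)) := Over.mk (𝟙 _)
  let e₀ := pull (pullback.fst f one.hom) (PicGrp.cls L₀ hL₀)
  refine ⟨⟨rigify f σ hσ one e₀, rigify_mem f σ hσ one e₀⟩, ?_⟩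
  have hfst : XTmap f (toOne T) ≫ pullback.fst f one.hom = pullback.fst f T.hom :=
    (pullback.lift_fst _ _ _).trans (Category.comp_id _)
  show GoodC f T (c * pull (XTmap f (toOne T)) (rigify f σ hσ one e₀)) t
  rw [pull_rigify, show pull (XTmap f (toOne T)) e₀ = pull (pullback.fst f T.hom) (PicGrp.cls L₀ hL₀) by
    rw [pull_pull, hfst], rigify, ← mul_assoc, goodC_mul_base]
  exact h

end Groth.Agent.PicCurve
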