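import Groth.Agent.PicCurve.Count
import Groth.Agent.PicCurve.Field

/-!
A curve with enough rational points has a representable rigidified Picard functor.
-/

set_option autoImplicit false
set_option backward.isDefEq.respectTransparency false
set_option backward.isDefEq.respectTransparency.types false
set_option linter.style.haveILetI false
set_option maxHeartbeats 2000000

universe u

open CategoryTheory CategoryTheory.Limits AlgebraicGeometry TopologicalSpace Opposite
open PicF
open Groth.Agent.W7Cube (pull pull_pull pull_cls)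

attribute [local instance] Groth.Agent.W7Cube.law

noncomputable section

namespace Groth.Agent.PicCurve

section Ker

variable {X S : Scheme.{u}} (f : X ⟶ S) [IsSeparated f]

/-- The graph of a constant point is the preimage of the point. -/
theorem ker_sect_const (τ : S ⟶ X) (hτ : τ ≫ f = 𝟙 S) (T : Over S) (h : (T.hom ≫ τ) ≫ f = T.hom) :
    (HilbOne.sect f T (T.hom ≫ τ) h).ker = τ.ker.comap (pullback.fst f T.hom) := by
  haveI : IsClosedImmersion τ := by
    haveI : IsClosedImmersion (τ ≫ f) := by rw [hτ]; infer_instance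
    exact IsClosedImmersion.of_comp τ f
  refine AlmostBlow.ker_of_isPullback (IsPullback.of_bot ?_ (HilbOne.sect_fst f T _ h).symm
    (IsPullback.of_hasPullback f T.hom))
  rw [show HilbOne.sect f T (T.hom ≫ τ) h ≫ pullback.snd f T.hom = 𝟙 _ from HilbOne.sect_snd f T _ _, hτ]
  exact IsPullback.of_id_snd

end Ker

variable {k : Type u} [Field k] {X : Scheme.{u}} (f : X ⟶ Spec (CommRingCat.of k))
  (hX : Curve.IsSmoothProperCurve k X f) (σ : Spec (CommRingCat.of k) ⟶ X)
  (hσ : σ ≫ f = 𝟙 (Spec (CommRingCat.of k)))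

include hX in
theorem effCartier_rat (τ : Spec (CommRingCat.of k) ⟶ X) (hτ : τ ≫ f = 𝟙 _) : BlowUp.IsEffCartierIdeal τ.ker := by
  obtain ⟨hp, hs, hi, hdim⟩ := id hX
  letI : X.Over (Spec (CommRingCat.of k)) := ⟨f⟩
  haveI : IsProper (X ↘ Spec (CommRingCat.of k)) := hp
  haveI := CurveRR.isNoetherian_of_proper k X
  haveI : IsClosedImmersion (τ ≫ f) := by rw [hτ]; infer_instance
  haveI : IsClosedImmersion τ := IsClosedImmersion.of_comp τ f
  let Q := τ (IsLocalRing.closedPoint k)
  have hsQ : ∀ p, τ p = Q := fun p => congrArg τ (Subsingleton.elim p _)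
  have hQ : IsClosed ({Q} : Set X) := (Set.range_eq_singleton_iff.2 hsQ) ▸ τ.isClosedEmbedding.isClosed_range
  rw [CurveRR.ker_section f τ hτ hQ hsQ]
  exact (Groth.Agent.S8914.result _).1 (CurveRR.isInvertible_pointIdeal hdim.le hQ
    (CurveRR.genericPoint_ne_of_closed (k := k) hdim hQ) (SmLocalST.isRegularLocalRing_stalk_of_smooth_field f Q))

include hX hσ in
/-- **Enough rational points give enough translations.** -/
theorem exists_translation [IsProper f] [SmoothOfRelativeDimension 1 f] [GeometricallyConnected f] {N : ℕ}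
    (τ : Fin N → (Spec (CommRingCat.of k) ⟶ X))
    (hτ : ∀ i, τ i ≫ f = 𝟙 _) (hinj : Function.Injective τ)
    (hN : letI : X.Over (Spec (CommRingCat.of k)) := ⟨f⟩; 2 * Curv2.genus k X + 2 ≤ N)
    (T : Over (Spec (CommRingCat.of k))) (c : PicLoc.PicSet (XT f T)) (t : T.left) :
    ∃ e : Tr f σ hσ, GoodC f T (c * pull (XTmap f (toOne T)) e.1) t := by
  obtain ⟨-, -, -, hdim⟩ := id hX
  letI : X.Over (Spec (CommRingCat.of k)) := ⟨f⟩
  have hd : ∀ z, topologicalKrullDim ↥(f.fiber z) = 1 := fun z => (dim_fiber_spec f z).trans hdim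
  have hO := betti_structure_curve f hX σ hσ
  obtain ⟨Ω, _, _, ω, y, hy⟩ := AbelMap.exists_geomPt T.left t
  let T' := AbDual.ovr T ω
  let m : T' ⟶ T := AbDual.ovrHom T ω
  let XΩ := XT f T'
  let q : XΩ ⟶ X := pullback.fst f T'.hom
  let p := XTproj f T'
  letI : XΩ.Over (Spec (CommRingCat.of Ω)) := ⟨p⟩
  haveI : IsProper (XΩ ↘ Spec (CommRingCat.of Ω)) := isProper_proj f T'
  haveI : SmoothOfRelativeDimension 1 (XΩ ↘ Spec (CommRingCat.of Ω)) := smooth_proj f T'
  haveI : Smooth (XΩ ↘ Spec (CommRingCat.of Ω)) := SmoothOfRelativeDimension.smooth 1 _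
  haveI : GeometricallyConnected (XΩ ↘ Spec (CommRingCat.of Ω)) := geomConn_proj f T'
  haveI : IsIso (p.fiberι y) := by
    haveI : IsIso ((Spec (CommRingCat.of Ω)).fromSpecResidueField y) := AssTensor.isIso_fromSpecResidueField _ y
    exact inferInstanceAs (IsIso (pullback.fst _ ((Spec (CommRingCat.of Ω)).fromSpecResidueField y)))
  have hXdim : topologicalKrullDim XΩ = 1 := by
    rw [← IsHomeomorph.topologicalKrullDim_eq _
      (Homeomorph.isHomeomorph (Scheme.homeoOfIso (asIso (p.fiberι y))))]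
    exact dim_proj f hd T' y
  haveI : IsIntegral XΩ := W7Slope.isIntegral_of_geomConn Ω hXdim
  have hO' : ∀ i, CurveRR.h Ω (Coh.structureModule XΩ) i = PerfAux.betti f (Coh.structureModule X) (T'.hom y) i :=
    fun i => (CurveRR.h_eq_of_iso (PicLoc.pullbackStructureIso q).symm i).trans
      ((AbelMap.betti_field (QC.isQCoh_pullback _ (QC.isQCoh_unit X)) y i).symm.trans
        (PicSmooth.betti_of_isPullback (IsPullback.of_hasPullback f T'.hom) _ (QC.isQCoh_unit X) y i))
  have hh : ∀ i, (T'.hom ≫ τ i) ≫ f = T'.hom := fun i => by rw [Category.assoc, hτ, Category.comp_id]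
  let s : Fin N → (Spec (CommRingCat.of Ω) ⟶ XΩ) := fun i => HilbOne.sect f T' (T'.hom ≫ τ i) (hh i)
  have hs : ∀ i, s i ≫ p = 𝟙 _ := fun i => HilbOne.sect_snd f T' _ _
  have hker : ∀ i, (s i).ker = (τ i).ker.comap q := fun i => ker_sect_const f (τ i) (hτ i) T' (hh i)
  have hI : ∀ i, BlowUp.IsEffCartierIdeal (s i).ker := fun i => by
    obtain ⟨h1, h2⟩ := HilbOne.secGraph_mem f T' _ (hh i)
    exact effCartier_obj f T' (d := 1) ⟨_, ⟨h1, h2⟩⟩
  have hsinj : Function.Injective s := fun a b h => hinj (by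
    have h' : T'.hom ≫ τ a = T'.hom ≫ τ b := by
      rw [← HilbOne.sect_fst f T' _ (hh a), ← HilbOne.sect_fst f T' _ (hh b)]
      exact congrArg (· ≫ q) h
    haveI : Surjective T'.hom := ⟨fun z => ⟨y, @Subsingleton.elim _ (inferInstanceAs (Subsingleton (PrimeSpectrum k))) _ z⟩⟩
    exact ext_of_isDominant_of_isSeparated f ((hτ a).trans (hτ b).symm) T'.hom h')
  obtain ⟨e, he, M, hM, hce, h0, h1⟩ := exists_good_of_points Ω hXdim s hs hI (Curv2.genus k X)
    ((hO' 0).trans (hO _).1) ((hO' 1).trans (hO _).2) hsinj hN (pull (XTmap f m) c)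
  obtain ⟨e₀, -, rfl⟩ : e ∈ (Subgroup.closure (Set.range fun i => divCl (τ i).ker (effCartier_rat f hX _ (hτ i)))).map
      (pull q) := by
    rw [MonoidHom.map_closure, ← Set.range_comp]
    convert he using 3
    funext i
    show pull q (divCl (τ i).ker _) = divCl (s i).ker (hI i)
    rw [pull_divCl _ _ (by rw [← hker]; exact hI i)]
    exact divCl_congr (hker i).symm _ _
  let one : Over (Spec (CommRingCat.of k)) := Over.mk (𝟙 _)
  refine ⟨⟨rigify f σ hσ one (pull (pullback.fst f one.hom) e₀), rigify_mem f σ hσ one _⟩, ?_⟩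
  have hfst : XTmap f (toOne T) ≫ pullback.fst f one.hom = pullback.fst f T.hom :=
    (pullback.lift_fst _ _ _).trans (Category.comp_id _)
  show GoodC f T (c * pull (XTmap f (toOne T)) (rigify f σ hσ one _)) t
  rw [pull_rigify, pull_pull, hfst, rigify, ← mul_assoc, goodC_mul_base, ← show m.left y = t from hy,
    ← goodC_pull f m, map_mul, pull_pull, show XTmap f m ≫ pullback.fst f T.hom = q from AbelMap.XTmap_fst f m,
    hce, goodC_cls]
  exact ⟨(AbelMap.betti_field (TMul.isQCoh_of_isInvertible hM) y 0).trans h0,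
    (AbelMap.betti_field (TMul.isQCoh_of_isInvertible hM) y 1).trans h1⟩


include hX hσ in
/-- **Representability from enough rational points.** -/
theorem rigRepresentable_of_points [IsProper f] [SmoothOfRelativeDimension 1 f] [GeometricallyConnected f] {N : ℕ}
    (τ : Fin N → (Spec (CommRingCat.of k) ⟶ X))
    (hτ : ∀ i, τ i ≫ f = 𝟙 _) (hinj : Function.Injective τ)
    (hN : letI : X.Over (Spec (CommRingCat.of k)) := ⟨f⟩; 2 * Curv2.genus k X + 2 ≤ N) :
    PicF.RigRepresentable f σ hσ := by
  obtain ⟨hp, hs, hi, hdim⟩ := id hX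
  haveI : GeometricallyIntegral f := ClosedRep.GeomIntegral.geometricallyIntegral_of_smooth f
  letI : X.Over (Spec (CommRingCat.of k)) := ⟨f⟩
  obtain ⟨H, Z, hH, -, -⟩ := Groth.Agent.S1170.result k X f hX (Curv2.genus k X)
  exact rigRepresentable f σ hσ (isIso_app_proj f hX σ hσ) (Curv2.genus k X)
    (fun z => (dim_fiber_spec f z).trans hdim) (betti_structure_curve f hX σ hσ) H Z hH
    fun T c t => exists_translation f hX σ hσ τ hτ hinj hN T c t

end Groth.Agent.PicCurve
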