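import Groth.Agent.PicCurve.RatDrop
import Groth.Agent.PicCurve.Cover

/-!
Sums of points of a curve: general ones have one section.
-/

set_option autoImplicit false
set_option backward.isDefEq.respectTransparency false
set_option backward.isDefEq.respectTransparency.types false
set_option linter.style.haveILetI false
set_option linter.unusedSectionVars false
set_option maxHeartbeats 1000000

universe u

open CategoryTheory CategoryTheory.Limits AlgebraicGeometry TopologicalSpace
open TMul (homOf)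
open PicF
open Groth.Agent.W7Cube (pull pull_pull pull_cls)

attribute [local instance] Groth.Agent.W7Cube.law

noncomputable section

namespace Groth.Agent.PicCurve

section Cls

variable {Y : Scheme.{u}}

theorem isInvertible_tensorList : ∀ l : List Y.Modules, (∀ M ∈ l, PicF.IsInvertible M) → PicF.IsInvertible (FGA.tensorList l)
  | [], _ => TMul.isInvertible_structureModule
  | M :: l, h => TMul.isInvertible_tensorMod (h M List.mem_cons_self)
      (isInvertible_tensorList l fun N hN => h N (List.mem_cons_of_mem _ hN))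

theorem cls_structure : PicGrp.cls (Coh.structureModule Y) TMul.isInvertible_structureModule = 1 :=
  Subtype.ext rfl

theorem cls_tensorList : ∀ {n : ℕ} (M : Fin n → Y.Modules) (hM : ∀ i, PicF.IsInvertible (M i))
    (h : PicF.IsInvertible (FGA.tensorList (List.ofFn M))),
    PicGrp.cls (FGA.tensorList (List.ofFn M)) h = ∏ i, PicGrp.cls (M i) (hM i)
  | 0, _, _, _ => by
    rw [Fin.prod_univ_zero, ← cls_structure]
    exact (PicGrp.cls_eq_cls_iff _ _).2 ⟨eqToIso (by rw [List.ofFn_zero]; rfl)⟩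
  | n + 1, M, hM, h => by
    have h' : PicF.IsInvertible (FGA.tensorList (List.ofFn fun i => M i.succ)) :=
      isInvertible_tensorList _ (fun N hN => by
        obtain ⟨i, rfl⟩ := List.mem_ofFn.1 hN
        exact hM _)
    rw [Fin.prod_univ_succ, ← cls_tensorList (fun i => M i.succ) (fun i => hM _) h',
      show PicGrp.cls (M 0) (hM 0) * PicGrp.cls _ h' = PicGrp.cls _ (TMul.isInvertible_tensorMod (hM 0) h') from rfl]
    exact (PicGrp.cls_eq_cls_iff _ _).2 ⟨eqToIso (by rw [List.ofFn_succ]; rfl)⟩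

theorem isInvertible_tensorPow {M : Y.Modules} (hM : PicF.IsInvertible M) : ∀ n, PicF.IsInvertible (CohB1.tensorPow M n)
  | 0 => TMul.isInvertible_structureModule
  | n + 1 => TMul.isInvertible_tensorMod (isInvertible_tensorPow hM n) hM

theorem cls_tensorPow {M : Y.Modules} (hM : PicF.IsInvertible M) : ∀ n,
    PicGrp.cls (CohB1.tensorPow M n) (isInvertible_tensorPow hM n) = PicGrp.cls M hM ^ n
  | 0 => by rw [pow_zero]; exact cls_structure
  | n + 1 => by rw [pow_succ, ← cls_tensorPow hM n]; rfl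

end Cls

variable (k : Type u) [Field k] {X : Scheme.{u}} [X.Over (Spec (CommRingCat.of k))]
  [IsProper (X ↘ Spec (CommRingCat.of k))] [Smooth (X ↘ Spec (CommRingCat.of k))]
  [GeometricallyConnected (X ↘ Spec (CommRingCat.of k))] (hdim : topologicalKrullDim X = 1)

/-- `hⁱ` of a class. -/
def hC (c : PicLoc.PicSet X) (i : ℕ) : ℕ := CurveRR.h k (PicGrp.exists_eq_cls c).choose i

theorem hC_cls {L : X.Modules} (hL : PicF.IsInvertible L) (i : ℕ) : hC k (PicGrp.cls L hL) i = CurveRR.h k L i := by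
  obtain ⟨hM, hc⟩ := (PicGrp.exists_eq_cls (PicGrp.cls L hL)).choose_spec
  obtain ⟨e⟩ := (PicGrp.cls_eq_cls_iff hL hM).1 hc
  exact (CurveRR.h_eq_of_iso e i).symm

/-- The class of a rational point. -/
def delta (τ : {τ : Spec (CommRingCat.of k) ⟶ X // τ ≫ (X ↘ Spec (CommRingCat.of k)) = 𝟙 _})
    (hdim : topologicalKrullDim X = 1) : PicLoc.PicSet X :=
  haveI := CurveRR.isNoetherian_of_proper k X
  haveI := ClosedRep.GeomIntegral.geometricallyIntegral_of_smooth (X ↘ Spec (CommRingCat.of k))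
  divCl τ.1.ker (effCartier_rat (X ↘ Spec (CommRingCat.of k))
    ⟨‹_›, ‹_›, GeometricallyIntegral.isIntegral_of_subsingleton (X ↘ Spec (CommRingCat.of k)), hdim⟩ τ.1 τ.2)

theorem delta_inv (τ : {τ : Spec (CommRingCat.of k) ⟶ X // τ ≫ (X ↘ Spec (CommRingCat.of k)) = 𝟙 _})
    (hI : PicF.IsInvertible (ClSub.idealMod τ.1.ker)) :
    PicGrp.cls (ClSub.idealMod τ.1.ker) hI = (delta k τ hdim)⁻¹ := by
  rw [delta, divCl]
  exact (inv_inv (PicGrp.cls (ClSub.idealMod τ.1.ker) hI)).symm

theorem isInvertible_point (hdim : topologicalKrullDim X = 1)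
    (τ : {τ : Spec (CommRingCat.of k) ⟶ X // τ ≫ (X ↘ Spec (CommRingCat.of k)) = 𝟙 _}) :
    PicF.IsInvertible (ClSub.idealMod τ.1.ker) := by
  haveI := CurveRR.isNoetherian_of_proper k X
  haveI := ClosedRep.GeomIntegral.geometricallyIntegral_of_smooth (X ↘ Spec (CommRingCat.of k))
  exact (Groth.Agent.S8914.result _).2 (effCartier_rat (X ↘ Spec (CommRingCat.of k))
    ⟨‹_›, ‹_›, GeometricallyIntegral.isIntegral_of_subsingleton (X ↘ Spec (CommRingCat.of k)), hdim⟩ τ.1 τ.2)

include hdim in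
/-- Adding a point does not lose sections. -/
theorem hC_le_mul_delta (c : PicLoc.PicSet X)
    (τ : {τ : Spec (CommRingCat.of k) ⟶ X // τ ≫ (X ↘ Spec (CommRingCat.of k)) = 𝟙 _}) :
    hC k c 0 ≤ hC k (c * delta k τ hdim) 0 := by
  haveI := CurveRR.isNoetherian_of_proper k X
  haveI := ClosedRep.GeomIntegral.geometricallyIntegral_of_smooth (X ↘ Spec (CommRingCat.of k))
  haveI : IsIntegral X := GeometricallyIntegral.isIntegral_of_subsingleton (X ↘ Spec (CommRingCat.of k))
  obtain ⟨σ, hσ⟩ := τ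
  obtain ⟨M, hM, hMc⟩ := PicGrp.exists_eq_cls (c * delta k ⟨σ, hσ⟩ hdim)
  haveI : IsClosedImmersion (σ ≫ (X ↘ Spec (CommRingCat.of k))) := by rw [hσ]; infer_instance
  haveI : IsClosedImmersion σ := IsClosedImmersion.of_comp σ (X ↘ Spec (CommRingCat.of k))
  let Q := σ (IsLocalRing.closedPoint k)
  haveI : Subsingleton ↥(Spec (CommRingCat.of k)) := inferInstanceAs (Subsingleton (PrimeSpectrum k))
  have hsQ : ∀ p, σ p = Q := fun p => congrArg σ (Subsingleton.elim p _)
  have hQ : IsClosed ({Q} : Set X) := (Set.range_eq_singleton_iff.2 hsQ) ▸ σ.isClosedEmbedding.isClosed_range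
  have hker := CurveRR.ker_section (X ↘ Spec (CommRingCat.of k)) _ hσ hQ hsQ
  have hI := isInvertible_point k hdim ⟨σ, hσ⟩
  have hc : c = PicGrp.cls _ (TMul.isInvertible_tensorMod hI hM) := by
    rw [show PicGrp.cls _ (TMul.isInvertible_tensorMod hI hM) = PicGrp.cls (ClSub.idealMod σ.ker) hI * PicGrp.cls M hM
      from rfl, ← hMc, delta_inv k hdim ⟨σ, hσ⟩ hI, mul_comm c, inv_mul_cancel_left]
  rw [hMc, hc, hC_cls, hC_cls, CurveRR.h_eq_of_iso
    (PicGrp.tensorModIso (eqToIso (congrArg ClSub.idealMod hker)) (Iso.refl M)) 0]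
  exact (CurveRR.h0_ratPointIdeal (k := k) hQ σ hσ hsQ hM).1

include hdim in
theorem hC_le_mul_prod {n : ℕ} (c : PicLoc.PicSet X)
    (τ : Fin n → {τ : Spec (CommRingCat.of k) ⟶ X // τ ≫ (X ↘ Spec (CommRingCat.of k)) = 𝟙 _}) :
    hC k c 0 ≤ hC k (c * ∏ i, delta k (τ i) hdim) 0 := by
  induction n generalizing c with
  | zero => rw [Fin.prod_univ_zero, mul_one]
  | succ n ih =>
    rw [Fin.prod_univ_succ, ← mul_assoc]
    exact (hC_le_mul_delta k hdim c (τ 0)).trans (ih _ fun i => τ i.succ)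

include hdim in
theorem one_le_hC_prod {n : ℕ}
    (τ : Fin n → {τ : Spec (CommRingCat.of k) ⟶ X // τ ≫ (X ↘ Spec (CommRingCat.of k)) = 𝟙 _}) :
    1 ≤ hC k (∏ i, delta k (τ i) hdim) 0 := by
  have h := hC_le_mul_prod k hdim 1 τ
  rw [one_mul, ← cls_structure, hC_cls, W7Cover.h0_of_geometricallyConnected] at h
  exact h

include hdim in
/-- There are `g` rational points with one section and no `H¹`. -/
theorem exists_good_points [IsSepClosed k] (g : ℕ) (hg : Curv2.genus k X = g) :
    ∃ τ : Fin g → {τ : Spec (CommRingCat.of k) ⟶ X // τ ≫ (X ↘ Spec (CommRingCat.of k)) = 𝟙 _},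
      hC k (∏ i, delta k (τ i) hdim) 0 = 1 ∧ hC k (∏ i, delta k (τ i) hdim) 1 = 0 := by
  haveI := CurveRR.isNoetherian_of_proper k X
  haveI := ClosedRep.GeomIntegral.geometricallyIntegral_of_smooth (X ↘ Spec (CommRingCat.of k))
  haveI : IsIntegral X := GeometricallyIntegral.isIntegral_of_subsingleton (X ↘ Spec (CommRingCat.of k))
  have h0 : CurveRR.h k (Coh.structureModule X) 0 = 1 := W7Cover.h0_of_geometricallyConnected
  have key : ∀ n : ℕ, n ≤ g → ∃ τ : Fin n → {τ : Spec (CommRingCat.of k) ⟶ X // τ ≫ (X ↘ Spec (CommRingCat.of k)) = 𝟙 _},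
      hC k (∏ i, delta k (τ i) hdim) 0 = 1 ∧ hC k (∏ i, delta k (τ i) hdim) 1 = g - n := by
    intro n
    induction n with
    | zero =>
      refine fun _ => ⟨Fin.elim0, ?_, ?_⟩
      · rw [Fin.prod_univ_zero, ← cls_structure, hC_cls, h0]
      · rw [Fin.prod_univ_zero, ← cls_structure, hC_cls, Nat.sub_zero]
        exact hg
    | succ n ih =>
      intro hn
      obtain ⟨τ, h₀, h₁⟩ := ih (by omega)
      obtain ⟨L, hL, hLc⟩ := PicGrp.exists_eq_cls (∏ i, delta k (τ i) hdim)
      rw [hLc, hC_cls] at h₀ h₁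
      obtain ⟨U, hU, hdrop⟩ := exists_open_h1_twist k hdim hL (by omega)
      haveI : Nonempty ↥U.toScheme := hU.to_subtype
      haveI : GeometricallyReduced (U.ι ≫ (X ↘ Spec (CommRingCat.of k))) := Rigid.geometricallyReduced_of_smooth _
      obtain ⟨s, hs⟩ := Groth.Agent.S18366.result k (U.ι ≫ (X ↘ Spec (CommRingCat.of k)))
      let new : {τ : Spec (CommRingCat.of k) ⟶ X // τ ≫ (X ↘ Spec (CommRingCat.of k)) = 𝟙 _} :=
        ⟨s ≫ U.ι, (Category.assoc _ _ _).trans hs⟩
      obtain ⟨M, hM, hMc⟩ := PicGrp.exists_eq_cls (delta k new hdim * ∏ i, delta k (τ i) hdim)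
      have hI := isInvertible_point k hdim new
      have hMI : Nonempty (CohB1.tensorMod M (ClSub.idealMod new.1.ker) ≅ L) :=
        (PicGrp.cls_eq_cls_iff (TMul.isInvertible_tensorMod hM hI) hL).1 (by
          rw [show PicGrp.cls _ (TMul.isInvertible_tensorMod hM hI) = PicGrp.cls M hM * PicGrp.cls _ hI from rfl,
            ← hMc, delta_inv k hdim new hI, ← hLc, mul_comm (delta k new hdim), mul_inv_cancel_right])
      have h1' := (hdrop new.1 new.2 M hM hMI).1 fun p => (s p).2
      have he : Curv2.euler k X M = Curv2.euler k X L + 1 := by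
        have h := degP_mul k hdim (delta k new hdim) (∏ i, delta k (τ i) hdim)
        have hp : degP k (delta k new hdim) = 1 :=
          degP_point k hdim (fun _ : Fin 1 => new.1) (fun _ => new.2) (fun _ => (Groth.Agent.S8914.result _).1 hI) 0
        rw [hMc, hp, hLc, degP_cls, degP_cls, Curv2.deg, Curv2.deg] at h
        omega
      rw [CurveRR.euler_eq hdim.le, CurveRR.euler_eq hdim.le] at he
      refine ⟨Fin.cons new τ, ?_, ?_⟩
      · rw [Fin.prod_univ_succ]
        simp only [Fin.cons_zero, Fin.cons_succ]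
        rw [hMc, hC_cls]
        omega
      · rw [Fin.prod_univ_succ]
        simp only [Fin.cons_zero, Fin.cons_succ]
        rw [hMc, hC_cls]
        omega
  obtain ⟨τ, h₀, h₁⟩ := key g le_rfl
  exact ⟨τ, h₀, by rw [h₁, Nat.sub_self]⟩

/-- The rational point of a factor. -/
def pt {N : ℕ} (x : Spec (CommRingCat.of k) ⟶ SymProd.fibPow (X ↘ Spec (CommRingCat.of k)) N)
    (hx : x ≫ WidePullback.base (fun (_ : Fin N) => (X ↘ Spec (CommRingCat.of k))) = 𝟙 _) (i : Fin N) :
    {τ : Spec (CommRingCat.of k) ⟶ X // τ ≫ (X ↘ Spec (CommRingCat.of k)) = 𝟙 _} :=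
  ⟨x ≫ WidePullback.π (fun (_ : Fin N) => (X ↘ Spec (CommRingCat.of k))) i, by
    rw [Category.assoc, WidePullback.π_arrow]; exact hx⟩

include hdim in
/-- The locus where a signed sum of coordinates plus a fixed class has one section and no `H¹` is open. -/
theorem exists_open_good {N p q : ℕ} (ι : Fin p → Fin N) (κ : Fin q → Fin N) (c₀ : PicLoc.PicSet X) :
    ∃ U : (SymProd.fibPow (X ↘ Spec (CommRingCat.of k)) N).Opens,
      ∀ (x : Spec (CommRingCat.of k) ⟶ SymProd.fibPow (X ↘ Spec (CommRingCat.of k)) N)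
        (hx : x ≫ WidePullback.base (fun (_ : Fin N) => (X ↘ Spec (CommRingCat.of k))) = 𝟙 _),
        (∀ z, x z ∈ U) ↔
          hC k ((∏ i, delta k (pt k x hx (ι i)) hdim) * (∏ j, delta k (pt k x hx (κ j)) hdim)⁻¹ * c₀) 0 = 1 ∧
          hC k ((∏ i, delta k (pt k x hx (ι i)) hdim) * (∏ j, delta k (pt k x hx (κ j)) hdim)⁻¹ * c₀) 1 = 0 := by
  haveI := CurveRR.isNoetherian_of_proper k X
  haveI := ClosedRep.GeomIntegral.geometricallyIntegral_of_smooth (X ↘ Spec (CommRingCat.of k))
  haveI : IsIntegral X := GeometricallyIntegral.isIntegral_of_subsingleton (X ↘ Spec (CommRingCat.of k))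
  let f := X ↘ Spec (CommRingCat.of k)
  haveI := AlgEquivCurve.smoothOfRelativeDimension_one f hdim
  let T : Over (Spec (CommRingCat.of k)) := Over.mk (WidePullback.base (fun (_ : Fin N) => f))
  let π : Fin N → (T.left ⟶ X) := fun i => WidePullback.π (fun (_ : Fin N) => f) i
  have hπ : ∀ i, π i ≫ f = T.hom := fun i => WidePullback.π_arrow _ i
  let d : Fin N → PicLoc.PicSet (XT f T) := fun i =>
    divCl (HilbD.secGraph f T (π i) (hπ i))
      (effCartier_obj f T (d := 1) ⟨HilbD.secGraph f T (π i) (hπ i), HilbOne.secGraph_mem f T (π i) (hπ i)⟩)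
  let Φ := (∏ i, d (ι i)) * (∏ j, d (κ j))⁻¹ * pull (pullback.fst f T.hom) c₀
  refine ⟨⟨{t | GoodC f T Φ t}, isOpen_goodC f T Φ⟩, fun x hx => ?_⟩
  let one : Over (Spec (CommRingCat.of k)) := Over.mk (𝟙 _)
  let m : one ⟶ T := Over.homMk x hx
  have hd : ∀ i, pull (XTmap f m) (d i) = pull (pullback.fst f one.hom) (delta k (pt k x hx i) hdim) := fun i => by
    have hh : (one.hom ≫ (pt k x hx i).1) ≫ f = one.hom := by rw [Category.assoc, (pt k x hx i).2]; exact Category.comp_id _
    have e1 : (HilbD.secGraph f T (π i) (hπ i)).comap (XTmap f m) = (pt k x hx i).1.ker.comap (pullback.fst f one.hom) := by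
      rw [← HilbOne.pull_eq_comap, HilbOne.pull_secGraph, ← ker_sect_const f _ (pt k x hx i).2 one hh,
        HilbOne.secGraph_eq]
      exact congrArg Scheme.Hom.ker (pullback.hom_ext
        ((HilbOne.sect_fst f one _ _).trans ((Category.id_comp (x ≫ π i)).symm.trans (HilbOne.sect_fst f one _ hh).symm))
        ((HilbOne.sect_snd f one _ _).trans (HilbOne.sect_snd f one _ hh).symm))
    have e2 : BlowUp.IsEffCartierIdeal ((HilbD.secGraph f T (π i) (hπ i)).comap (XTmap f m)) := by
      rw [← HilbOne.pull_eq_comap]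
      exact effCartier_obj f one (d := 1) ⟨_, HilbOne.mem_pull f 1 m _ (HilbOne.secGraph_mem f T (π i) (hπ i))⟩
    rw [pull_divCl _ _ e2, delta, pull_divCl _ _ (e1 ▸ e2)]
    exact divCl_congr e1 _ _
  have hc₀ : pull (XTmap f m) (pull (pullback.fst f T.hom) c₀) = pull (pullback.fst f one.hom) c₀ := by
    rw [pull_pull, AbelMap.XTmap_fst f m]
  let c := (∏ i, delta k (pt k x hx (ι i)) hdim) * (∏ j, delta k (pt k x hx (κ j)) hdim)⁻¹ * c₀
  have hΦ : pull (XTmap f m) Φ = pull (pullback.fst f one.hom) c := by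
    simp only [Φ, c, map_mul, map_inv, map_prod, hd, hc₀]
  have hpb : IsPullback (pullback.fst f one.hom) (XTproj f one) f one.hom := IsPullback.of_hasPullback f one.hom
  obtain ⟨L, hL, hLc⟩ := PicGrp.exists_eq_cls c
  have key : ∀ z : Spec (CommRingCat.of k), GoodC f T Φ (x z) ↔ hC k c 0 = 1 ∧ hC k c 1 = 0 := fun z => by
    haveI : Smooth (XTproj f one) := SmoothOfRelativeDimension.smooth 1 _
    rw [show x z = m.left z from rfl, ← goodC_pull f m Φ z, hΦ, hLc, pull_cls, goodC_cls, hC_cls, hC_cls,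
      good_pull f hpb hL z]
    unfold Good
    rw [AbelMap.betti_field (TMul.isQCoh_of_isInvertible hL), AbelMap.betti_field (TMul.isQCoh_of_isInvertible hL)]
  exact ⟨fun h => (key (IsLocalRing.closedPoint k)).1 (h _), fun h z => (key z).2 h⟩

end Groth.Agent.PicCurve

namespace Groth.Agent.PicCurve

variable (k : Type u) [Field k] {X : Scheme.{u}} [X.Over (Spec (CommRingCat.of k))]
  [IsProper (X ↘ Spec (CommRingCat.of k))] [Smooth (X ↘ Spec (CommRingCat.of k))]
  [GeometricallyConnected (X ↘ Spec (CommRingCat.of k))] (hdim : topologicalKrullDim X = 1)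

/-- Points of the fibre power from points of the factors. -/
def tuple {N : ℕ} (τ : Fin N → {τ : Spec (CommRingCat.of k) ⟶ X // τ ≫ (X ↘ Spec (CommRingCat.of k)) = 𝟙 _}) :
    Spec (CommRingCat.of k) ⟶ SymProd.fibPow (X ↘ Spec (CommRingCat.of k)) N :=
  WidePullback.lift (𝟙 _) (fun i => (τ i).1) fun i => (τ i).2

theorem tuple_base {N : ℕ} (τ : Fin N → {τ : Spec (CommRingCat.of k) ⟶ X // τ ≫ (X ↘ Spec (CommRingCat.of k)) = 𝟙 _}) :
    tuple k τ ≫ WidePullback.base (fun (_ : Fin N) => (X ↘ Spec (CommRingCat.of k))) = 𝟙 _ :=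
  WidePullback.lift_base _ _ _ _

theorem pt_tuple {N : ℕ} (τ : Fin N → {τ : Spec (CommRingCat.of k) ⟶ X // τ ≫ (X ↘ Spec (CommRingCat.of k)) = 𝟙 _})
    (i : Fin N) : pt k (tuple k τ) (tuple_base k τ) i = τ i :=
  Subtype.ext (WidePullback.lift_π _ _ _ _ i)

include hdim in
/-- A product of ideals of points is invertible with the expected class. -/
theorem exists_cls_list {n : ℕ} (τ : Fin n → {τ : Spec (CommRingCat.of k) ⟶ X // τ ≫ (X ↘ Spec (CommRingCat.of k)) = 𝟙 _}) :
    ∃ h : PicF.IsInvertible (FGA.tensorList (List.ofFn fun i => ClSub.idealMod (τ i).1.ker)),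
      PicGrp.cls _ h = (∏ i, delta k (τ i) hdim)⁻¹ := by
  have hi := fun i => isInvertible_point k hdim (τ i)
  refine ⟨isInvertible_tensorList _ fun N hN => by obtain ⟨i, rfl⟩ := List.mem_ofFn.1 hN; exact hi i, ?_⟩
  rw [cls_tensorList _ hi, ← Finset.prod_inv_distrib]
  exact Finset.prod_congr rfl fun i _ => delta_inv k hdim (τ i) (hi i)

include hdim in
/-- Sums of `r ≤ g` general points have one section. -/
theorem exists_open_h0_sum [IsSepClosed k] {r : ℕ} (hr : r ≤ Curv2.genus k X) :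
    ∃ U : (SymProd.fibPow (X ↘ Spec (CommRingCat.of k)) r).Opens,
      (U : Set ↥(SymProd.fibPow (X ↘ Spec (CommRingCat.of k)) r)).Nonempty ∧
      ∀ (x : Spec (CommRingCat.of k) ⟶ SymProd.fibPow (X ↘ Spec (CommRingCat.of k)) r)
        (hx : x ≫ WidePullback.base (fun (_ : Fin r) => (X ↘ Spec (CommRingCat.of k))) = 𝟙 _),
        (∀ p, x p ∈ U) → ∀ M : X.Modules, PicF.IsInvertible M →
        Nonempty (CohB1.tensorMod M (FGA.tensorList (List.ofFn fun i : Fin r =>
          ClSub.idealMod (pt k x hx i).1.ker)) ≅ Coh.structureModule X) → CurveRR.h k M 0 = 1 := by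
  obtain ⟨s, hs⟩ := Nat.exists_eq_add_of_le hr
  obtain ⟨Q, hQ0, hQ1⟩ := exists_good_points k hdim (r + s) hs
  obtain ⟨U, hU⟩ := exists_open_good k hdim (id : Fin r → Fin r) (Fin.elim0 : Fin 0 → Fin r)
    (∏ j : Fin s, delta k (Q (Fin.natAdd r j)) hdim)
  simp only [Fin.prod_univ_zero, inv_one, mul_one, id] at hU
  rw [Fin.prod_univ_add] at hQ0 hQ1
  refine ⟨U, ⟨_, (hU (tuple k fun i => Q (Fin.castAdd s i)) (tuple_base k _)).2 ?_ (IsLocalRing.closedPoint k)⟩,
    fun x hx hxU M hM hMD => ?_⟩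
  · simp only [pt_tuple]
    exact ⟨hQ0, hQ1⟩
  · obtain ⟨h0, -⟩ := (hU x hx).1 hxU
    obtain ⟨hl, hlc⟩ := exists_cls_list k hdim fun i => pt k x hx i
    have hc : PicGrp.cls M hM * (∏ i, delta k (pt k x hx i) hdim)⁻¹ = 1 := by
      rw [← hlc, ← cls_structure]
      exact (PicGrp.cls_eq_cls_iff (TMul.isInvertible_tensorMod hM hl) TMul.isInvertible_structureModule).2 hMD
    rw [mul_inv_eq_one] at hc
    have hle := hC_le_mul_prod k hdim (∏ i, delta k (pt k x hx i) hdim) fun j => Q (Fin.natAdd r j)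
    have hge := one_le_hC_prod k hdim fun i => pt k x hx i
    rw [← hC_cls k hM, hc]
    omega

include hdim in
/-- General `2g` points `(D, D')`: `D + D' - gP` and `D' - D + gP` have one section. -/
theorem exists_open_h0_sum_sub [IsSepClosed k] (g : ℕ) (hg : Curv2.genus k X = g)
    (P : {τ : Spec (CommRingCat.of k) ⟶ X // τ ≫ (X ↘ Spec (CommRingCat.of k)) = 𝟙 _}) :
    (∃ U : (SymProd.fibPow (X ↘ Spec (CommRingCat.of k)) (2 * g)).Opens,
      (U : Set ↥(SymProd.fibPow (X ↘ Spec (CommRingCat.of k)) (2 * g))).Nonempty ∧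
      ∀ (x : Spec (CommRingCat.of k) ⟶ SymProd.fibPow (X ↘ Spec (CommRingCat.of k)) (2 * g))
        (hx : x ≫ WidePullback.base (fun (_ : Fin (2 * g)) => (X ↘ Spec (CommRingCat.of k))) = 𝟙 _),
        (∀ p, x p ∈ U) → ∀ M : X.Modules, PicF.IsInvertible M →
        Nonempty (CohB1.tensorMod M (FGA.tensorList (List.ofFn fun i : Fin (2 * g) =>
          ClSub.idealMod (pt k x hx i).1.ker)) ≅ CohB1.tensorPow (ClSub.idealMod P.1.ker) g) → CurveRR.h k M 0 = 1) ∧
    (∃ V : (SymProd.fibPow (X ↘ Spec (CommRingCat.of k)) (2 * g)).Opens,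
      (V : Set ↥(SymProd.fibPow (X ↘ Spec (CommRingCat.of k)) (2 * g))).Nonempty ∧
      ∀ (x : Spec (CommRingCat.of k) ⟶ SymProd.fibPow (X ↘ Spec (CommRingCat.of k)) (2 * g))
        (hx : x ≫ WidePullback.base (fun (_ : Fin (2 * g)) => (X ↘ Spec (CommRingCat.of k))) = 𝟙 _),
        (∀ p, x p ∈ V) → ∀ M : X.Modules, PicF.IsInvertible M →
        Nonempty (CohB1.tensorMod M (CohB1.tensorMod (FGA.tensorList (List.ofFn fun i : Fin g =>
            ClSub.idealMod (pt k x hx (Fin.cast (two_mul g).symm (Fin.natAdd g i))).1.ker))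
            (CohB1.tensorPow (ClSub.idealMod P.1.ker) g)) ≅
          FGA.tensorList (List.ofFn fun i : Fin g =>
            ClSub.idealMod (pt k x hx (Fin.cast (two_mul g).symm (Fin.castAdd g i))).1.ker)) →
        CurveRR.h k M 0 = 1) := by
  obtain ⟨Q, hQ0, hQ1⟩ := exists_good_points k hdim g hg
  have hP := isInvertible_point k hdim P
  have hPg : PicGrp.cls (CohB1.tensorPow (ClSub.idealMod P.1.ker) g) (isInvertible_tensorPow hP g) =
      (delta k P hdim ^ g)⁻¹ := by rw [cls_tensorPow hP, delta_inv k hdim P hP, inv_pow]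
  constructor
  · obtain ⟨U, hU⟩ := exists_open_good k hdim (id : Fin (2 * g) → Fin (2 * g)) (Fin.elim0 : Fin 0 → Fin (2 * g))
      (delta k P hdim ^ g)⁻¹
    simp only [Fin.prod_univ_zero, inv_one, mul_one, id] at hU
    refine ⟨U, ⟨_, (hU (tuple k fun i => Fin.append Q (fun _ => P) (Fin.cast (two_mul g) i)) (tuple_base k _)).2 ?_
      (IsLocalRing.closedPoint k)⟩, fun x hx hxU M hM hMD => ?_⟩
    · simp only [pt_tuple]
      rw [Fin.prod_congr' (fun i => delta k (Fin.append Q (fun _ => P) i) hdim) (two_mul g), Fin.prod_univ_add]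
      simp only [Fin.append_left, Fin.append_right, Fin.prod_const, mul_inv_cancel_right]
      exact ⟨hQ0, hQ1⟩
    · obtain ⟨hl, hlc⟩ := exists_cls_list k hdim fun i => pt k x hx i
      have hc : PicGrp.cls M hM * (∏ i, delta k (pt k x hx i) hdim)⁻¹ = (delta k P hdim ^ g)⁻¹ := by
        rw [← hlc, ← hPg]
        exact (PicGrp.cls_eq_cls_iff (TMul.isInvertible_tensorMod hM hl) (isInvertible_tensorPow hP g)).2 hMD
      rw [← hC_cls k hM, show PicGrp.cls M hM = (∏ i, delta k (pt k x hx i) hdim) * (delta k P hdim ^ g)⁻¹ by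
        rw [← hc, mul_comm, inv_mul_cancel_right]]
      exact ((hU x hx).1 hxU).1
  · let ι := fun i : Fin g => Fin.cast (two_mul g).symm (Fin.natAdd g i)
    let κ := fun i : Fin g => Fin.cast (two_mul g).symm (Fin.castAdd g i)
    obtain ⟨U, hU⟩ := exists_open_good k hdim ι κ (delta k P hdim ^ g)
    refine ⟨U, ⟨_, (hU (tuple k fun i => Fin.append (fun _ => P) Q (Fin.cast (two_mul g) i)) (tuple_base k _)).2 ?_
      (IsLocalRing.closedPoint k)⟩, fun x hx hxU M hM hMD => ?_⟩
    · simp only [pt_tuple, ι, κ, Fin.cast_cast, Fin.cast_refl, id, Fin.append_left, Fin.append_right, Fin.prod_const,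
        inv_mul_cancel_right]
      exact ⟨hQ0, hQ1⟩
    · obtain ⟨hl, hlc⟩ := exists_cls_list k hdim fun i => pt k x hx (ι i)
      obtain ⟨hl', hlc'⟩ := exists_cls_list k hdim fun i => pt k x hx (κ i)
      have hc : PicGrp.cls M hM * ((∏ i, delta k (pt k x hx (ι i)) hdim)⁻¹ * (delta k P hdim ^ g)⁻¹) =
          (∏ i, delta k (pt k x hx (κ i)) hdim)⁻¹ := by
        rw [← hlc, ← hPg, ← hlc']
        exact (PicGrp.cls_eq_cls_iff (TMul.isInvertible_tensorMod hM (TMul.isInvertible_tensorMod hl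
          (isInvertible_tensorPow hP g))) hl').2 hMD
      rw [← hC_cls k hM, show PicGrp.cls M hM = (∏ i, delta k (pt k x hx (ι i)) hdim) *
          (∏ i, delta k (pt k x hx (κ i)) hdim)⁻¹ * delta k P hdim ^ g by
        rw [← hc, ← mul_inv]
        generalize PicGrp.cls M hM = m
        generalize (∏ i, delta k (pt k x hx (ι i)) hdim) = a
        generalize delta k P hdim ^ g = b
        rw [mul_assoc, mul_assoc, mul_left_comm a m, mul_inv, mul_assoc a⁻¹, inv_mul_cancel, mul_one, mul_inv_cancel,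
          mul_one]]
      exact ((hU x hx).1 hxU).1

end Groth.Agent.PicCurve
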