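import Groth.Agent.PicCurve.Descend
import Groth.Agent.FpqcDescent.Sep
import Groth.Agent.ProperAt.FlatGeneric

/-!
The scheme of degree zero classes of a curve with a rational point over any field.
-/

set_option autoImplicit false
set_option backward.isDefEq.respectTransparency false
set_option backward.isDefEq.respectTransparency.types false
set_option linter.style.haveILetI false
set_option linter.unusedSectionVars false
set_option maxHeartbeats 2000000

universe u

open CategoryTheory CategoryTheory.Limits AlgebraicGeometry TopologicalSpace Opposite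
open PicF
open Groth.Agent.W7Cube (pull pull_pull pull_cls)

attribute [local instance] Groth.Agent.W7Cube.law

noncomputable section

namespace Groth.Agent.PicCurve

/-- Geometric irreducibility descends along extensions of the field. -/
theorem geometricallyIrreducible_of_fieldExt {K L : Type u} [Field K] [Field L] (φ : CommRingCat.of K ⟶ CommRingCat.of L)
    {Z Z' : Scheme.{u}} {b : Z' ⟶ Z} {m' : Z' ⟶ Spec (CommRingCat.of L)} {m : Z ⟶ Spec (CommRingCat.of K)}
    (H : IsPullback b m' m (Spec.map φ)) [GeometricallyIrreducible m'] : GeometricallyIrreducible m := by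
  refine ⟨fun M _ y W fst snd hW => ?_⟩
  -- a field over both extensions
  haveI : Surjective (Spec.map φ) := ⟨fun x => ⟨IsLocalRing.closedPoint L, Subsingleton.elim (α := PrimeSpectrum K) _ _⟩⟩
  obtain ⟨z, hz⟩ := (MorphismProperty.pullback_snd (P := @Surjective) (Spec.map φ) y ‹_›).1
    (IsLocalRing.closedPoint M)
  let F := (pullback (Spec.map φ) y).residueField z
  let rL : Spec F ⟶ Spec (CommRingCat.of L) := (pullback (Spec.map φ) y).fromSpecResidueField z ≫ pullback.fst _ _
  let rM : Spec F ⟶ Spec (CommRingCat.of M) := (pullback (Spec.map φ) y).fromSpecResidueField z ≫ pullback.snd _ _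
  have hr : rL ≫ Spec.map φ = rM ≫ y := by simp only [rL, rM, Category.assoc, pullback.condition]
  let W' := pullback m' rL
  have h1 : IsPullback (pullback.fst m' rL ≫ b) (pullback.snd m' rL) m (rL ≫ Spec.map φ) :=
    (IsPullback.of_hasPullback m' rL).paste_horiz H
  haveI : IrreducibleSpace W' :=
    GeometricallyIrreducible.geometrically_irreducibleSpace (f := m') rL _ _ (IsPullback.of_hasPullback m' rL)
  let c : W' ⟶ W := hW.lift (pullback.fst m' rL ≫ b) (pullback.snd m' rL ≫ rM) (by rw [h1.w, hr]; exact (Category.assoc _ _ _).symm)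
  have h2 : IsPullback c (pullback.snd m' rL) snd rM :=
    IsPullback.of_right (by rw [hW.lift_fst, ← hr]; exact h1) (hW.lift_snd _ _ _) hW
  haveI : Surjective rM := ⟨fun x => ⟨IsLocalRing.closedPoint F, Subsingleton.elim (α := PrimeSpectrum M) _ _⟩⟩
  haveI : Surjective c := MorphismProperty.of_isPullback (P := @Surjective) h2.flip ‹_›
  exact c.surjective.irreducibleSpace c.continuous

/-- **The scheme of degree zero classes.** -/
theorem exists_degZero_any {k : Type u} [Field k] {X : Scheme.{u}} (f : X ⟶ Spec (CommRingCat.of k))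
    [IsProper f] [SmoothOfRelativeDimension 1 f] [GeometricallyConnected f] [GeometricallyIrreducible f]
    [Smooth f] [IsIntegral X] (hd : topologicalKrullDim X = 1) (σ : Spec (CommRingCat.of k) ⟶ X)
    (hσ : σ ≫ f = 𝟙 _) :
    ∃ (W : Over (Spec (CommRingCat.of k))) (ξ : PicLoc.PicSet (XT f W)),
      IsProper W.hom ∧ Smooth W.hom ∧ GeometricallyIrreducible W.hom ∧
      pull (secT f σ hσ W) ξ = 1 ∧ (∀ t, degC f W ξ t = 0) ∧ Classifies f σ hσ (Zero' f) W ξ := by
  have hX : Curve.IsSmoothProperCurve k X f := ⟨‹_›, ‹_›, ‹_›, hd⟩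
  have hdim : ∀ z, topologicalKrullDim ↥(f.fiber z) = 1 := fun z => (dim_fiber_spec f z).trans hd
  letI : X.Over (Spec (CommRingCat.of k)) := ⟨f⟩
  have hO := betti_structure_curve f hX σ hσ
  obtain ⟨k', _, _, hfin, τ, hτi, hτ⟩ := exists_points f hd (2 * Curv2.genus k X + 2)
  haveI := hfin
  let p : Spec (CommRingCat.of k') ⟶ Spec (CommRingCat.of k) := Spec.map (CommRingCat.ofHom (algebraMap k k'))
  haveI : IsFinite p := (IsFinite.SpecMap_iff _).2 (RingHom.finite_algebraMap.2 hfin)
  haveI : Flat p := Flat.SpecMap_iff.2 (RingHom.flat_algebraMap_iff.2 inferInstance)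
  haveI : LocallyOfFinitePresentation p := inferInstance
  haveI : Surjective p := ⟨fun x => ⟨IsLocalRing.closedPoint k', Subsingleton.elim (α := PrimeSpectrum k) _ _⟩⟩
  -- the curve over the extension
  let fK := fB f p
  let σK := σB f σ hσ p
  have hσK : σK ≫ fK = 𝟙 _ := σB_proj f σ hσ p
  haveI : GeometricallyConnected fK := MorphismProperty.pullback_snd _ _ ‹GeometricallyConnected f›
  haveI : GeometricallyIrreducible fK := MorphismProperty.pullback_snd _ _ ‹GeometricallyIrreducible f›
  haveI : Smooth fK := MorphismProperty.pullback_snd _ _ ‹Smooth f›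
  haveI : IsProper fK := MorphismProperty.pullback_snd _ _ ‹IsProper f›
  letI : (pullback f p).Over (Spec (CommRingCat.of k')) := ⟨fK⟩
  haveI : IsProper (pullback f p ↘ Spec (CommRingCat.of k')) := ‹IsProper fK›
  haveI : Smooth (pullback f p ↘ Spec (CommRingCat.of k')) := ‹Smooth fK›
  haveI : GeometricallyConnected (pullback f p ↘ Spec (CommRingCat.of k')) := ‹GeometricallyConnected fK›
  have hdK : topologicalKrullDim ↥(pullback f p) = 1 :=
    (dim_fiber_spec fK (IsLocalRing.closedPoint k')).symm.trans (dim_fB f p hdim _)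
  haveI : IsIntegral (pullback f p) := W7Slope.isIntegral_of_geomConn k' hdK
  have hXK : Curve.IsSmoothProperCurve k' (pullback f p) fK := ⟨‹_›, ‹_›, ‹_›, hdK⟩
  have hOK := betti_structure_curve fK hXK σK hσK
  have hgen : Curv2.genus k' (pullback f p) = Curv2.genus k X := by
    rw [← (hOK (IsLocalRing.closedPoint k')).2, ← (hO (p (IsLocalRing.closedPoint k'))).2]
    exact (PicSmooth.betti_iso fK (PicLoc.pullbackStructureIso (pullback.fst f p)).symm _ 1).trans
      (PicSmooth.betti_of_isPullback (IsPullback.of_hasPullback f p) _ (QC.isQCoh_unit X) _ 1)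
  let τK : Fin (2 * Curv2.genus k X + 2) → (Spec (CommRingCat.of k') ⟶ pullback f p) := fun i =>
    pullback.lift (τ i) (𝟙 _) (by rw [Category.id_comp]; exact hτ i)
  have hτK : ∀ i, τK i ≫ fK = 𝟙 _ := fun i => pullback.lift_snd _ _ _
  have hτKi : Function.Injective τK := fun a b h => hτi (by
    have := congrArg (· ≫ pullback.fst f p) h
    simpa [τK] using this)
  have hcov := fun T c t => exists_translation fK hXK σK hσK τK hτK hτKi (by rw [hgen]) T c t
  obtain ⟨P, ξP, hP⟩ := rigRepresentable_of_points fK hXK σK hσK τK hτK hτKi (by rw [hgen])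
  let u : PicLoc.PicSet (XT fK P) := ⟨ξP.1, ξP.2.1⟩
  have hu : pull (secT fK σK hσK P) u = 1 := Subtype.ext ξP.2.2
  let U : P.left.Opens := ⟨{t | degC fK P u t = 0}, (isLocallyConstant_degC fK P u).isOpen_fiber 0⟩
  let J := AbDual.ovr P U.ι
  let uJ := pull (XTmap fK (AbDual.ovrHom P U.ι)) u
  have huJ : pull (secT fK σK hσK J) uJ = 1 := pull_secT _ hu
  have hu0 : Zero fK J uJ := fun t => by rw [degC_pull]; exact t.2
  have hJ : Classifies fK σK hσK (Zero fK) J uJ := fun T c hc hc0 => by
    obtain ⟨g, hg, hgu⟩ := hP T ⟨c.1, c.2, congrArg Subtype.val hc⟩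
    have hgc : pull (XTmap fK g) u = c := Subtype.ext hg
    have hr : Set.range g.left ⊆ Set.range U.ι := by
      rintro _ ⟨t, rfl⟩
      rw [Scheme.Opens.range_ι]
      show degC fK P u (g.left t) = 0
      rw [← degC_pull, hgc]
      exact hc0 t
    let g' : T ⟶ J := Over.homMk (IsOpenImmersion.lift U.ι g.left hr) (by
      show _ ≫ U.ι ≫ P.hom = _
      rw [IsOpenImmersion.lift_fac_assoc]
      exact Over.w g)
    have hg' : g' ≫ AbDual.ovrHom P U.ι = g := Over.OverMorphism.ext (IsOpenImmersion.lift_fac _ _ _)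
    refine ⟨g', by show pull _ (pull _ u) = c; rw [pull_pull, S12404.XTmap_comp, hg', hgc], fun a ha => ?_⟩
    have : a ≫ AbDual.ovrHom P U.ι = g := hgu _ (congrArg Subtype.val (show pull _ u = c by
      rw [← S12404.XTmap_comp, ← pull_pull]; exact ha))
    exact Over.OverMorphism.ext ((cancel_mono U.ι).1 ((congrArg CommaMorphism.left this).trans
      (congrArg CommaMorphism.left hg').symm))
  obtain ⟨H, Z, hH, hHp, hHs⟩ := Groth.Agent.S1170.result k' _ fK hXK (Curv2.genus k' (pullback f p))
  haveI := hHp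
  haveI := hHs
  obtain ⟨hJp, hJs, hJi, L, hL⟩ := props_degZero fK σK hσK (dim_fB f p hdim) huJ hu0 hJ
    (Curv2.genus k' (pullback f p)) hOK (isIso_app_proj fK hXK σK hσK) H Z hH hcov
  obtain ⟨W, ξ, π, hξ1, hξ0, hξ, hsq⟩ := exists_descended_classifier f σ hσ p uJ huJ hu0 hJ
    (isIso_app_proj f hX σ hσ) L hL
  haveI := hJp
  haveI := hJs
  haveI := hJi
  have hQ : (@Surjective ⊓ @Flat ⊓ @QuasiCompact : MorphismProperty Scheme.{u}) p := ⟨⟨‹_›, ‹_›⟩, inferInstance⟩
  haveI : IsSeparated W.hom := MorphismProperty.of_isPullback_of_descendsAlong (P := @IsSeparated) hsq.flip hQ inferInstance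
  haveI : LocallyOfFiniteType W.hom :=
    MorphismProperty.of_isPullback_of_descendsAlong (P := @LocallyOfFiniteType) hsq.flip hQ inferInstance
  haveI : IsProper W.hom := ProperAt.isProper_of_fieldExt _ hsq
  exact ⟨W, ξ, inferInstance,
    MorphismProperty.of_isPullback_of_descendsAlong (P := @Smooth) hsq.flip hQ inferInstance,
    geometricallyIrreducible_of_fieldExt _ hsq, hξ1, hξ0, hξ⟩

end Groth.Agent.PicCurve
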