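import Groth.Prelude.Def_ModFun2
import Groth.Prelude.Def_RelProj
import Groth.Agent.PicCurve.Jacobian
import Groth.Agent.LefRel.Embed
import Groth.Agent.PnSpec.Twist
import Groth.Agent.S8121
import Groth.Agent.S18366
import Groth.Agent.ZeroSch.Basic
import Groth.Agent.ClosedRep.GeomIntegral

/-!
The degree `d` Picard scheme of a curve with a rational point: a projective fine moduli space.
-/

set_option autoImplicit false
set_option backward.isDefEq.respectTransparency false
set_option backward.isDefEq.respectTransparency.types false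
set_option linter.style.haveILetI false
set_option linter.unusedSectionVars false
set_option maxHeartbeats 1000000

universe u

open CategoryTheory CategoryTheory.Limits AlgebraicGeometry TopologicalSpace
open PicF
open Groth.Agent.W7Cube (pull pull_pull pull_cls)

attribute [local instance] Groth.Agent.W7Cube.law

noncomputable section

namespace Groth.Agent.PicCurve

/-- A proper scheme over a field with an ample module is H-projective. -/
theorem isHProjective_of_ample {k : Type u} [Field k] {Y : Scheme.{u}} (q : Y ⟶ Spec (CommRingCat.of k)) [IsProper q]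
    {L : Y.Modules} (hL : CohB1.IsAmple L) : RelProj.IsHProjective q := by
  obtain ⟨n, -, r, -, -, hr, hcl, -⟩ := LefRel.exists_closedImmersion q hL 0
  haveI := hcl
  obtain ⟨e, he, -⟩ := PnSpec.exists_iso_twist n k
  exact ⟨n, r ≫ e.hom, inferInstance, by rw [Category.assoc, he, hr]⟩

variable {k : Type u} [Field k] {X : Scheme.{u}} (f : X ⟶ Spec (CommRingCat.of k)) [IsProper f]
  [SmoothOfRelativeDimension 1 f] [GeometricallyConnected f] [GeometricallyIrreducible f] [Smooth f] [IsIntegral X]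
  (hd : topologicalKrullDim X = 1) (σ : Spec (CommRingCat.of k) ⟶ X) (hσ : σ ≫ f = 𝟙 _)

theorem pull_zpow {Y Y' : Scheme.{u}} (g : Y' ⟶ Y) (c : PicLoc.PicSet Y) (n : ℤ) : pull g (c ^ n) = pull g c ^ n :=
  map_zpow (pull g) c n

include hd in
theorem degC_baseCl_zpow (T : Over (Spec (CommRingCat.of k))) (n : ℤ) (t : T.left) :
    degC f T (baseCl f σ hσ T ^ n) t = n := by
  have hdim : ∀ z, topologicalKrullDim ↥(f.fiber z) = 1 := fun z => (dim_fiber_spec f z).trans hd
  let D : PicLoc.PicSet (XT f T) →* Multiplicative ℤ :=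
    MonoidHom.mk' (fun c => Multiplicative.ofAdd (degC f T c t)) fun a b => by rw [degC_mul f hdim]; rfl
  have h : degC f T (baseCl f σ hσ T ^ n) t = n • degC f T (baseCl f σ hσ T) t :=
    congrArg Multiplicative.toAdd (map_zpow D (baseCl f σ hσ T) n)
  rw [h, show degC f T (baseCl f σ hσ T) t = 1 by rw [baseCl, degC_divCl f hdim]; rfl, smul_eq_mul, mul_one]

include hd in
theorem ok_iff (d : ℤ) (T : Over (Spec (CommRingCat.of k))) {E : (XT f T).Modules} (hE : PicF.IsInvertible E) :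
    ModFun.FibDeg f 1 d T E ↔ ∀ t, degC f T (PicGrp.cls E hE) t = d := by
  constructor
  · intro h t
    obtain ⟨Ω, _, _, z, y, hy⟩ := AbelMap.exists_geomPt T.left t
    letI : (XT f (ptOver (z ≫ T.hom))).Over (Spec (CommRingCat.of Ω)) := ⟨XTproj f (ptOver (z ≫ T.hom))⟩
    have h1 := h Ω z
    rw [← hy, show z y = (Over.homMk z rfl : ptOver (z ≫ T.hom) ⟶ T).left y from rfl, ← degC_pull f, degC_pt f,
      pull_cls]
    haveI : IsProper (XT f (ptOver (z ≫ T.hom)) ↘ Spec (CommRingCat.of Ω)) := isProper_proj f _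
    haveI : IsIntegral (XT f (ptOver (z ≫ T.hom))) := (curve_pt f (fun y => (dim_fiber_spec f y).trans hd) (z ≫ T.hom)).2
    rw [degP_cls]
    exact h1
  · intro h Ω _ _ z
    letI : (XT f (ptOver (z ≫ T.hom))).Over (Spec (CommRingCat.of Ω)) := ⟨XTproj f (ptOver (z ≫ T.hom))⟩
    haveI : IsProper (XT f (ptOver (z ≫ T.hom)) ↘ Spec (CommRingCat.of Ω)) := isProper_proj f _
    haveI : IsIntegral (XT f (ptOver (z ≫ T.hom))) := (curve_pt f (fun y => (dim_fiber_spec f y).trans hd) (z ≫ T.hom)).2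
    let y : (ptOver (z ≫ T.hom)).left := IsLocalRing.closedPoint Ω
    have h1 := degC_pt f (z ≫ T.hom) (pull (XTmap f (Over.homMk z rfl : ptOver (z ≫ T.hom) ⟶ T)) (PicGrp.cls E hE)) y
    rw [degC_pull f, h, pull_cls, degP_cls] at h1
    exact h1.symm

include hd hσ in
/-- **The degree `d` Picard scheme**: smooth, projective, a fine moduli space. -/
theorem exists_picDeg_fine (d : ℤ) :
    ∃ (J : Over (Spec (CommRingCat.of k))) (ξ : (ModFun.PicDeg f d).Fam J),
      RelProj.IsHProjective J.hom ∧ Smooth J.hom ∧ GeometricallyIntegral J.hom ∧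
      ModFun.IsUnivFamily ⊤ (ModFun.PicDeg f d) J ξ ∧
      ∀ (T : Over (Spec (CommRingCat.of k))) (a : T ⟶ J), (ModFun.PicDeg f d).ok T ((ModFun.PicDeg f d).pull a ξ) := by
  letI : X.Over (Spec (CommRingCat.of k)) := ⟨f⟩
  have hX : Curve.IsSmoothProperCurve k X f := ⟨‹_›, ‹_›, ‹_›, hd⟩
  have hdim : ∀ z, topologicalKrullDim ↥(f.fiber z) = 1 := fun z => (dim_fiber_spec f z).trans hd
  obtain ⟨W, ξ, hp, hs, hi, hξ1, hξ0, hξ⟩ := exists_degZero_any f hd σ hσ
  haveI := hp
  haveI := hs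
  haveI := hi
  haveI : GeometricallyReduced W.hom := Rigid.geometricallyReduced_of_smooth W.hom
  haveI hgi : GeometricallyIntegral W.hom :=
    GeometricallyIntegral.of_geometricallyReduced_of_geometricallyIrreducible W.hom
  obtain ⟨G⟩ := exists_grpObj_degZero f σ hσ hdim hξ1 hξ0 hξ
  letI := G
  obtain ⟨L, hL, -⟩ := Groth.Agent.S8121.result k W
  obtain ⟨E, hE, hEc⟩ := PicGrp.exists_eq_cls (ξ * baseCl f σ hσ W ^ d)
  have hdeg : ∀ (T : Over (Spec (CommRingCat.of k))) (a : T ⟶ W) (t : T.left),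
      degC f T (pull (XTmap f a) (ξ * baseCl f σ hσ W ^ d)) t = d := fun T a t => by
    rw [degC_pull f, degC_mul f hdim, hξ0, degC_baseCl_zpow f hd σ hσ, zero_add]
  have hokE : ∀ (T : Over (Spec (CommRingCat.of k))) (a : T ⟶ W),
      (ModFun.PicDeg f d).ok T ((ModFun.PicDeg f d).pull a E) := fun T a => by
    have hi := PicLoc.isInvertible_pullback (XTmap f a) hE
    refine ⟨⟨trivial, CurveRR.isFinLocFreeOfRank_one hi⟩, (ok_iff f hd d T hi).2 fun t => ?_⟩
    rw [← pull_cls (XTmap f a) E hE, ← hEc, hdeg]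
  refine ⟨W, E, isHProjective_of_ample W.hom hL, hs, hgi, ⟨⟨⟨trivial, CurveRR.isFinLocFreeOfRank_one hE⟩,
    (ok_iff f hd d W hE).2 fun t => by rw [← hEc, degC_mul f hdim, hξ0, degC_baseCl_zpow f hd σ hσ, zero_add]⟩, ?_⟩,
    hokE⟩
  intro T x _ hx
  have hxi : PicF.IsInvertible x := ZeroSch.isInvertible_of_rankOne hx.1.2
  have hxd := (ok_iff f hd d T hxi).1 hx.2
  let b := baseCl f σ hσ T ^ d
  let c := rigify f σ hσ T (PicGrp.cls x hxi * b⁻¹)
  have hc0 : Zero' f T c := fun t => by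
    rw [degC_rigify f hdim, degC_mul f hdim, degC_inv f hdim, hxd, degC_baseCl_zpow f hd σ hσ, add_neg_cancel]
  obtain ⟨g, hg, hgu⟩ := hξ T c (rigify_mem f σ hσ T _) hc0
  have hpull : ∀ g : T ⟶ W, pull (XTmap f g) (ξ * baseCl f σ hσ W ^ d) = pull (XTmap f g) ξ * b := fun g => by
    rw [map_mul, pull_zpow, pull_baseCl]
  have hiff : ∀ g : T ⟶ W, (ModFun.PicDeg f d).r T ((ModFun.PicDeg f d).pull g E) x ↔
      pull (XTmap f g) ξ = c := fun g => by
    constructor
    · rintro ⟨M, hM, ⟨i⟩⟩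
      have h : PicGrp.cls x hxi = pull (XTmap f g) ξ * b * pull (XTproj f T) (PicGrp.cls M hM) := by
        rw [← hpull, hEc, pull_cls, pull_cls]
        exact (PicGrp.cls_eq_cls_iff hxi (TMul.isInvertible_tensorMod (PicLoc.isInvertible_pullback _ hE)
          (PicLoc.isInvertible_pullback _ hM))).2 ⟨i⟩
      show _ = rigify f σ hσ T (PicGrp.cls x hxi * b⁻¹)
      rw [h, mul_right_comm _ _ b⁻¹, mul_inv_cancel_right, rigify_mul, rigify_base, mul_one,
        rigify_of_mem f σ hσ (pull_secT g hξ1)]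
    · intro h
      have h1 : rigify f σ hσ T (pull (XTmap f g) ξ) = rigify f σ hσ T (PicGrp.cls x hxi * b⁻¹) := by
        rw [rigify_of_mem f σ hσ (pull_secT g hξ1), h]
      obtain ⟨n, hn⟩ := eq_mul_base_of_rigify_eq f σ hσ h1.symm
      obtain ⟨M, hM, hMc⟩ := PicGrp.exists_eq_cls n
      refine ⟨M, hM, (PicGrp.cls_eq_cls_iff hxi (TMul.isInvertible_tensorMod (PicLoc.isInvertible_pullback _ hE)
        (PicLoc.isInvertible_pullback _ hM))).1 ?_⟩
      show PicGrp.cls x hxi = PicGrp.cls _ (PicLoc.isInvertible_pullback _ hE) * PicGrp.cls _ (PicLoc.isInvertible_pullback _ hM)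
      rw [← pull_cls (XTmap f g) E hE, ← pull_cls (XTproj f T) M hM, ← hEc, hpull, ← hMc, mul_right_comm, ← hn,
        inv_mul_cancel_right]
  exact ⟨g, (hiff g).2 hg, fun a ha => hgu a ((hiff a).1 ha)⟩

end Groth.Agent.PicCurve
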