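import Groth.Agent.PicCurve.AbelSum
import Groth.Agent.PicCurve.PointSum
import Groth.Agent.PicCurve.PicDegProj
import Groth.Agent.HilbSum.Split
import Groth.Agent.CurveOmega.GeneralDual
import Groth.Agent.SubGen.AlgClosed
import Groth.Agent.PicInf.JacTangent

/-!
Classes on a curve over an algebraically closed field: effective classes are sums of points, adding general points,
and the form of duality for classes.
-/

set_option autoImplicit false
set_option backward.isDefEq.respectTransparency false
set_option backward.isDefEq.respectTransparency.types false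
set_option linter.style.haveILetI false
set_option linter.unusedSectionVars false
set_option maxHeartbeats 1000000

universe u

open CategoryTheory CategoryTheory.Limits AlgebraicGeometry TopologicalSpace
open TMul (homOf)
open PicF
open Groth.Agent.W7Cube (pull pull_pull pull_cls)

attribute [local instance] Groth.Agent.W7Cube.law

noncomputable section

namespace Groth.Agent.PicCurve

/-- Invertible modules on the spectrum of a field are trivial. -/
theorem picSet_field_eq_one {k : Type u} [Field k] (c : PicLoc.PicSet (Spec (CommRingCat.of k))) : c = 1 :=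
  Subtype.ext (PicInf.Jac.trivialCl_of_local c.2)

variable (k : Type u) [Field k] {X : Scheme.{u}} [X.Over (Spec (CommRingCat.of k))]
  [IsProper (X ↘ Spec (CommRingCat.of k))] [Smooth (X ↘ Spec (CommRingCat.of k))]
  [GeometricallyConnected (X ↘ Spec (CommRingCat.of k))] (hdim : topologicalKrullDim X = 1)

local notation "fX" => (X ↘ Spec (CommRingCat.of k))

/-- The one point test scheme. -/
abbrev onePt : Over (Spec (CommRingCat.of k)) := Over.mk (𝟙 (Spec (CommRingCat.of k)))

/-- The curve as the family over the point. -/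
def toPt : X ⟶ XT fX (onePt k) := pullback.lift (𝟙 X) fX (by simp)

theorem toPt_fst : toPt k (X := X) ≫ pullback.fst fX (onePt k).hom = 𝟙 X := pullback.lift_fst _ _ _

theorem fst_toPt : pullback.fst fX (onePt k).hom ≫ toPt k (X := X) = 𝟙 _ := by
  refine pullback.hom_ext ?_ ?_
  · rw [Category.assoc, toPt_fst, Category.comp_id, Category.id_comp]
  · rw [Category.assoc, show toPt k (X := X) ≫ pullback.snd fX (onePt k).hom = fX from pullback.lift_snd _ _ _,
      Category.id_comp]
    exact pullback.condition.trans (Category.comp_id _)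

theorem pull_fst_toPt (c : PicLoc.PicSet (XT fX (onePt k))) :
    pull (pullback.fst fX (onePt k).hom) (pull (toPt k) c) = c := by
  rw [pull_pull, fst_toPt, pull_id]

theorem pull_toPt_fst (c : PicLoc.PicSet X) :
    pull (toPt k) (pull (pullback.fst fX (onePt k).hom) c) = c := by
  rw [pull_pull, toPt_fst, pull_id]

/-- Rigidification does nothing over a field. -/
theorem pull_toPt_rigify (σ : Spec (CommRingCat.of k) ⟶ X) (hσ : σ ≫ fX = 𝟙 _)
    (c : PicLoc.PicSet (XT fX (onePt k))) :
    pull (toPt k) (rigify fX σ hσ (onePt k) c) = pull (toPt k) c := by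
  rw [rigify, show (pull (secT fX σ hσ (onePt k)) c)⁻¹ = 1 from picSet_field_eq_one _, map_one, mul_one]

include hdim in
/-- The class of the graph of a rational point is the class of the point. -/
theorem pull_toPt_ptCl [SmoothOfRelativeDimension 1 fX] (τ : {τ : Spec (CommRingCat.of k) ⟶ X // τ ≫ fX = 𝟙 _})
    (hx : ((onePt k).hom ≫ τ.1) ≫ fX = (onePt k).hom) :
    pull (toPt k) (ptCl fX (onePt k) ((onePt k).hom ≫ τ.1) hx) = delta k τ hdim := by
  haveI := CurveRR.isNoetherian_of_proper k X
  haveI := ClosedRep.GeomIntegral.geometricallyIntegral_of_smooth fX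
  haveI : IsIntegral X := GeometricallyIntegral.isIntegral_of_subsingleton fX
  have hE : BlowUp.IsEffCartierIdeal τ.1.ker := effCartier_rat fX ⟨‹_›, ‹_›, ‹_›, hdim⟩ τ.1 τ.2
  have e : HilbD.secGraph fX (onePt k) ((onePt k).hom ≫ τ.1) hx = τ.1.ker.comap (pullback.fst fX (onePt k).hom) := by
    rw [HilbOne.secGraph_eq]
    exact ker_sect_const fX τ.1 τ.2 (onePt k) hx
  have h := effCartier_obj fX (onePt k) (d := 1) ⟨_, HilbOne.secGraph_mem fX (onePt k) ((onePt k).hom ≫ τ.1) hx⟩
  rw [ptCl, divCl_congr e _ (e ▸ h), ← pull_divCl _ hE (e ▸ h), pull_toPt_fst]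
  rfl

include hdim in
/-- The degree over the point is the degree. -/
theorem degC_toPt [SmoothOfRelativeDimension 1 fX] (c : PicLoc.PicSet (XT fX (onePt k))) (t : (onePt k).left) :
    degC fX (onePt k) c t = degP k (pull (toPt k) c) := by
  haveI := CurveRR.isNoetherian_of_proper k X
  haveI := ClosedRep.GeomIntegral.geometricallyIntegral_of_smooth fX
  haveI : IsIntegral X := GeometricallyIntegral.isIntegral_of_subsingleton fX
  obtain ⟨c', rfl⟩ : ∃ c', c = pull (pullback.fst fX (onePt k).hom) c' := ⟨_, (pull_fst_toPt k c).symm⟩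
  obtain ⟨L, hL, rfl⟩ := PicGrp.exists_eq_cls c'
  rw [pull_toPt_fst, degP_cls, pull_cls, degC_cls]
  show PerfAux.eulerChar _ _ t - PerfAux.eulerChar _ (Coh.structureModule _) t =
    Curv2.euler k X L - (1 : ℕ) * Curv2.euler k X (Coh.structureModule X)
  rw [Nat.cast_one, one_mul]
  have key : ∀ (F : X.Modules), Coh.IsQCoh F →
      PerfAux.eulerChar (XTproj fX (onePt k)) ((Scheme.Modules.pullback (pullback.fst fX (onePt k).hom)).obj F) t =
        Curv2.euler k X F := fun F hF =>
    finsum_congr fun i => congrArg (fun n : ℕ => (-1 : ℤ) ^ i * (n : ℤ))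
      ((PicSmooth.betti_of_isPullback (IsPullback.of_hasPullback fX (onePt k).hom) F hF t i).trans
        (AbelMap.betti_field hF _ i))
  rw [← key L (TMul.isQCoh_of_isInvertible hL), ← key _ (QC.isQCoh_unit _)]
  refine congrArg _ (finsum_congr fun i => ?_)
  rw [PicSmooth.betti_iso (XTproj fX (onePt k)) (PicLoc.pullbackStructureIso (pullback.fst fX (onePt k).hom)) t i]

include hdim in
/-- Euler characteristic of a class. -/
theorem hC_sub {g : ℕ} (hg : Curv2.genus k X = g) (c : PicLoc.PicSet X) :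
    (hC k c 0 : ℤ) - hC k c 1 = degP k c + 1 - g := by
  haveI := CurveRR.isNoetherian_of_proper k X
  haveI := ClosedRep.GeomIntegral.geometricallyIntegral_of_smooth fX
  haveI : IsIntegral X := GeometricallyIntegral.isIntegral_of_subsingleton fX
  obtain ⟨L, hL, rfl⟩ := PicGrp.exists_eq_cls c
  rw [hC_cls, hC_cls, degP_cls, Curv2.deg, CurveRR.euler_eq hdim.le, CurveRR.euler_eq hdim.le,
    W7Cover.h0_of_geometricallyConnected]
  have : CurveRR.h k (Coh.structureModule X) 1 = g := hg
  rw [this]
  push_cast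
  ring

/-- The canonical class. -/
def canonCl (hdim : topologicalKrullDim X = 1) : PicLoc.PicSet X :=
  PicGrp.cls (Omega.sheaf fX)
    (haveI := CurveRR.isNoetherian_of_proper k X
     haveI := ClosedRep.GeomIntegral.geometricallyIntegral_of_smooth fX
     haveI : IsIntegral X := GeometricallyIntegral.isIntegral_of_subsingleton fX
     CurveOmega.isInvertible_omega k X hdim W7Cover.h0_of_geometricallyConnected)

include hdim in
/-- Serre duality for classes. -/
theorem hC_one (c : PicLoc.PicSet X) : hC k c 1 = hC k (canonCl k hdim * c⁻¹) 0 := by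
  haveI := CurveRR.isNoetherian_of_proper k X
  haveI := ClosedRep.GeomIntegral.geometricallyIntegral_of_smooth fX
  haveI : IsIntegral X := GeometricallyIntegral.isIntegral_of_subsingleton fX
  have h0 : CurveRR.h k (Coh.structureModule X) 0 = 1 := W7Cover.h0_of_geometricallyConnected
  obtain ⟨L, hL, rfl⟩ := PicGrp.exists_eq_cls c
  obtain ⟨Linv, hLinv, ⟨eL⟩⟩ := SymAlg.exists_inverse hL
  have hi : (PicGrp.cls L hL)⁻¹ = PicGrp.cls Linv hLinv :=
    inv_eq_of_mul_eq_one_right (by
      rw [← cls_structure]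
      exact (PicGrp.cls_eq_cls_iff (TMul.isInvertible_tensorMod hL hLinv) TMul.isInvertible_structureModule).2 ⟨eL⟩)
  rw [hC_cls, hi, show canonCl k hdim * PicGrp.cls Linv hLinv = PicGrp.cls _ (TMul.isInvertible_tensorMod
    (CurveOmega.isInvertible_omega k X hdim h0) hLinv) from rfl, hC_cls]
  exact CurveOmega.h1_eq' k X hdim h0 hL eL

theorem hC_one_zero : hC k (1 : PicLoc.PicSet X) 0 = 1 := by
  rw [← cls_structure, hC_cls]
  exact W7Cover.h0_of_geometricallyConnected

include hdim in
theorem degP_delta (τ : {τ : Spec (CommRingCat.of k) ⟶ X // τ ≫ fX = 𝟙 _}) : degP k (delta k τ hdim) = 1 := by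
  haveI := CurveRR.isNoetherian_of_proper k X
  haveI := ClosedRep.GeomIntegral.geometricallyIntegral_of_smooth fX
  haveI : IsIntegral X := GeometricallyIntegral.isIntegral_of_subsingleton fX
  exact degP_point k hdim (fun _ : Fin 1 => τ.1) (fun _ => τ.2)
    (fun _ => (Groth.Agent.S8914.result _).1 (isInvertible_point k hdim τ)) 0

include hdim in
theorem degP_prod : ∀ {n : ℕ} (a : Fin n → PicLoc.PicSet X), degP k (∏ i, a i) = ∑ i, degP k (a i)
  | 0, _ => by
    haveI := CurveRR.isNoetherian_of_proper k X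
    haveI := ClosedRep.GeomIntegral.geometricallyIntegral_of_smooth fX
    haveI : IsIntegral X := GeometricallyIntegral.isIntegral_of_subsingleton fX
    rw [Fin.prod_univ_zero, Fin.sum_univ_zero]
    have h := degP_mul k hdim (1 : PicLoc.PicSet X) 1
    rw [mul_one] at h
    omega
  | n + 1, a => by
    haveI := CurveRR.isNoetherian_of_proper k X
    haveI := ClosedRep.GeomIntegral.geometricallyIntegral_of_smooth fX
    haveI : IsIntegral X := GeometricallyIntegral.isIntegral_of_subsingleton fX
    rw [Fin.prod_univ_succ, Fin.sum_univ_succ, degP_mul k hdim, degP_prod]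

variable [IsAlgClosed k]

include hdim in
/-- An effective class is a sum of points. -/
theorem exists_points_of_hC {r : ℕ} (c : PicLoc.PicSet X) (hdeg : degP k c = r) (h0 : 1 ≤ hC k c 0) :
    ∃ τ : Fin r → {τ : Spec (CommRingCat.of k) ⟶ X // τ ≫ fX = 𝟙 _}, c = ∏ i, delta k (τ i) hdim := by
  haveI := CurveRR.isNoetherian_of_proper k X
  haveI := ClosedRep.GeomIntegral.geometricallyIntegral_of_smooth fX
  haveI : IsIntegral X := GeometricallyIntegral.isIntegral_of_subsingleton fX
  haveI := AlgEquivCurve.smoothOfRelativeDimension_one fX hdim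
  let T := onePt k
  obtain ⟨L, hL, rfl⟩ := PicGrp.exists_eq_cls c
  rw [hC_cls] at h0
  rw [degP_cls] at hdeg
  obtain ⟨s, hs⟩ : ∃ s : Γ(L, ⊤), s ≠ 0 := by
    by_contra! hh
    letI := CurveRR.secMod k L ⊤
    haveI : Subsingleton Γ(L, ⊤) := ⟨fun a b => (hh a).trans (hh b).symm⟩
    have : CurveRR.h k L 0 = 0 := by
      rw [← CurveRR.finrank_sec]; exact Module.finrank_zero_of_subsingleton
    omega
  let J := PicF2.zeroScheme L (homOf s)
  have hJ : BlowUp.IsEffCartierIdeal J :=
    isEffCartier_of_genLocus hL _ ⟨_, CurveRR.generic_mem_genLocus hL hs⟩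
  let q := J.subschemeι ≫ fX
  haveI : Subsingleton ↥(Spec (CommRingCat.of k)) := inferInstanceAs (Subsingleton (PrimeSpectrum k))
  haveI hflat : Flat q := inferInstance
  haveI : LocallyQuasiFinite q := ((Groth.Agent.S1184.result _ J).1.1 ⟨hJ, hflat⟩).1
  haveI : IsFinite q := IsFinite.of_isProper_of_locallyQuasiFinite _
  haveI : IsAffine J.subscheme := isAffine_of_isAffineHom q
  letI := DualGeneric.Sub.algI k J
  haveI : Module.Finite k Γ(J.subscheme, ⊤) := DualGeneric.Sub.finite_algI k J
  have hinv := isInverseOf_of_effCartier hL (homOf s) hJ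
  have hfr : (Module.finrank k Γ(J.subscheme, ⊤) : ℤ) = r := by
    rw [← hdeg]
    have h := CurveRR.deg_tensor_cartier (k := k) hdim.le hJ hL hinv
      (CurveRR.isFinLocFreeOfRank_one (TMul.isInvertible_structureModule (X := X)))
    rw [CurveRR.deg_structure, DualGeneric.Sub.h0_quotMod_eq k J, Curv2.deg,
      CurveRR.euler_eq_of_iso (TMul.leftUnitIso L)] at h
    rw [Curv2.deg]
    push_cast at h ⊢
    omega
  have hq : Mor2.IsFinLocFreeOfDeg r q :=
    ⟨⟨‹IsFinite q›, hflat, SymCurve.lfp_of_lft_noeth q⟩, fun y => by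
      refine (finrank_eq_dim q y).trans ?_
      exact_mod_cast hfr⟩
  have sq := HilbSum.isPullback_comap fX J T.hom
  have hmem : Mor2.IsFinLocFreeOfDeg r ((J.comap (pullback.fst fX T.hom)).subschemeι ≫ XTproj fX T) := by
    obtain ⟨⟨h1, h2, h3⟩, hd'⟩ := hq
    haveI := h1
    haveI := h2
    exact ⟨⟨MorphismProperty.of_isPullback (P := @IsFinite) sq h1, MorphismProperty.of_isPullback (P := @Flat) sq h2,
      MorphismProperty.of_isPullback (P := @LocallyOfFinitePresentation) sq h3⟩,
      fun y => (Scheme.Hom.finrank_of_isPullback _ _ _ _ sq y).trans (hd' _)⟩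
  obtain ⟨T', γ', -, hγ, hlfp, x, hx⟩ := HilbSum.exists_split fX r T _ hmem
  haveI := hγ
  haveI := hlfp
  -- a rational point of the cover
  haveI : LocallyOfFiniteType T'.hom := by
    rw [← Over.w γ']
    haveI : LocallyOfFiniteType T.hom := inferInstanceAs (LocallyOfFiniteType (𝟙 _))
    infer_instance
  haveI : JacobsonSpace T'.left := LocallyOfFiniteType.jacobsonSpace T'.hom
  obtain ⟨y, -⟩ := γ'.left.surjective (IsLocalRing.closedPoint k : T.left)
  obtain ⟨w, -, hw⟩ := nonempty_inter_closedPoints (Z := Set.univ) ⟨y, trivial⟩ isClosed_univ.isLocallyClosed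
  obtain ⟨e, -⟩ := SubGen.exists_rpt hw
  let e' : T ⟶ T' := e
  have he : e' ≫ γ' = 𝟙 T := Over.OverMorphism.ext (by
    have h1 := Over.w (e' ≫ γ')
    exact (Category.comp_id _).symm.trans (h1.trans (Category.id_comp _).symm) )
  let τ : Fin r → {τ : Spec (CommRingCat.of k) ⟶ X // τ ≫ fX = 𝟙 _} := fun i =>
    ⟨e'.left ≫ (x i).1, by rw [Category.assoc, (x i).2]; exact Over.w e'⟩
  refine ⟨τ, ?_⟩
  have hxτ : ∀ i, (T.hom ≫ (τ i).1) ≫ fX = T.hom := fun i => by rw [Category.assoc, (τ i).2, Category.comp_id]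
  have hx' : HilbD.pull fX e' (HilbD.pull fX γ' (J.comap (pullback.fst fX T.hom))) =
      ∏ i, HilbD.secGraph fX T (T.hom ≫ (τ i).1) (hxτ i) := by
    rw [hx, HilbSum.pull_prod]
    refine Finset.prod_congr rfl fun i _ => ?_
    simp only [show e'.left ≫ (x i).1 = T.hom ≫ (τ i).1 from (Category.id_comp _).symm]
  rw [HilbOne.pull_pull, he, HilbOne.pull_eq_comap, XTmap_id, Scheme.IdealSheafData.comap_id] at hx'
  have hJ' : BlowUp.IsEffCartierIdeal (J.comap (pullback.fst fX T.hom)) :=
    effCartier_obj fX T ⟨_, hmem⟩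
  rw [cls_eq_divCl hL hJ hinv]
  refine (pull_toPt_fst k (divCl J hJ)).symm.trans ?_
  rw [pull_divCl _ hJ hJ']
  obtain rfl | hr := Nat.eq_zero_or_pos r
  · rw [Finset.prod_of_isEmpty] at hx' ⊢
    have hone : divCl (1 : (XT fX T).IdealSheafData) (hx' ▸ hJ') = 1 := by
      have h := divCl_mul (hx' ▸ hJ' : BlowUp.IsEffCartierIdeal (1 : (XT fX T).IdealSheafData))
        (hx' ▸ hJ' : BlowUp.IsEffCartierIdeal (1 : (XT fX T).IdealSheafData))
      rw [divCl_congr (one_mul _) _ (hx' ▸ hJ')] at h
      exact left_eq_mul.1 h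
    rw [divCl_congr hx' _ (hx' ▸ hJ'), hone, map_one]
  · obtain ⟨m, rfl⟩ := Nat.exists_eq_add_of_le' hr
    rw [divCl_congr hx' _ (hx' ▸ hJ'), divCl_prod _ (fun i => effCartier_obj fX T (d := 1)
      ⟨_, HilbOne.secGraph_mem fX T _ (hxτ i)⟩), map_prod]
    exact Finset.prod_congr rfl fun i _ => pull_toPt_ptCl k hdim (τ i) (hxτ i)

include hdim in
/-- Adding a general point keeps a class without sections without sections, below degree `g - 1`. -/
theorem exists_point_hC_zero {g : ℕ} (hg : Curv2.genus k X = g) (c : PicLoc.PicSet X) (hc : degP k c + 1 < g)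
    (h0 : hC k c 0 = 0) :
    ∃ τ : {τ : Spec (CommRingCat.of k) ⟶ X // τ ≫ fX = 𝟙 _}, hC k (c * delta k τ hdim) 0 = 0 := by
  haveI := CurveRR.isNoetherian_of_proper k X
  haveI := ClosedRep.GeomIntegral.geometricallyIntegral_of_smooth fX
  haveI : IsIntegral X := GeometricallyIntegral.isIntegral_of_subsingleton fX
  have hsub := hC_sub k hdim hg c
  obtain ⟨L, hL, rfl⟩ := PicGrp.exists_eq_cls c
  rw [hC_cls] at h0
  rw [hC_cls, hC_cls, h0] at hsub
  obtain ⟨U, hU, hdrop⟩ := exists_open_h1_twist k hdim hL (by omega)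
  haveI : Nonempty ↥U.toScheme := hU.to_subtype
  haveI : GeometricallyReduced (U.ι ≫ fX) := Rigid.geometricallyReduced_of_smooth _
  obtain ⟨s, hs⟩ := Groth.Agent.S18366.result k (U.ι ≫ fX)
  let new : {τ : Spec (CommRingCat.of k) ⟶ X // τ ≫ fX = 𝟙 _} := ⟨s ≫ U.ι, (Category.assoc _ _ _).trans hs⟩
  obtain ⟨M, hM, hMc⟩ := PicGrp.exists_eq_cls (PicGrp.cls L hL * delta k new hdim)
  have hI := isInvertible_point k hdim new
  have hMI : Nonempty (CohB1.tensorMod M (ClSub.idealMod new.1.ker) ≅ L) :=
    (PicGrp.cls_eq_cls_iff (TMul.isInvertible_tensorMod hM hI) hL).1 (by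
      rw [show PicGrp.cls _ (TMul.isInvertible_tensorMod hM hI) = PicGrp.cls M hM * PicGrp.cls _ hI from rfl,
        ← hMc, delta_inv k hdim new hI, mul_inv_cancel_right])
  have h1' := (hdrop new.1 new.2 M hM hMI).1 fun p => (s p).2
  refine ⟨new, ?_⟩
  have hsub' := hC_sub k hdim hg (PicGrp.cls L hL * delta k new hdim)
  have hp : degP k (delta k new hdim) = 1 :=
    degP_point k hdim (fun _ : Fin 1 => new.1) (fun _ => new.2) (fun _ => (Groth.Agent.S8914.result _).1 hI) 0
  rw [degP_mul k hdim, hp, hMc, hC_cls, hC_cls, h1'] at hsub'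
  rw [hMc, hC_cls]
  omega

include hdim in
/-- Adding `r` general points. -/
theorem exists_points_hC_zero {g : ℕ} (hg : Curv2.genus k X = g) (c : PicLoc.PicSet X) (h0 : hC k c 0 = 0) :
    ∀ r : ℕ, degP k c + r < g →
      ∃ τ : Fin r → {τ : Spec (CommRingCat.of k) ⟶ X // τ ≫ fX = 𝟙 _}, hC k (c * ∏ i, delta k (τ i) hdim) 0 = 0
  | 0, _ => ⟨Fin.elim0, by rw [Fin.prod_univ_zero, mul_one]; exact h0⟩
  | r + 1, hr => by
    haveI := CurveRR.isNoetherian_of_proper k X
    haveI := ClosedRep.GeomIntegral.geometricallyIntegral_of_smooth fX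
    haveI : IsIntegral X := GeometricallyIntegral.isIntegral_of_subsingleton fX
    obtain ⟨τ, hτ⟩ := exists_points_hC_zero hg c h0 r (by omega)
    have hd : degP k (c * ∏ i, delta k (τ i) hdim) = degP k c + r := by
      rw [degP_mul k hdim]
      refine congrArg _ ?_
      rw [degP_prod k hdim, Finset.sum_congr rfl fun i _ => degP_delta k hdim (τ i)]
      simp
    obtain ⟨t, ht⟩ := exists_point_hC_zero k hdim hg _ (by rw [hd]; omega) hτ
    refine ⟨Fin.snoc τ t, ?_⟩
    rw [Fin.prod_univ_castSucc]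
    simp only [Fin.snoc_castSucc, Fin.snoc_last]
    rw [← mul_assoc]
    exact ht

end Groth.Agent.PicCurve
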