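import Groth.Agent.S3249
import Groth.Agent.S4440
import Groth.Agent.AlgSpLib.Reduced
import Groth.Agent.SmLocalST.SmoothField
import Groth.Prelude.Def_AbDual

/-!
Rational maps from smooth schemes over a field to proper groups are defined everywhere.
-/

set_option autoImplicit false
set_option backward.isDefEq.respectTransparency false
set_option backward.isDefEq.respectTransparency.types false
set_option linter.style.haveILetI false
set_option linter.unusedSectionVars false
set_option maxHeartbeats 1000000

universe u

open CategoryTheory CategoryTheory.Limits AlgebraicGeometry TopologicalSpace MonoidalCategory CartesianMonoidalCategory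

noncomputable section

namespace Groth.Agent.PicCurve

variable {k : Type u} [Field k]

/-- Maps to a separated target agreeing after a dominant map are equal. -/
theorem hom_ext_dominant {V W A : Over (Spec (CommRingCat.of k))} [IsReduced W.left] [IsSeparated A.hom]
    (i : V ⟶ W) [IsDominant i.left] {α β : W ⟶ A} (h : i ≫ α = i ≫ β) : α = β :=
  Over.OverMorphism.ext (ext_of_isDominant_of_isSeparated A.hom ((Over.w α).trans (Over.w β).symm) i.left
    (congrArg CommaMorphism.left h))

/-- Extension of rational maps to proper groups. -/
theorem exists_extension_group (W A : Over (Spec (CommRingCat.of k))) [Smooth W.hom] [GrpObj A] [IsProper A.hom]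
    (U : W.left.Opens) (hU : Dense (U : Set W.left)) (φ : AbDual.ovr W U.ι ⟶ A) :
    ∃ α : W ⟶ A, AbDual.ovrHom W U.ι ≫ α = φ := by
  haveI : IsLocallyNoetherian W.left := LocallyOfFiniteType.isLocallyNoetherian W.hom
  haveI : IsReduced W.left := AlgSpLib.isReduced_of_smooth W.hom
  obtain ⟨U', hle, g', hg', hres, hcod⟩ := Groth.Agent.S4440.result A.hom W.hom
    (fun y _ => SmLocalST.isRegularLocalRing_stalk_of_smooth_field W.hom y) U hU φ.left (Over.w φ)
  haveI : GrpObj (Over.mk A.hom) := inferInstanceAs (GrpObj A)
  haveI : Subsingleton ↥(Spec (CommRingCat.of k)) := inferInstanceAs (Subsingleton (PrimeSpectrum k))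
  obtain ⟨G, ⟨hG, hGU⟩, -⟩ := Groth.Agent.S3249.result W.hom A.hom U'
    (fun x => by
      have : ((U' : Set W.left) ∩ {y | W.hom.base y = W.hom.base x}) = U' :=
        Set.inter_eq_left.2 fun y _ => Subsingleton.elim (α := ↥(Spec (CommRingCat.of k))) _ _
      rw [this]
      exact (hU.mono hle) x)
    (fun x hx => by
      have h : ¬ ringKrullDim (W.left.presheaf.stalk x) ≤ 1 := fun h => hx (hcod x h)
      exact Order.succ_le_of_lt (not_le.1 h))
    g' hg'
  refine ⟨Over.homMk G hG, Over.OverMorphism.ext ?_⟩
  show U.ι ≫ G = φ.left
  exact ((congrArg (· ≫ G) (W.left.homOfLE_ι hle)).symm.trans (Category.assoc _ _ _)).trans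
    ((congrArg (W.left.homOfLE hle ≫ ·) hGU).trans hres)

end Groth.Agent.PicCurve
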