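import Groth.Agent.PicCurve.AlbSetup
import Groth.Agent.PicCurve.WeilExt
import Groth.Agent.Chev.Albanese
import Groth.Agent.PicInf.JacTangent
import Groth.Agent.S0354

/-!
The scheme of degree zero classes of a curve with a rational point is its Albanese variety.
-/

set_option autoImplicit false
set_option backward.isDefEq.respectTransparency false
set_option backward.isDefEq.respectTransparency.types false
set_option linter.style.haveILetI false
set_option linter.unusedSectionVars false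
set_option maxHeartbeats 2000000

universe u

open CategoryTheory CategoryTheory.Limits AlgebraicGeometry TopologicalSpace Opposite MonoidalCategory CartesianMonoidalCategory
open PicF
open scoped MonObj
open Groth.Agent.W7Cube (pull pull_pull pull_cls)

attribute [local instance] Groth.Agent.W7Cube.law

noncomputable section

namespace Groth.Agent.PicCurve

variable {k : Type u} [Field k] {X : Scheme.{u}} (f : X ⟶ Spec (CommRingCat.of k)) [IsProper f]
  [SmoothOfRelativeDimension 1 f] [GeometricallyConnected f] (σ : Spec (CommRingCat.of k) ⟶ X)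
  (hσ : σ ≫ f = 𝟙 (Spec (CommRingCat.of k)))

/-- The base point. -/
def basePt : 𝟙_ (Over (Spec (CommRingCat.of k))) ⟶ Over.mk f := Over.homMk σ hσ

/-- A projection from a power. -/
def projPow (n : ℕ) (i : Fin n) : HilbSum.powOver f n ⟶ Over.mk f :=
  Over.homMk (WidePullback.π (fun _ : Fin n => f) i) (WidePullback.π_arrow (fun _ : Fin n => f) i)

/-- A map into a power. -/
def tupleHom (n : ℕ) {T : Over (Spec (CommRingCat.of k))} (x : Fin n → (T ⟶ Over.mk f)) : T ⟶ HilbSum.powOver f n :=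
  Over.homMk (WidePullback.lift T.hom (fun i => (x i).left) fun i => Over.w (x i)) (WidePullback.lift_base _ _ _ _)

theorem tupleHom_proj (n : ℕ) {T : Over (Spec (CommRingCat.of k))} (x : Fin n → (T ⟶ Over.mk f)) (i : Fin n) :
    tupleHom f n x ≫ projPow f n i = x i :=
  Over.OverMorphism.ext (WidePullback.lift_π _ _ _ _ i)

section Main

variable [GeometricallyIrreducible f] [Smooth f] [IsIntegral X] (hd : topologicalKrullDim X = 1)
  (m : ℕ) (hgen : (letI : X.Over (Spec (CommRingCat.of k)) := ⟨f⟩; Curv2.genus k X) = m + 1)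

include hd hgen in
/-- **The Albanese property of the scheme of degree zero classes.** -/
theorem albanese (W : Over (Spec (CommRingCat.of k))) [GrpObj W] [IsCommMonObj W] [IsProper W.hom] [Smooth W.hom]
    [GeometricallyIrreducible W.hom]
    (ξ : PicLoc.PicSet (XT f W)) (hξ1 : pull (secT f σ hσ W) ξ = 1) (hξ0 : Zero f W ξ)
    (hξ : Classifies f σ hσ (Zero f) W ξ)
    (hmul : ∀ (T : Over (Spec (CommRingCat.of k))) (p q : T ⟶ W),
      pull (XTmap f (lift p q ≫ μ[W])) ξ = pull (XTmap f p) ξ * pull (XTmap f q) ξ)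
    (a : Over.mk f ⟶ W) (ha : pull (XTmap f a) ξ = abelCl f σ hσ (Over.mk f) (𝟙 X) (Category.id_comp f))
    (A : Over (Spec (CommRingCat.of k))) [GrpObj A] [IsProper A.hom] [GeometricallyIntegral A.hom]
    (h : Over.mk f ⟶ A) (h0 : basePt f σ hσ ≫ h = η[A]) :
    ∃! α : W ⟶ A, IsMonHom α ∧ a ≫ α = h := by
  haveI : Smooth A.hom := by
    haveI : GrpObj (Over.mk A.hom) := inferInstanceAs (GrpObj A)
    exact smooth_of_grpObj A.hom
  haveI : IsCommMonObj A := isCommMonObj_of_isProper_of_geometricallyIntegral A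
  have hX : Curve.IsSmoothProperCurve k X f := ⟨‹_›, ‹_›, ‹_›, hd⟩
  have hdim : ∀ z, topologicalKrullDim ↥(f.fiber z) = 1 := fun z => (dim_fiber_spec f z).trans hd
  letI : X.Over (Spec (CommRingCat.of k)) := ⟨f⟩
  have hO := betti_structure_curve f hX σ hσ
  rw [hgen] at hO
  have haa := isIso_app_proj f hX σ hσ
  -- the symmetric power
  obtain ⟨hAF, Ys, q, gY, hq⟩ := exists_symPow f hd.le (m + 1)
  obtain ⟨D, hD, hqD⟩ := HilbSum.symPow_represents f hAF (m + 1) q gY hq
  obtain ⟨hYp, hYs⟩ := SymCurve.proper_and_smooth hAF hq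
  let Y : Over (Spec (CommRingCat.of k)) := Over.mk gY
  haveI : Smooth Y.hom := hYs
  haveI : IsReduced Y.left := AlgSpLib.isReduced_of_smooth Y.hom
  let q' : HilbSum.powOver f (m + 1) ⟶ Y := Over.homMk q hq.over
  haveI : Surjective q := ⟨QuotScheme.surjective hq.isQuot⟩
  haveI : IrreducibleSpace ↥(SymProd.fibPow f (m + 1)) := irreducibleSpace_powOver f (m + 1)
  haveI : IrreducibleSpace ↥Y.left := q.surjective.irreducibleSpace q.continuous
  haveI : Epi q := QuotScheme.epi hq.isQuot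
  haveI : Epi q' := (Over.forget _).epi_of_epi_map (inferInstanceAs (Epi q))
  let π := projPow f (m + 1)
  -- the sum of the tautological points
  have hP0 : basePt f σ hσ ≫ a = η[W] := by
    obtain ⟨u, -, hu⟩ := hξ (𝟙_ _) 1 (map_one _) (degC_one f hdim _)
    refine (hu _ ?_).trans (hu _ ?_).symm <;> dsimp only
    · rw [← S12404.XTmap_comp, ← pull_pull, ha, pull_abelCl]
      exact abelCl_base f σ hσ _ _ ((Category.comp_id σ).trans (Category.id_comp σ).symm)
    · rw [show η[W] = (1 : 𝟙_ _ ⟶ W) from MonObj.one_eq_one W]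
      exact pull_one_pt f hmul _
  obtain ⟨b, hb, -⟩ := hξ Y (sumCl f σ hσ (m + 1) Y D) (rigify_mem f σ hσ Y _) (zero_sumCl f σ hσ hdim _ Y D)
  have hs : q' ≫ b = ∏ i, π i ≫ a := by
    obtain ⟨u, -, hu⟩ := hξ (HilbSum.powOver f (m + 1)) (pull (XTmap f q') (sumCl f σ hσ (m + 1) Y D))
      (pull_secT q' (rigify_mem f σ hσ Y _)) (fun t => by rw [degC_pull]; exact zero_sumCl f σ hσ hdim _ Y D _)
    refine (hu _ ?_).trans (hu _ ?_).symm <;> dsimp only
    · rw [← S12404.XTmap_comp, ← pull_pull, hb]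
    · let ρ := rigHom f σ hσ (HilbSum.powOver f (m + 1))
      have hc : pull (XTmap f q') (cH f (m + 1) Y D) =
          ∏ i, ptCl f (HilbSum.powOver f (m + 1)) (WidePullback.π (fun _ : Fin (m + 1) => f) i)
            (WidePullback.π_arrow (fun _ : Fin (m + 1) => f) i) := by
        rw [pull_cH]
        refine (divCl_congr hqD _ (cartier_prod_succ _ fun i => effCartier_obj f _ (d := 1)
          ⟨_, HilbOne.secGraph_mem f _ _ (WidePullback.π_arrow (fun _ : Fin (m + 1) => f) i)⟩)).trans ?_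
        exact divCl_prod _ _ _
      rw [pull_prod_pt f hmul, sumCl, pull_rigify, map_mul, map_inv, map_pow, pull_baseCl, hc, ← Fin.prod_const,
        ← Finset.prod_inv_distrib, ← Finset.prod_mul_distrib, show rigify f σ hσ (HilbSum.powOver f (m + 1)) = ρ from rfl,
        map_prod]
      refine Finset.prod_congr rfl fun i _ => ?_
      rw [← S12404.XTmap_comp, ← pull_pull, ha, pull_abelCl]
      exact congrArg ρ (congrArg (· * _) (ptCl_congr f _ (Category.comp_id _) _ _))
  -- the descended sum of values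
  let hg : HilbSum.powOver f (m + 1) ⟶ A := ∏ i, π i ≫ h
  obtain ⟨φ, hφ, -⟩ := QuotScheme.existsUnique_desc hq.isQuot hg.left fun s => by
    let sg : HilbSum.powOver f (m + 1) ⟶ HilbSum.powOver f (m + 1) :=
      Over.homMk (SymProd.permHom f (m + 1) s.down) (SymProd.permHom_base f (m + 1) s.down)
    have hsg : sg ≫ hg = hg := by
      let pre : (HilbSum.powOver f (m + 1) ⟶ A) →* (HilbSum.powOver f (m + 1) ⟶ A) :=
        MonoidHom.mk' (fun p => sg ≫ p) (MonObj.comp_mul sg)
      show pre hg = hg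
      rw [map_prod]
      refine Fintype.prod_equiv s.down.symm _ _ fun i => ?_
      show sg ≫ π i ≫ h = π (s.down.symm i) ≫ h
      rw [← Category.assoc]
      exact congrArg (· ≫ h) (Over.OverMorphism.ext (SymProd.permHom_π f (m + 1) s.down i))
    rw [SymProd.permActU_hom]
    exact congrArg CommaMorphism.left hsg
  let hbar : Y ⟶ A := Over.homMk φ ((cancel_epi q).1 (by
    show q ≫ φ ≫ A.hom = q ≫ gY
    rw [← Category.assoc, hφ, hq.over]
    exact Over.w hg))
  have hhbar : q' ≫ hbar = hg := Over.OverMorphism.ext hφ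
  -- the open of good classes
  let G := goodCl f σ hσ (m + 1) W ξ
  let U : W.left.Opens := ⟨{t | GoodC f W G t}, isOpen_goodC f W G⟩
  have hkey : ∀ {T : Over (Spec (CommRingCat.of k))} (v : T ⟶ Y),
      rigify f σ hσ T (pull (XTmap f (v ≫ b)) G) = rigify f σ hσ T (pull (XTmap f v) (cH f (m + 1) Y D)) :=
    fun v => rigify_pull_goodCl f σ hσ hξ1 (m + 1) Y D b hb v
  let V : Y.left.Opens := b.left ⁻¹ᵁ U
  have hV : ∃ y : Y.left, y ∈ V := by
    obtain ⟨T, t, x, hx, hgood⟩ := exists_good_tuple f hdim (m + 1) hO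
    let y : T ⟶ HilbSum.powOver f (m + 1) := tupleHom f (m + 1) fun i => Over.homMk (x i) (hx i)
    refine ⟨(y ≫ q').left t, ?_⟩
    show GoodC f W G (((y ≫ q') ≫ b).left t)
    rw [← goodC_pull f ((y ≫ q') ≫ b), ← goodC_rigify f σ hσ, hkey, goodC_rigify]
    have : pull (XTmap f (y ≫ q')) (cH f (m + 1) Y D) = ∏ i, ptCl f T (x i) (hx i) := by
      rw [pull_cH]
      have hy : HilbD.pull f (y ≫ q') D.1 = ∏ i, HilbD.secGraph f T (x i) (hx i) := by
        rw [← HilbOne.pull_pull, show HilbD.pull f q' D.1 = _ from hqD, HilbSum.pull_prod]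
        refine Finset.prod_congr rfl fun i _ => ?_
        have : y.left ≫ (HilbSum.tautSec f (m + 1) i).1 = x i := WidePullback.lift_π _ _ _ _ i
        simp only [this]
      exact (divCl_congr hy _ (cartier_prod_succ _ fun i =>
        effCartier_obj f _ (d := 1) ⟨_, HilbOne.secGraph_mem f T (x i) (hx i)⟩)).trans (divCl_prod _ _ _)
    rw [this]
    exact hgood
  obtain ⟨y₀, hy₀⟩ := hV
  haveI : Subsingleton ↥(Spec (CommRingCat.of k)) := inferInstanceAs (Subsingleton (PrimeSpectrum k))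
  haveI : Nonempty ↥W.left := ⟨b.left y₀⟩
  haveI : IrreducibleSpace ↥W.left := GeometricallyIrreducible.irreducibleSpace_of_subsingleton W.hom
  haveI : IsReduced W.left := AlgSpLib.isReduced_of_smooth W.hom
  have hUd : Dense (U : Set W.left) := U.isOpen.dense ⟨_, hy₀⟩
  haveI : IsDominant U.ι := ⟨by
    show Dense (Set.range U.ι)
    rw [Scheme.Opens.range_ι]; exact hUd⟩
  haveI : IsDominant V.ι := ⟨by
    show Dense (Set.range V.ι)
    rw [Scheme.Opens.range_ι]; exact V.isOpen.dense ⟨_, hy₀⟩⟩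
  let jU := AbDual.ovrHom W U.ι
  let jV := AbDual.ovrHom Y V.ι
  haveI : IsDominant jU.left := ‹IsDominant U.ι›
  haveI : IsDominant jV.left := ‹IsDominant V.ι›
  -- good classes are sums in one way
  obtain ⟨x, hx, -⟩ := existsUnique_hom f σ hσ haa (m + 1) hdim hO Y D hD (AbDual.ovr W U.ι)
    (rigify f σ hσ _ (pull (XTmap f jU) G)) (rigify_mem f σ hσ _ _)
    (fun t => by rw [goodC_rigify, goodC_pull]; exact t.2)
  have hxb : x ≫ b = jU := by
    obtain ⟨u, -, hu⟩ := hξ (AbDual.ovr W U.ι) (pull (XTmap f jU) ξ) (pull_secT jU hξ1)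
      (fun t => by rw [degC_pull]; exact hξ0 _)
    refine (hu _ ?_).trans (hu _ rfl).symm
    dsimp only
    rw [← S12404.XTmap_comp, ← pull_pull, hb, sumCl, pull_rigify, map_mul, map_inv, map_pow, pull_baseCl,
      rigify_mul, hx]
    simp only [G, goodCl]
    rw [map_mul, map_pow, pull_baseCl, ← rigify_mul, mul_inv_cancel_right, rigify_of_mem f σ hσ (pull_secT jU hξ1)]
  let v : AbDual.ovr Y V.ι ⟶ AbDual.ovr W U.ι := Over.homMk (b.left ∣_ U) (by
    show (b.left ∣_ U) ≫ U.ι ≫ W.hom = V.ι ≫ Y.hom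
    rw [morphismRestrict_ι_assoc, Over.w b])
  have hv : v ≫ jU = jV ≫ b := Over.OverMorphism.ext (morphismRestrict_ι b.left U)
  have hvx : v ≫ x = jV := by
    refine hom_eq f σ hσ (m + 1) hdim Y D hD _ _ ?_ fun t => ?_
    · rw [← hkey jV, ← hv, ← S12404.XTmap_comp, ← pull_pull, ← pull_rigify, hx, pull_rigify, pull_pull,
        S12404.XTmap_comp]
    · rw [← goodC_rigify f σ hσ, ← S12404.XTmap_comp, ← pull_pull, ← pull_rigify, hx, pull_rigify, goodC_rigify,
        goodC_pull, goodC_pull]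
      exact (v.left t).2
  obtain ⟨α, hα⟩ := exists_extension_group W A U hUd (x ≫ hbar)
  have hbα : b ≫ α = hbar := hom_ext_dominant jV (by
    rw [← Category.assoc, ← hv, Category.assoc, show jU ≫ α = _ from hα, ← Category.assoc, hvx])
  -- values on tuples
  have hval : ∀ {T : Over (Spec (CommRingCat.of k))} (y : T ⟶ HilbSum.powOver f (m + 1)),
      (∏ i, y ≫ π i ≫ a) ≫ α = ∏ i, y ≫ π i ≫ h := by
    intro T y
    let preW : (HilbSum.powOver f (m + 1) ⟶ W) →* (T ⟶ W) := MonoidHom.mk' (fun p => y ≫ p) (MonObj.comp_mul y)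
    let preA : (HilbSum.powOver f (m + 1) ⟶ A) →* (T ⟶ A) := MonoidHom.mk' (fun p => y ≫ p) (MonObj.comp_mul y)
    rw [show (∏ i, y ≫ π i ≫ a) = preW (∏ i, π i ≫ a) from (map_prod preW _ _).symm, ← hs,
      show (∏ i, y ≫ π i ≫ h) = preA hg from (map_prod preA _ _).symm, ← hhbar]
    show (y ≫ q' ≫ b) ≫ α = y ≫ q' ≫ hbar
    rw [Category.assoc, Category.assoc, hbα]
  have hη : η[W] ≫ α = η[A] := by
    have h1 := hval (tupleHom f (m + 1) fun _ => basePt f σ hσ)
    have e : ∀ {Z : Over (Spec (CommRingCat.of k))} (r : Over.mk f ⟶ Z) (i : Fin (m + 1)),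
        tupleHom f (m + 1) (fun _ => basePt f σ hσ) ≫ π i ≫ r = basePt f σ hσ ≫ r := fun r i => by
      rw [← Category.assoc, tupleHom_proj]
    simp only [e, hP0, h0, MonObj.one_eq_one, Finset.prod_const_one] at h1 ⊢
    exact h1
  haveI : ConnectedSpace ↥W.left := inferInstance
  haveI : Nonempty ↥A.left := ⟨η[A].left (IsLocalRing.closedPoint k)⟩
  haveI : IrreducibleSpace ↥A.left := GeometricallyIrreducible.irreducibleSpace_of_subsingleton A.hom
  haveI : ConnectedSpace ↥A.left := inferInstance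
  haveI hαm : IsMonHom α := Chev.isMonHom_of_pointed α hη
  have haα : a ≫ α = h := by
    let pts : Fin (m + 1) → (Over.mk f ⟶ Over.mk f) := Fin.cons (𝟙 _) fun _ => toUnit _ ≫ basePt f σ hσ
    have h1 := hval (tupleHom f (m + 1) pts)
    have e : ∀ {Z : Over (Spec (CommRingCat.of k))} (r : Over.mk f ⟶ Z) (i : Fin (m + 1)),
        tupleHom f (m + 1) pts ≫ π i ≫ r = pts i ≫ r := fun r i => by rw [← Category.assoc, tupleHom_proj]
    simp only [e] at h1
    rw [Fin.prod_univ_succ, Fin.prod_univ_succ] at h1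
    simp only [pts, Fin.cons_zero, Fin.cons_succ, Category.assoc, hP0, h0, Category.id_comp, ← Hom.one_def,
      Finset.prod_const_one, mul_one] at h1
    exact h1
  refine ⟨α, ⟨hαm, haα⟩, fun β ⟨hβm, hβ⟩ => ?_⟩
  haveI := hβm
  have hbβ : b ≫ β = hbar := by
    rw [← cancel_epi q', hhbar, ← Category.assoc, hs]
    show IsMonHom.monoidHom β (HilbSum.powOver f (m + 1)) (∏ i, π i ≫ a) = ∏ i, π i ≫ h
    rw [map_prod]
    exact Finset.prod_congr rfl fun i _ => (Category.assoc _ _ _).trans (congrArg (π i ≫ ·) hβ)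
  exact hom_ext_dominant jU (by rw [show jU ≫ α = _ from hα, ← hxb, Category.assoc, hbβ])

include hd in
/-- The Abel map is pointed. -/
theorem abel_base (W : Over (Spec (CommRingCat.of k))) [GrpObj W] (ξ : PicLoc.PicSet (XT f W))
    (hξ : Classifies f σ hσ (Zero f) W ξ)
    (hmul : ∀ (T : Over (Spec (CommRingCat.of k))) (p q : T ⟶ W),
      pull (XTmap f (lift p q ≫ μ[W])) ξ = pull (XTmap f p) ξ * pull (XTmap f q) ξ)
    (a : Over.mk f ⟶ W) (ha : pull (XTmap f a) ξ = abelCl f σ hσ (Over.mk f) (𝟙 X) (Category.id_comp f)) :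
    basePt f σ hσ ≫ a = η[W] := by
  have hdim : ∀ z, topologicalKrullDim ↥(f.fiber z) = 1 := fun z => (dim_fiber_spec f z).trans hd
  obtain ⟨u, -, hu⟩ := hξ (𝟙_ _) 1 (map_one _) (degC_one f hdim _)
  refine (hu _ ?_).trans (hu _ ?_).symm <;> dsimp only
  · rw [← S12404.XTmap_comp, ← pull_pull, ha, pull_abelCl]
    exact abelCl_base f σ hσ _ _ ((Category.comp_id σ).trans (Category.id_comp σ).symm)
  · rw [show η[W] = (1 : 𝟙_ _ ⟶ W) from MonObj.one_eq_one W]
    exact pull_one_pt f hmul _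

end Main

section Package

variable [GeometricallyIrreducible f] [Smooth f] [IsIntegral X] (hd : topologicalKrullDim X = 1)

include hd in
/-- **The Jacobian as an Albanese variety**, with its universal class. -/
theorem exists_albanese (g : ℕ) (hg : 0 < g)
    (hgen : (letI : X.Over (Spec (CommRingCat.of k)) := ⟨f⟩; Curv2.genus k X) = g) :
    ∃ (W : Over (Spec (CommRingCat.of k))) (_ : GrpObj W) (ξ : PicLoc.PicSet (XT f W)) (a : Over.mk f ⟶ W),
      IsProper W.hom ∧ Smooth W.hom ∧ GeometricallyIntegral W.hom ∧ topologicalKrullDim W.left = g ∧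
      pull (secT f σ hσ W) ξ = 1 ∧ Zero f W ξ ∧ Classifies f σ hσ (Zero f) W ξ ∧
      (∀ (T : Over (Spec (CommRingCat.of k))) (p q : T ⟶ W),
        pull (XTmap f (lift p q ≫ μ[W])) ξ = pull (XTmap f p) ξ * pull (XTmap f q) ξ) ∧
      pull (XTmap f a) ξ = abelCl f σ hσ (Over.mk f) (𝟙 X) (Category.id_comp f) ∧
      basePt f σ hσ ≫ a = η[W] ∧
      ∀ (A : Over (Spec (CommRingCat.of k))) [GrpObj A] [IsProper A.hom] [GeometricallyIntegral A.hom]
        (h : Over.mk f ⟶ A), basePt f σ hσ ≫ h = η[A] → ∃! α : W ⟶ A, IsMonHom α ∧ a ≫ α = h := by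
  have hdim : ∀ z, topologicalKrullDim ↥(f.fiber z) = 1 := fun z => (dim_fiber_spec f z).trans hd
  obtain ⟨W, ξ, hp, hs, hi, hξ1, hξ0, hξ⟩ := exists_degZero_any f hd σ hσ
  haveI := hp
  haveI := hs
  haveI := hi
  haveI : GeometricallyReduced W.hom := Rigid.geometricallyReduced_of_smooth W.hom
  haveI hgi : GeometricallyIntegral W.hom :=
    GeometricallyIntegral.of_geometricallyReduced_of_geometricallyIrreducible W.hom
  obtain ⟨G, hmul⟩ := exists_grpObj_mul f σ hσ hdim hξ1 hξ0 hξ
  letI := G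
  haveI : IsCommMonObj W := isCommMonObj_of_isProper_of_geometricallyIntegral W
  obtain ⟨a, ha, -⟩ := hξ (Over.mk f) (abelCl f σ hσ (Over.mk f) (𝟙 X) (Category.id_comp f))
    (rigify_mem f σ hσ _ _) (zero_abelCl f σ hσ hdim _ _ _)
  have hW : topologicalKrullDim W.left = g := by
    letI : X.Over (Spec (CommRingCat.of k)) := ⟨f⟩
    haveI : IsProper (X ↘ Spec (CommRingCat.of k)) := ‹IsProper f›
    haveI : Smooth (X ↘ Spec (CommRingCat.of k)) := ‹Smooth f›
    haveI : GeometricallyConnected (X ↘ Spec (CommRingCat.of k)) := ‹GeometricallyConnected f›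
    haveI : GeometricallyIrreducible (X ↘ Spec (CommRingCat.of k)) := ‹GeometricallyIrreducible f›
    obtain ⟨hc, hdp⟩ := PicInf.Jac.dim_point (C := X) hd (hσ := hσ)
      ⟨ξ.1, ξ.2, congrArg Subtype.val hξ1⟩ ((hasFibreDegreeZeroCl_iff f hdim W ξ).2 hξ0) (fun T c hc => by
        obtain ⟨u, hu, huu⟩ := hξ T ⟨c.1, c.2.1⟩ (Subtype.ext c.2.2)
          ((hasFibreDegreeZeroCl_iff f hdim T ⟨c.1, c.2.1⟩).1 hc)
        exact ⟨u, congrArg Subtype.val hu, fun u' hu' => huu u' (Subtype.ext hu')⟩)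
      (η[W] : 𝟙_ (Over (Spec (CommRingCat.of k))) ⟶ W)
    rw [← Groth.Agent.S0354.result k W _ hc, hdp, ← hgen]
    rfl
  exact ⟨W, G, ξ, a, hp, hs, hgi, hW, hξ1, hξ0, hξ, hmul, ha, abel_base f σ hσ hd W ξ hξ hmul a ha,
    fun A _ _ _ h h0 => albanese f σ hσ hd (g - 1) (hgen.trans (Nat.succ_pred_eq_of_pos hg).symm) W ξ hξ1 hξ0 hξ hmul
      a ha A h h0⟩

end Package

end Groth.Agent.PicCurve
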