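import Groth.Agent.PicCurve.PicDegProj

/-!
Fine moduli schemes are coarse moduli schemes on affine test schemes; the identification of line bundles on families.
-/

set_option autoImplicit false
set_option backward.isDefEq.respectTransparency false
set_option backward.isDefEq.respectTransparency.types false
set_option linter.style.haveILetI false
set_option linter.unusedSectionVars false
set_option maxHeartbeats 1000000

universe u v

open CategoryTheory CategoryTheory.Limits AlgebraicGeometry TopologicalSpace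
open Groth.Agent.W7Cube (pull pull_pull pull_cls)

attribute [local instance] Groth.Agent.W7Cube.law

noncomputable section

namespace Groth.Agent.PicCurve

section General

variable {S : Scheme.{u}} {F : ModFun.Problem.{v} S} {M : Over S} {ξ : F.Fam M}

/-- A fine moduli scheme is a coarse one, on affine test schemes. -/
theorem exists_coarse_of_fine (h : ModFun.IsUnivFamily ⊤ F M ξ)
    (hok : ∀ (T : Over S) (a : T ⟶ M), F.ok T (F.pull a ξ))
    (hsymm : ∀ (T : Over S) (x y : F.Fam T), F.ok T x → F.ok T y → F.r T x y → F.r T y x)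
    (htrans : ∀ (T : Over S) (x y z : F.Fam T), F.ok T x → F.ok T y → F.ok T z → F.r T x y → F.r T y z → F.r T x z)
    (hpull : ∀ (T T' : Over S) (b : T' ⟶ T) (x y : F.Fam T), F.ok T x → F.ok T y → F.ok T' (F.pull b x) →
      F.ok T' (F.pull b y) → F.r T x y → F.r T' (F.pull b x) (F.pull b y))
    (hcomp : ∀ (T T' : Over S) (b : T' ⟶ T) (a : T ⟶ M), F.ok T' (F.pull b (F.pull a ξ)) ∧
      F.r T' (F.pull b (F.pull a ξ)) (F.pull (b ≫ a) ξ)) :
    ∃ φ : F.Hom (fun T => IsAffine T.left) M, ModFun.IsCoarseModuli (fun T => IsAffine T.left) F M φ := by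
  choose cl hcl hcu using fun (T : Over S) (x : F.Fam T) (hx : F.ok T x) => h.2 T x trivial hx
  let φ : F.Hom (fun T => IsAffine T.left) M :=
    { app := fun T x _ hx => cl T x hx
      natural := fun {T T'} b x _ _ hx hx' => by
        refine (hcu T' _ hx' _ ?_).symm
        obtain ⟨h1, h2⟩ := hcomp T T' b (cl T x hx)
        exact htrans T' _ _ _ (hok T' _) h1 hx' (hsymm T' _ _ h1 (hok T' _) h2)
          (hpull T T' b _ _ (hok T _) hx h1 hx' (hcl T x hx))
      resp := fun {T} x y _ hx hy hr => hcu T y hy _ (htrans T _ _ _ (hok T _) hx hy (hcl T x hx) hr) }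
  have hclp : ∀ (T : Over S) (a : T ⟶ M), cl T (F.pull a ξ) (hok T a) = a := fun T a => by
    refine (hcu T _ (hok T a) a ?_).symm
    obtain ⟨h1, h2⟩ := hcomp T T (𝟙 T) a
    rw [Category.id_comp] at h2
    exact htrans T _ _ _ (hok T a) h1 (hok T a) (hsymm T _ _ h1 (hok T a) h2) h2
  refine ⟨φ, fun Ω _ _ t => inferInstanceAs (IsAffine (Spec (CommRingCat.of Ω))), fun N ψ => ?_,
    fun Ω _ _ t hP => ⟨fun g => ⟨_, hok _ g, hclp _ g⟩, fun x y hx hy e => ?_⟩⟩
  · let F' : ∀ (T : Over S), IsAffine T.left → (T ⟶ M) → (T ⟶ N) := fun T hT a => ψ.app T (F.pull a ξ) hT (hok T a)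
    have hnat : ∀ (T T' : Over S) (hT : IsAffine T.left) (hT' : IsAffine T'.left) (b : T' ⟶ T) (a : T ⟶ M),
        F' T' hT' (b ≫ a) = b ≫ F' T hT a := fun T T' hT hT' b a => by
      obtain ⟨h1, h2⟩ := hcomp T T' b a
      exact (ψ.resp _ _ hT' h1 (hok T' _) h2).symm.trans (ψ.natural b _ hT hT' (hok T a) h1)
    let 𝒰 := M.left.affineCover
    let V : 𝒰.I₀ → Over S := fun i => Over.mk (𝒰.f i ≫ M.hom)
    let v : ∀ i, V i ⟶ M := fun i => Over.homMk (𝒰.f i) rfl
    have hV : ∀ i, IsAffine (V i).left := fun i => inferInstanceAs (IsAffine (𝒰.X i))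
    have hglue : ∀ i j, pullback.fst (𝒰.f i) (𝒰.f j) ≫ (F' (V i) (hV i) (v i)).left =
        pullback.snd (𝒰.f i) (𝒰.f j) ≫ (F' (V j) (hV j) (v j)).left := fun i j => by
      refine Scheme.Cover.hom_ext (pullback (𝒰.f i) (𝒰.f j)).affineCover _ _ fun k => ?_
      let c := (pullback (𝒰.f i) (𝒰.f j)).affineCover.f k
      let W : Over S := Over.mk (c ≫ pullback.fst (𝒰.f i) (𝒰.f j) ≫ 𝒰.f i ≫ M.hom)
      have hW : IsAffine W.left := inferInstanceAs (IsAffine ((pullback (𝒰.f i) (𝒰.f j)).affineCover.X k))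
      let a : W ⟶ V i := Over.homMk (c ≫ pullback.fst _ _) (Category.assoc _ _ _)
      let b : W ⟶ V j := Over.homMk (c ≫ pullback.snd _ _) (by
        show (c ≫ pullback.snd _ _) ≫ 𝒰.f j ≫ M.hom = c ≫ pullback.fst _ _ ≫ 𝒰.f i ≫ M.hom
        rw [Category.assoc, ← pullback.condition_assoc])
      have e : a ≫ v i = b ≫ v j := Over.OverMorphism.ext (by
        show (c ≫ pullback.fst _ _) ≫ 𝒰.f i = (c ≫ pullback.snd _ _) ≫ 𝒰.f j
        rw [Category.assoc, Category.assoc, pullback.condition])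
      have h1 := congrArg CommaMorphism.left ((hnat _ W (hV i) hW a (v i)).symm.trans
        ((congrArg (F' W hW) e).trans (hnat _ W (hV j) hW b (v j))))
      simp only [Over.comp_left] at h1
      rw [← Category.assoc, ← Category.assoc]
      exact h1
    let g := 𝒰.glueMorphisms (fun i => (F' (V i) (hV i) (v i)).left) hglue
    have hg : ∀ i, 𝒰.f i ≫ g = (F' (V i) (hV i) (v i)).left := fun i => 𝒰.ι_glueMorphisms _ _ i
    let f : M ⟶ N := Over.homMk g (Scheme.Cover.hom_ext 𝒰 _ _ fun i => by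
      rw [← Category.assoc, hg i]
      exact Over.w (F' (V i) (hV i) (v i)))
    have hf : ∀ (T : Over S) (hT : IsAffine T.left) (a : T ⟶ M), F' T hT a = a ≫ f := fun T hT a => by
      refine Over.OverMorphism.ext (Scheme.Cover.hom_ext (Precoverage.ZeroHypercover.pullback₁ a.left 𝒰) _ _ fun i =>
        Scheme.Cover.hom_ext (Scheme.affineCover _) _ _ fun j => ?_)
      let c := (pullback a.left (𝒰.f i)).affineCover.f j ≫ pullback.fst a.left (𝒰.f i)
      let d := (pullback a.left (𝒰.f i)).affineCover.f j ≫ pullback.snd a.left (𝒰.f i)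
      let W : Over S := Over.mk (c ≫ T.hom)
      have hW : IsAffine W.left := inferInstanceAs (IsAffine ((pullback a.left (𝒰.f i)).affineCover.X j))
      let b : W ⟶ T := Over.homMk c rfl
      have hd : d ≫ 𝒰.f i = c ≫ a.left := by
        simp only [c, d, Category.assoc, pullback.condition]
      let b' : W ⟶ V i := Over.homMk d (by
        show d ≫ 𝒰.f i ≫ M.hom = c ≫ T.hom
        rw [reassoc_of% hd, Over.w a])
      have h1 := congrArg CommaMorphism.left ((hnat _ W hT hW b a).symm.trans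
        ((congrArg (F' W hW) (show b ≫ a = b' ≫ v i from Over.OverMorphism.ext hd.symm)).trans
          (hnat _ W (hV i) hW b' (v i))))
      simp only [Over.comp_left] at h1
      show (pullback a.left (𝒰.f i)).affineCover.f j ≫ pullback.fst a.left (𝒰.f i) ≫ _ =
        (pullback a.left (𝒰.f i)).affineCover.f j ≫ pullback.fst a.left (𝒰.f i) ≫ a.left ≫ g
      rw [← Category.assoc, ← Category.assoc _ (pullback.fst a.left (𝒰.f i)) (a.left ≫ g)]
      refine h1.trans ?_
      show d ≫ _ = c ≫ a.left ≫ g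
      rw [← hg, reassoc_of% hd]
    refine ⟨f, fun T x hT hx => (ψ.resp _ _ hT (hok T _) hx (hcl T x hx)).symm.trans (hf T hT (cl T x hx)), fun f' hf' => ?_⟩
    refine Over.OverMorphism.ext (Scheme.Cover.hom_ext 𝒰 _ _ fun i => ?_)
    refine Eq.trans ?_ (hg i).symm
    have h2 := hf' (V i) (F.pull (v i) ξ) (hV i) (hok _ _)
    rw [show φ.app (V i) (F.pull (v i) ξ) (hV i) (hok _ _) = v i from hclp _ _] at h2
    exact (congrArg CommaMorphism.left h2).symm
  · exact htrans _ _ _ _ hx (hok _ (cl _ x hx)) hy (hsymm _ _ _ (hok _ _) hx (hcl _ x hx))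
      ((show cl _ x hx = cl _ y hy from e) ▸ hcl _ y hy)

end General

variable {X S : Scheme.{u}} (f : X ⟶ S)

theorem r_iff {T : Over S} {E E' : (PicF.XT f T).Modules} (hE : PicF.IsInvertible E) (hE' : PicF.IsInvertible E') :
    (ModFun.modProb f).r T E E' ↔ ∃ n, PicGrp.cls E' hE' = PicGrp.cls E hE * pull (PicF.XTproj f T) n := by
  constructor
  · rintro ⟨N, hN, h⟩
    refine ⟨PicGrp.cls N hN, ?_⟩
    rw [pull_cls]
    exact (PicGrp.cls_eq_cls_iff hE' (TMul.isInvertible_tensorMod hE (PicLoc.isInvertible_pullback _ hN))).2 h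
  · rintro ⟨n, h⟩
    obtain ⟨N, hN, rfl⟩ := PicGrp.exists_eq_cls n
    refine ⟨N, hN, ?_⟩
    rw [pull_cls] at h
    exact (PicGrp.cls_eq_cls_iff hE' (TMul.isInvertible_tensorMod hE (PicLoc.isInvertible_pullback _ hN))).1 h

/-- The identification of degree `d` line bundles satisfies the laws needed to pass from fine to coarse. -/
theorem exists_coarse_picDeg {d : ℤ} {J : Over S} {ξ : (ModFun.PicDeg f d).Fam J}
    (h : ModFun.IsUnivFamily ⊤ (ModFun.PicDeg f d) J ξ)
    (hok : ∀ (T : Over S) (a : T ⟶ J), (ModFun.PicDeg f d).ok T ((ModFun.PicDeg f d).pull a ξ)) :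
    ∃ φ : (ModFun.PicDeg f d).Hom (fun T => IsAffine T.left) J,
      ModFun.IsCoarseModuli (fun T => IsAffine T.left) (ModFun.PicDeg f d) J φ := by
  have inv : ∀ {T : Over S} {x : (ModFun.PicDeg f d).Fam T}, (ModFun.PicDeg f d).ok T x → PicF.IsInvertible x :=
    fun hx => ZeroSch.isInvertible_of_rankOne hx.1.2
  have hξ : PicF.IsInvertible ξ := inv h.1
  refine exists_coarse_of_fine h hok ?_ ?_ ?_ ?_
  · intro T x y hx hy hr
    obtain ⟨n, hn⟩ := (r_iff f (inv hx) (inv hy)).1 hr
    exact (r_iff f (inv hy) (inv hx)).2 ⟨n⁻¹, by rw [hn, map_inv, mul_inv_cancel_right]⟩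
  · intro T x y z hx hy hz h1 h2
    obtain ⟨n, hn⟩ := (r_iff f (inv hx) (inv hy)).1 h1
    obtain ⟨m, hm⟩ := (r_iff f (inv hy) (inv hz)).1 h2
    exact (r_iff f (inv hx) (inv hz)).2 ⟨n * m, by rw [hm, hn, map_mul, mul_assoc]⟩
  · intro T T' b x y hx hy hx' hy' hr
    obtain ⟨n, hn⟩ := (r_iff f (inv hx) (inv hy)).1 hr
    refine (r_iff f (inv hx') (inv hy')).2 ⟨pull b.left n, ?_⟩
    show PicGrp.cls ((Scheme.Modules.pullback (PicF.XTmap f b)).obj y) _ =
      PicGrp.cls ((Scheme.Modules.pullback (PicF.XTmap f b)).obj x) _ * _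
    rw [← pull_cls (PicF.XTmap f b) y (inv hy), ← pull_cls (PicF.XTmap f b) x (inv hx), hn, map_mul, pull_pull,
      pull_pull, XTmap_proj]
  · intro T T' b a
    have hi := PicLoc.isInvertible_pullback (PicF.XTmap f b) (PicLoc.isInvertible_pullback (PicF.XTmap f a) hξ)
    have e : (Scheme.Modules.pullback (PicF.XTmap f b)).obj ((Scheme.Modules.pullback (PicF.XTmap f a)).obj ξ) ≅
        (Scheme.Modules.pullback (PicF.XTmap f (b ≫ a))).obj ξ :=
      (Scheme.Modules.pullbackComp _ _).app ξ ≪≫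
        (Scheme.Modules.pullbackCongr (S12404.XTmap_comp f b a)).app ξ
    refine ⟨?_, (r_iff f hi (PicLoc.isInvertible_pullback _ hξ)).2 ⟨1, ?_⟩⟩
    · obtain ⟨⟨-, hrk⟩, hdeg⟩ := hok T' (b ≫ a)
      refine ⟨⟨trivial, CurveRR.isFinLocFreeOfRank_one hi⟩, fun Ω _ _ t => ?_⟩
      letI : (PicF.XT f (Over.mk (t ≫ T'.hom))).Over (Spec (CommRingCat.of Ω)) :=
        ⟨PicF.XTproj f (Over.mk (t ≫ T'.hom))⟩
      refine Eq.trans ?_ (hdeg Ω t)
      unfold Curv2.deg
      exact congrArg₂ (· - ·) (CurveRR.euler_eq_of_iso ((Scheme.Modules.pullback _).mapIso e)) rfl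
    · rw [map_one, mul_one]
      exact (PicGrp.cls_eq_cls_iff _ _).2 ⟨e.symm⟩

end Groth.Agent.PicCurve
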