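import Groth.Prelude.Def_Jac
import Groth.Agent.PicCurve.Albanese
import Groth.Agent.PicCurve.FineCoarse

/-!
Any coarse Jacobian is the scheme of degree zero classes, with its Albanese property.
-/

set_option autoImplicit false
set_option backward.isDefEq.respectTransparency false
set_option backward.isDefEq.respectTransparency.types false
set_option linter.style.haveILetI false
set_option linter.unusedSectionVars false
set_option maxHeartbeats 1000000

universe u

open CategoryTheory CategoryTheory.Limits AlgebraicGeometry TopologicalSpace Opposite MonoidalCategory CartesianMonoidalCategory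
open PicF
open scoped MonObj
open Groth.Agent.W7Cube (pull pull_pull pull_cls)

attribute [local instance] Groth.Agent.W7Cube.law

noncomputable section

namespace Groth.Agent.PicCurve

variable {k : Type u} [Field k] {X : Scheme.{u}} (f : X ⟶ Spec (CommRingCat.of k)) [IsProper f]
  [SmoothOfRelativeDimension 1 f] [GeometricallyConnected f] [GeometricallyIrreducible f] [Smooth f] [IsIntegral X]
  (hd : topologicalKrullDim X = 1) (σ : Spec (CommRingCat.of k) ⟶ X) (hσ : σ ≫ f = 𝟙 _)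

include hd in
/-- Rigidified classes of degree zero classify line bundles of degree zero up to twist. -/
theorem exists_classifier_hom (W : Over (Spec (CommRingCat.of k))) (ξ : PicLoc.PicSet (XT f W))
    (hξ : Classifies f σ hσ (Zero f) W ξ) :
    ∃ φ : (ModFun.PicDeg f 0).Hom ⊤ W, ∀ (T : Over (Spec (CommRingCat.of k))) (x : (XT f T).Modules)
      (hx : (ModFun.PicDeg f 0).ok T x) (hxi : PicF.IsInvertible x) (v : T ⟶ W),
      φ.app T x trivial hx = v ↔ pull (XTmap f v) ξ = rigify f σ hσ T (PicGrp.cls x hxi) := by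
  have hdim : ∀ z, topologicalKrullDim ↥(f.fiber z) = 1 := fun z => (dim_fiber_spec f z).trans hd
  have inv : ∀ {T : Over (Spec (CommRingCat.of k))} {x : (XT f T).Modules}, (ModFun.PicDeg f 0).ok T x →
      PicF.IsInvertible x := fun hx => ZeroSch.isInvertible_of_rankOne hx.1.2
  have h : ∀ (T : Over (Spec (CommRingCat.of k))) (x : (XT f T).Modules) (hx : (ModFun.PicDeg f 0).ok T x),
      ∃! v : T ⟶ W, pull (XTmap f v) ξ = rigify f σ hσ T (PicGrp.cls x (inv hx)) := fun T x hx =>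
    hξ T _ (rigify_mem f σ hσ T _) fun t => by
      rw [degC_rigify f hdim]
      exact (ok_iff f hd 0 T (inv hx)).1 hx.2 t
  choose v hv hvu using h
  refine ⟨{ app := fun T x _ hx => v T x hx
            natural := fun {T T'} m x _ _ hx hx' => (hvu T' _ hx' _ ?_).symm
            resp := fun {T} x y _ hx hy hr => hvu T y hy _ ?_ }, fun T x hx hxi w => ⟨fun e => ?_, fun e => ?_⟩⟩
  · dsimp only
    rw [← S12404.XTmap_comp, ← pull_pull, hv, pull_rigify, pull_cls]
    rfl
  · dsimp only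
    obtain ⟨n, hn⟩ := (r_iff f (inv hx) (inv hy)).1 hr
    rw [hv, hn, rigify_mul, rigify_base, mul_one]
  · subst e
    exact hv T x hx
  · exact (hvu T x hx w e).symm

include hd in
/-- **A coarse Jacobian is the scheme of degree zero classes**: it carries a class classifying the rigidified
classes of degree zero, multiplicative for the group law, through which `ψ` is given. -/
theorem exists_jacobian_class (hg : 0 < (letI : X.Over (Spec (CommRingCat.of k)) := ⟨f⟩; Curv2.genus k X))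
    (J : Over (Spec (CommRingCat.of k))) [GrpObj J] (ψ : (ModFun.PicDeg f 0).Hom ⊤ J)
    (hJ : Jac.IsJacobian f ⊤ J ψ) :
    ∃ ξJ : PicLoc.PicSet (XT f J), IsProper J.hom ∧ Smooth J.hom ∧ GeometricallyIntegral J.hom ∧
      pull (secT f σ hσ J) ξJ = 1 ∧ Zero f J ξJ ∧ Classifies f σ hσ (Zero f) J ξJ ∧
      (∀ (T : Over (Spec (CommRingCat.of k))) (p q : T ⟶ J),
        pull (XTmap f (lift p q ≫ μ[J])) ξJ = pull (XTmap f p) ξJ * pull (XTmap f q) ξJ) ∧
      ∀ (T : Over (Spec (CommRingCat.of k))) (x : (XT f T).Modules) (hx : (ModFun.PicDeg f 0).ok T x)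
        (hxi : PicF.IsInvertible x) (v : T ⟶ J),
        ψ.app T x trivial hx = v ↔ pull (XTmap f v) ξJ = rigify f σ hσ T (PicGrp.cls x hxi) := by
  have hdim : ∀ z, topologicalKrullDim ↥(f.fiber z) = 1 := fun z => (dim_fiber_spec f z).trans hd
  obtain ⟨W, G, ξ, a, hWp, hWs, hWi, -, hξ1, hξ0, hξ, hmul, -, -, -⟩ :=
    exists_albanese f σ hσ hd _ hg rfl
  letI := G
  obtain ⟨φ, hφ⟩ := exists_classifier_hom f hd σ hσ W ξ hξ
  obtain ⟨E, hE, hEc⟩ := PicGrp.exists_eq_cls ξ
  have hiE : ∀ {T : Over (Spec (CommRingCat.of k))} (v : T ⟶ W),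
      PicF.IsInvertible ((Scheme.Modules.pullback (XTmap f v)).obj E) := fun v => PicLoc.isInvertible_pullback _ hE
  have okW : ∀ (T : Over (Spec (CommRingCat.of k))) (v : T ⟶ W),
      (ModFun.PicDeg f 0).ok T ((Scheme.Modules.pullback (XTmap f v)).obj E) := fun T v =>
    ⟨⟨trivial, CurveRR.isFinLocFreeOfRank_one (hiE v)⟩, (ok_iff f hd 0 T (hiE v)).2 fun t => by
      rw [← pull_cls (XTmap f v) E hE, ← hEc, degC_pull]
      exact hξ0 _⟩
  have okE : (ModFun.PicDeg f 0).ok W E := ⟨⟨trivial, CurveRR.isFinLocFreeOfRank_one hE⟩,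
    (ok_iff f hd 0 W hE).2 fun t => by rw [← hEc]; exact hξ0 t⟩
  have hφE : ∀ (T : Over (Spec (CommRingCat.of k))) (v : T ⟶ W),
      φ.app T ((Scheme.Modules.pullback (XTmap f v)).obj E) trivial (okW T v) = v := fun T v =>
    (hφ T _ _ (hiE v) v).2 (by
      rw [← pull_cls (XTmap f v) E hE, ← hEc, rigify_of_mem f σ hσ (pull_secT v hξ1)])
  let κ : W ⟶ J := ψ.app W E trivial okE
  have hκ : ∀ (T : Over (Spec (CommRingCat.of k))) (v : T ⟶ W),
      ψ.app T ((Scheme.Modules.pullback (XTmap f v)).obj E) trivial (okW T v) = v ≫ κ := fun T v =>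
    ψ.natural v E trivial trivial okE (okW T v)
  obtain ⟨-, hbest, -⟩ := hJ.coarse
  have hψφ : ∀ (T : Over (Spec (CommRingCat.of k))) (x : (XT f T).Modules) (hx : (ModFun.PicDeg f 0).ok T x),
      ψ.app T x trivial hx = φ.app T x trivial hx ≫ κ := fun T x hx => by
    rw [← hκ]
    refine (ψ.resp _ _ _ (okW T _) hx ?_).symm
    have hxi : PicF.IsInvertible x := ZeroSch.isInvertible_of_rankOne hx.1.2
    have h1 := (hφ T x hx hxi _).1 rfl
    obtain ⟨n, hn⟩ := eq_mul_base_of_rigify_eq f σ hσ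
      ((rigify_of_mem f σ hσ (rigify_mem f σ hσ T (PicGrp.cls x hxi))).symm)
    refine (r_iff f (hiE _) hxi).2 ⟨n, ?_⟩
    rw [← pull_cls (XTmap f _) E hE, ← hEc, h1]
    exact hn
  obtain ⟨θ, hθ, -⟩ := hbest W φ
  have hκθ : κ ≫ θ = 𝟙 W := by
    refine (hθ W E trivial okE).symm.trans ((hφ W E okE hE (𝟙 W)).2 ?_)
    rw [XTmap_id, pull_id, ← hEc, rigify_of_mem f σ hσ hξ1]
  have hθκ : θ ≫ κ = 𝟙 J := by
    obtain ⟨u, -, hu⟩ := hbest J ψ
    refine (hu _ fun T x hT hx => ?_).trans (hu _ fun T x _ _ => (Category.comp_id _).symm).symm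
    rw [← Category.assoc, ← hθ T x hT hx]
    exact hψφ T x hx
  have hκmul : μ[W] ≫ κ = (fst W W ≫ κ) * (snd W W ≫ κ) := by
    rw [← hκ, ← hκ, ← hκ]
    refine hJ.mul (W ⊗ W) trivial _ _ _ (okW _ _) (okW _ _) (okW _ _) ?_
    refine (PicGrp.cls_eq_cls_iff (hiE (μ[W])) (TMul.isInvertible_tensorMod (hiE (fst W W)) (hiE (snd W W)))).1 ?_
    show PicGrp.cls _ (hiE (μ[W])) = PicGrp.cls _ (hiE (fst W W)) * PicGrp.cls _ (hiE (snd W W))
    rw [← pull_cls (XTmap f μ[W]) E hE, ← pull_cls (XTmap f (fst W W)) E hE, ← pull_cls (XTmap f (snd W W)) E hE,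
      ← hEc, ← hmul, lift_fst_snd, Category.id_comp]
  have hκhom : ∀ (T : Over (Spec (CommRingCat.of k))) (p q : T ⟶ W), (p * q) ≫ κ = (p ≫ κ) * (q ≫ κ) := fun T p q => by
    rw [Hom.mul_def, Category.assoc, hκmul, MonObj.comp_mul, lift_fst_assoc, lift_snd_assoc]
  haveI hκm : IsMonHom κ := by
    refine ⟨?_, ?_⟩
    · have h := hκhom _ (1 : 𝟙_ _ ⟶ W) 1
      rw [one_mul] at h
      rw [MonObj.one_eq_one W, MonObj.one_eq_one J]
      exact left_eq_mul.1 h
    · rw [hκmul, Hom.mul_def]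
      congr 1
  haveI : IsIso κ := ⟨θ, hκθ, hθκ⟩
  have hθm : IsMonHom θ := by
    have e : θ = inv κ := (IsIso.eq_inv_of_hom_inv_id hκθ)
    rw [e]
    refine ⟨?_, ?_⟩
    · rw [IsIso.comp_inv_eq, IsMonHom.one_hom]
    · rw [IsIso.comp_inv_eq, Category.assoc, IsMonHom.mul_hom, ← Category.assoc, tensorHom_comp_tensorHom, IsIso.inv_hom_id,
        id_tensorHom_id, Category.id_comp]
  haveI := hθm
  haveI : IsIso θ.left := ⟨κ.left, congrArg CommaMorphism.left hθκ, congrArg CommaMorphism.left hκθ⟩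
  have hw : θ.left ≫ W.hom = J.hom := Over.w θ
  have hpull : ∀ {T : Over (Spec (CommRingCat.of k))} (v : T ⟶ J),
      pull (XTmap f v) (pull (XTmap f θ) ξ) = pull (XTmap f (v ≫ θ)) ξ := fun v => by
    rw [pull_pull, S12404.XTmap_comp]
  refine ⟨pull (XTmap f θ) ξ, hw ▸ inferInstance, hw ▸ inferInstance, ?_, pull_secT θ hξ1,
    fun t => by rw [degC_pull]; exact hξ0 _, fun T c hc hc0 => ?_, fun T p q => ?_, fun T x hx hxi v => ?_⟩
  · haveI : GeometricallyIntegral W.hom := hWi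
    haveI := geometricallyIrreducible_of_isIso θ.left
    haveI : GeometricallyIrreducible J.hom := hw ▸ GeometricallyIrreducible.comp θ.left W.hom
    haveI : Smooth J.hom := hw ▸ inferInstance
    haveI : GeometricallyReduced J.hom := Rigid.geometricallyReduced_of_smooth J.hom
    exact GeometricallyIntegral.of_geometricallyReduced_of_geometricallyIrreducible J.hom
  · obtain ⟨u, hu, huu⟩ := hξ T c hc hc0
    refine ⟨u ≫ κ, ?_, fun v hv => ?_⟩
    · dsimp only
      rw [hpull, Category.assoc, hκθ, Category.comp_id, hu]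
    · dsimp only at hv
      rw [hpull] at hv
      rw [← huu _ hv, Category.assoc, hθκ, Category.comp_id]
  · rw [hpull, hpull, hpull, ← Hom.mul_def, MonObj.mul_comp, Hom.mul_def]
    exact hmul T _ _
  · rw [hpull, hψφ]
    refine Iff.trans ⟨fun h => ?_, fun h => ?_⟩ (hφ T x hx hxi (v ≫ θ))
    · rw [← h, Category.assoc, hκθ, Category.comp_id]
    · rw [h, Category.assoc, hθκ, Category.comp_id]

include hd in
/-- The Abel map is given by the class of a point. -/
theorem abel_class (J : Over (Spec (CommRingCat.of k))) (ψ : (ModFun.PicDeg f 0).Hom ⊤ J)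
    (ξJ : PicLoc.PicSet (XT f J))
    (hψ : ∀ (T : Over (Spec (CommRingCat.of k))) (x : (XT f T).Modules) (hx : (ModFun.PicDeg f 0).ok T x)
        (hxi : PicF.IsInvertible x) (v : T ⟶ J),
        ψ.app T x trivial hx = v ↔ pull (XTmap f v) ξJ = rigify f σ hσ T (PicGrp.cls x hxi))
    (j : Over.mk f ⟶ J) (hj : Jac.IsAbelJacobiAt f σ ψ j) :
    pull (XTmap f j) ξJ = abelCl f σ hσ (Over.mk f) (𝟙 X) (Category.id_comp f) := by
  obtain ⟨hP, L, hL, ⟨hLi, ⟨e⟩⟩, rfl⟩ := hj
  refine ((hψ _ L hL hLi _).1 rfl).trans ?_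
  have hσE : BlowUp.IsEffCartierIdeal σ.ker := effCartier_rat f ⟨‹_›, ‹_›, ‹_›, hd⟩ σ hσ
  have hh : ((Over.mk f).hom ≫ σ) ≫ f = (Over.mk f).hom := by rw [Category.assoc, hσ, Category.comp_id]
  have e0 : HilbD.secGraph f (Over.mk f) ((Over.mk f).hom ≫ σ) hh = σ.ker.comap (pullback.fst f f) := by
    rw [HilbOne.secGraph_eq]
    exact ker_sect_const f σ hσ (Over.mk f) hh
  have hbase : baseCl f σ hσ (Over.mk f) = pull (pullback.fst f f) (divCl σ.ker hσE) := by
    refine Eq.trans ?_ (pull_divCl (pullback.fst f f) hσE (e0 ▸ effCartier_obj f (Over.mk f) (baseDiv f σ hσ _))).symm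
    exact divCl_congr e0 _ _
  have hΔ : HilbD.secGraph f (Over.mk f) (𝟙 X) (Category.id_comp f) = (pullback.diagonal f).ker := rfl
  have hΔi := effCartier_obj f (Over.mk f) (d := 1)
    ⟨_, HilbOne.secGraph_mem f (Over.mk f) (𝟙 X) (Category.id_comp f)⟩
  have hIΔ : PicF.IsInvertible (Y := XT f (Over.mk f))
      (ClSub.idealMod (HilbD.secGraph f (Over.mk f) (𝟙 X) (Category.id_comp f))) :=
    (Groth.Agent.S8914.result _).2 hΔi
  have hIσ : PicF.IsInvertible (ClSub.idealMod σ.ker) := (Groth.Agent.S8914.result _).2 hσE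
  have h1 : PicGrp.cls L hLi * PicGrp.cls _ hIΔ = pull (pullback.fst f f) (PicGrp.cls _ hIσ) := by
    rw [pull_cls]
    exact (PicGrp.cls_eq_cls_iff (TMul.isInvertible_tensorMod hLi hIΔ) (PicLoc.isInvertible_pullback _ hIσ)).2 ⟨e⟩
  rw [abelCl, hbase, divCl, map_inv, inv_inv, ← h1]
  symm
  refine congrArg _ ?_
  show (PicGrp.cls _ hIΔ)⁻¹ * (PicGrp.cls L hLi * PicGrp.cls _ hIΔ) = PicGrp.cls L hLi
  rw [mul_comm _ (PicGrp.cls L hLi * _), mul_inv_cancel_right]

include hd in
/-- **A coarse Jacobian has the Albanese property.** -/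
theorem albanese_of_isJacobian (hg : 0 < (letI : X.Over (Spec (CommRingCat.of k)) := ⟨f⟩; Curv2.genus k X))
    (J : Over (Spec (CommRingCat.of k))) [GrpObj J] (ψ : (ModFun.PicDeg f 0).Hom ⊤ J)
    (hJ : Jac.IsJacobian f ⊤ J ψ) (j : Over.mk f ⟶ J) (hj : Jac.IsAbelJacobiAt f σ ψ j) :
    basePt f σ hσ ≫ j = η[J] ∧
    ∀ (A : Over (Spec (CommRingCat.of k))) [GrpObj A] [IsProper A.hom] [GeometricallyIntegral A.hom]
      (h : Over.mk f ⟶ A), basePt f σ hσ ≫ h = η[A] → ∃! χ : J ⟶ A, IsMonHom χ ∧ j ≫ χ = h := by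
  obtain ⟨ξJ, hp, hs, hi, h1, h0, hc, hmul, hψ⟩ := exists_jacobian_class f hd σ hσ hg J ψ hJ
  haveI := hp
  haveI := hs
  haveI := hi
  haveI : IsCommMonObj J := isCommMonObj_of_isProper_of_geometricallyIntegral J
  have ha := abel_class f hd σ hσ J ψ ξJ hψ j hj
  exact ⟨abel_base f σ hσ hd J ξJ hc hmul j ha, fun A _ _ _ h hh =>
    albanese f σ hσ hd _ (Nat.succ_pred_eq_of_pos hg).symm J ξJ h1 h0 hc hmul j ha A h hh⟩

end Groth.Agent.PicCurve
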