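import Groth.Agent.PicCurve.Chart
import Mathlib.AlgebraicGeometry.Sites.Representability

/-!
The rigidified Picard functor of a family of curves is representable once every fibre class can be moved
by a class of the total space to one with one section and no `H¹`.
-/

set_option autoImplicit false
set_option backward.isDefEq.respectTransparency false
set_option backward.isDefEq.respectTransparency.types false
set_option linter.style.haveILetI false
set_option maxHeartbeats 2000000

universe u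

open CategoryTheory CategoryTheory.Limits AlgebraicGeometry TopologicalSpace Opposite
open PicF
open Groth.Agent.W7Cube (pull pull_pull pull_cls)

attribute [local instance] Groth.Agent.W7Cube.law

noncomputable section

namespace Groth.Agent.PicCurve

section Basic

variable {X S : Scheme.{u}} {f : X ⟶ S} {σ : S ⟶ X} {hσ : σ ≫ f = 𝟙 S}

theorem Fam.eq_iff {T : Scheme.{u}} (a : Fam f σ hσ T) (g : T ⟶ S) (c : PicLoc.PicSet (XT f (Over.mk g)))
    (hc : pull (secT f σ hσ (Over.mk g)) c = 1) (m : Over.mk g ⟶ Over.mk a.g) (hm : m.left = 𝟙 T) :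
    a = ⟨g, c, hc⟩ ↔ pull (XTmap f m) a.c = c := by
  refine ⟨fun h => ?_, fun h => (Fam.ext_of (a := ⟨g, c, hc⟩) (b := a) m hm h).symm⟩
  subst h
  obtain rfl : m = 𝟙 _ := Over.OverMorphism.ext hm
  rw [XTmap_id, pull_id]

theorem Fam.restr_eq {T : Scheme.{u}} (z : Fam f σ hσ T) (W : Over S) (a : W ⟶ Over.mk z.g) :
    z.restr a.left = ⟨W.hom, pull (XTmap f a) z.c, pull_secT a z.hc⟩ := by
  have hw : a.left ≫ z.g = W.hom := Over.w a
  refine (Fam.eq_iff _ _ _ _ (Over.homMk (𝟙 W.left) ((Category.id_comp (a.left ≫ z.g)).trans hw)) rfl).2 ?_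
  show pull (XTmap f _) (pull (XTmap f _) z.c) = _
  rw [pull_pull, S12404.XTmap_comp]
  exact congrArg (fun q => pull (XTmap f q) z.c) (Over.OverMorphism.ext (Category.id_comp a.left))

theorem Fam.restr_eq_iff {T T₁ : Scheme.{u}} (z : Fam f σ hσ T) (z₁ : Fam f σ hσ T₁) (W : Over S)
    (a : W ⟶ Over.mk z.g) (b : W ⟶ Over.mk z₁.g) :
    z.restr a.left = z₁.restr b.left ↔ pull (XTmap f a) z.c = pull (XTmap f b) z₁.c := by
  rw [Fam.restr_eq, Fam.restr_eq]
  simp only [Fam.mk.injEq, heq_eq_eq, true_and]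

end Basic

variable {X S : Scheme.{u}} (f : X ⟶ S) [IsProper f] [SmoothOfRelativeDimension 1 f] [GeometricallyConnected f]
  (σ : S ⟶ X) (hσ : σ ≫ f = 𝟙 S)
  (ha : ∀ (T : Over S) (U : T.left.Opens), IsIso ((PicF.XTproj f T).app U))
  (g : ℕ) (hdim : ∀ z : S, topologicalKrullDim ↥(f.fiber z) = 1)
  (hO : ∀ z : S, PerfAux.betti f (Coh.structureModule X) z 0 = 1 ∧ PerfAux.betti f (Coh.structureModule X) z 1 = g)
  (H : Over S) (Z : HilbD.Obj f g H) (hH : HilbD.IsUniversal f g H Z)

/-- The structure map as a morphism to the terminal object. -/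
def toOne (T : Over S) : T ⟶ Over.mk (𝟙 S) := Over.homMk T.hom (Category.comp_id _)

/-- Translations. -/
abbrev Tr : Type (u + 1) := {e : PicLoc.PicSet (XT f (Over.mk (𝟙 S))) // pull (secT f σ hσ (Over.mk (𝟙 S))) e = 1}

/-- The good locus of the Hilbert scheme. -/
def goodH : H.left.Opens := ⟨{t | GoodC f H (cH f g H Z) t}, isOpen_goodC f H _⟩

/-- The chart scheme. -/
abbrev chartOver : Over S := AbDual.ovr H (goodH f g H Z).ι

omit [GeometricallyConnected f] in
theorem secT_translate {T : Over S} (e : Tr f σ hσ) : pull (secT f σ hσ T) (pull (XTmap f (toOne T)) e.1) = 1 :=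
  pull_secT _ e.2

/-- The universal class of a chart. -/
def chartFam (e : Tr f σ hσ) : Fam f σ hσ (chartOver f g H Z).left where
  g := (chartOver f g H Z).hom
  c := rigify f σ hσ (chartOver f g H Z) (pull (XTmap f (AbDual.ovrHom H (goodH f g H Z).ι)) (cH f g H Z)) *
    (pull (XTmap f (toOne (chartOver f g H Z))) e.1)⁻¹
  hc := by
    show pull (secT f σ hσ (chartOver f g H Z)) (rigify f σ hσ (chartOver f g H Z) _ * _⁻¹) = 1
    rw [map_mul, map_inv, rigify_mem, secT_translate, inv_one, mul_one]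

/-- The pullback of the universal class of a chart. -/
theorem pull_chartFam (e : Tr f σ hσ) (W : Over S) (a : W ⟶ Over.mk (chartFam f σ hσ g H Z e).g) :
    pull (XTmap f a) (chartFam f σ hσ g H Z e).c =
      rigify f σ hσ W (pull (XTmap f (show W ⟶ H from a ≫ AbDual.ovrHom H (goodH f g H Z).ι)) (cH f g H Z)) *
        (pull (XTmap f (toOne W)) e.1)⁻¹ := by
  show pull (XTmap f (show W ⟶ chartOver f g H Z from a)) (_ * _) = _
  rw [map_mul, map_inv, pull_rigify, pull_pull, pull_pull, S12404.XTmap_comp, S12404.XTmap_comp]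
  refine congrArg (fun q => _ * (pull (XTmap f q) e.1)⁻¹) (Over.OverMorphism.ext ?_)
  exact Over.w (show W ⟶ chartOver f g H Z from a)

/-- A chart as a map to the functor. -/
def chartMap (e : Shrink.{u} (Tr f σ hσ)) : yoneda.obj (chartOver f g H Z).left ⟶ functor f σ hσ :=
  yonedaEquiv.symm (equivShrink _ (chartFam f σ hσ g H Z ((equivShrink _).symm e)))

theorem chartMap_app (e : Shrink.{u} (Tr f σ hσ)) (Y : Scheme.{u}ᵒᵖ) (h : Y.unop ⟶ (chartOver f g H Z).left) :
    (chartMap f σ hσ g H Z e).app Y h =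
      equivShrink _ ((chartFam f σ hσ g H Z ((equivShrink _).symm e)).restr h) := by
  change (functor f σ hσ).map h.op _ = _
  exact functor_map f σ hσ _ _

include hdim hO hH ha in
/-- Translated good classes are classified by the chart. -/
theorem existsUnique_chart (e : Tr f σ hσ) (T : Over S) (c : PicLoc.PicSet (XT f T))
    (hc : pull (secT f σ hσ T) c = 1) (hgood : ∀ t, GoodC f T (c * pull (XTmap f (toOne T)) e.1) t) :
    ∃! a : T ⟶ Over.mk (chartFam f σ hσ g H Z e).g, pull (XTmap f a) (chartFam f σ hσ g H Z e).c = c := by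
  obtain ⟨x, hx, hxu⟩ := existsUnique_hom f σ hσ ha g hdim hO H Z hH T _
    (by rw [map_mul, hc, secT_translate f σ hσ e, one_mul]) hgood
  have hrange : Set.range x.left ⊆ Set.range (goodH f g H Z).ι := by
    rintro _ ⟨t, rfl⟩
    rw [Scheme.Opens.range_ι]
    show GoodC f H (cH f g H Z) (x.left t)
    rw [← goodC_pull f x, ← goodC_rigify f σ hσ, hx]
    exact hgood t
  let k : T ⟶ chartOver f g H Z := Over.homMk (IsOpenImmersion.lift (goodH f g H Z).ι x.left hrange) (by
    show IsOpenImmersion.lift (goodH f g H Z).ι x.left hrange ≫ (goodH f g H Z).ι ≫ H.hom = T.hom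
    rw [IsOpenImmersion.lift_fac_assoc]
    exact Over.w x)
  have hk : k ≫ AbDual.ovrHom H (goodH f g H Z).ι = x := Over.OverMorphism.ext (IsOpenImmersion.lift_fac _ _ _)
  refine ⟨k, ?_, fun b hb => ?_⟩
  · show pull (XTmap f (show T ⟶ Over.mk (chartFam f σ hσ g H Z e).g from k)) (chartFam f σ hσ g H Z e).c = c
    rw [pull_chartFam]
    exact (congrArg (fun q => rigify f σ hσ T (pull (XTmap f q) (cH f g H Z)) * _) hk).trans
      (by rw [hx, mul_inv_cancel_right])
  · dsimp only at hb
    rw [pull_chartFam] at hb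
    have h := hxu _ (eq_mul_of_mul_inv_eq hb)
    refine Over.OverMorphism.ext ((cancel_mono (goodH f g H Z).ι).1 ?_)
    exact (congrArg CommaMorphism.left h).trans (congrArg CommaMorphism.left hk).symm

include hdim hO hH ha in
theorem isOpenImmersion_chartMap (e : Shrink.{u} (Tr f σ hσ)) :
    IsOpenImmersion.presheaf (chartMap f σ hσ g H Z e) := by
  let e₀ := (equivShrink _).symm e
  refine MorphismProperty.relative.of_exists fun T gT => ?_
  let z : Fam f σ hσ T := (equivShrink _).symm (yonedaEquiv gT)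
  have hg : ∀ (Y : Scheme.{u}ᵒᵖ) (y : Y.unop ⟶ T), gT.app Y y = equivShrink _ (z.restr y) := fun Y y => by
    refine Eq.trans ?_ (functor_map f σ hσ y.op z)
    rw [Equiv.apply_symm_apply]
    conv_lhs => rw [← yonedaEquiv.symm_apply_apply gT]
    rfl
  let cz := z.c * pull (XTmap f (toOne (Over.mk z.g))) e₀.1
  let O : T.Opens := ⟨{t | GoodC f (Over.mk z.g) cz t}, isOpen_goodC f (Over.mk z.g) cz⟩
  have good_iff : ∀ (W : Over S) (b : W ⟶ Over.mk z.g) (w : W.left),
      GoodC f W (pull (XTmap f b) z.c * pull (XTmap f (toOne W)) e₀.1) w ↔ b.left w ∈ O := by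
    intro W b w
    show _ ↔ GoodC f (Over.mk z.g) cz (b.left w)
    rw [← goodC_pull f b, map_mul, pull_pull (XTmap f b) (XTmap f (toOne (Over.mk z.g))), S12404.XTmap_comp,
      show b ≫ toOne (Over.mk z.g) = toOne W from Over.OverMorphism.ext (Over.w b)]
  let TO := AbDual.ovr (Over.mk z.g) O.ι
  let bO : TO ⟶ Over.mk z.g := AbDual.ovrHom (Over.mk z.g) O.ι
  obtain ⟨k, hk, -⟩ := existsUnique_chart f σ hσ ha g hdim hO H Z hH e₀ TO (pull (XTmap f bO) z.c)
    (pull_secT bO z.hc) fun w => (good_iff TO bO w).2 w.2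
  have hsq : (chartFam f σ hσ g H Z e₀).restr k.left = z.restr O.ι :=
    (Fam.restr_eq_iff _ z TO k bO).2 hk
  refine ⟨O.toScheme, yoneda.map k.left, O.ι, ?_, inferInstance⟩
  refine IsPullback.of_forall_isPullback_app fun Y => ?_
  refine (Types.isPullback_iff _ _ _ _).mpr ⟨?_, ?_, ?_⟩
  · ext (y : Y.unop ⟶ O.toScheme)
    change (chartMap f σ hσ g H Z e).app Y (y ≫ k.left) = gT.app Y (y ≫ O.ι)
    rw [chartMap_app, hg, ← Fam.restr_restr, hsq, Fam.restr_restr]
  · rintro (y : Y.unop ⟶ O.toScheme) (y' : Y.unop ⟶ O.toScheme) h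
    exact (cancel_mono O.ι).mp h.2
  · rintro (x : Y.unop ⟶ (chartOver f g H Z).left) (y : Y.unop ⟶ T) h
    rw [chartMap_app, hg] at h
    have h' := (equivShrink _).injective h
    let W : Over S := Over.mk (y ≫ z.g)
    have hxw : x ≫ (chartFam f σ hσ g H Z e₀).g = y ≫ z.g := congrArg Fam.g h'
    let a : W ⟶ Over.mk (chartFam f σ hσ g H Z e₀).g := Over.homMk x hxw
    let b : W ⟶ Over.mk z.g := Over.homMk y rfl
    have hab := (Fam.restr_eq_iff _ z W a b).1 h'
    have hr : rigify f σ hσ W (pull (XTmap f (show W ⟶ H from a ≫ AbDual.ovrHom H (goodH f g H Z).ι)) (cH f g H Z)) =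
        pull (XTmap f b) z.c * pull (XTmap f (toOne W)) e₀.1 := by
      rw [← hab, pull_chartFam, inv_mul_cancel_right]
    have hgW : ∀ w, GoodC f W (pull (XTmap f b) z.c * pull (XTmap f (toOne W)) e₀.1) w := fun w => by
      rw [← hr, goodC_rigify, goodC_pull]
      exact (x w).2
    let l := IsOpenImmersion.lift O.ι y (by
      rintro _ ⟨w, rfl⟩
      rw [Scheme.Opens.range_ι]
      exact (good_iff W b w).1 (hgW w))
    have hl : l ≫ O.ι = y := IsOpenImmersion.lift_fac _ _ _
    refine ⟨l, ?_, hl⟩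
    change l ≫ k.left = x
    let l' : W ⟶ TO := Over.homMk l (by
      show l ≫ O.ι ≫ z.g = y ≫ z.g
      rw [← Category.assoc, hl])
    have huniq := (existsUnique_chart f σ hσ ha g hdim hO H Z hH e₀ W (pull (XTmap f b) z.c)
      (pull_secT b z.hc) hgW).unique (y₁ := l' ≫ k) (y₂ := a) (by
        rw [← S12404.XTmap_comp, ← pull_pull, hk, pull_pull, S12404.XTmap_comp,
          show l' ≫ bO = b from Over.OverMorphism.ext hl]) hab
    exact congrArg CommaMorphism.left huniq

include hdim hO hH ha in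
theorem isLocallySurjective_chartMap
    (hcov : ∀ (T : Over S) (c : PicLoc.PicSet (XT f T)) (t : T.left),
      ∃ e : Tr f σ hσ, GoodC f T (c * pull (XTmap f (toOne T)) e.1) t) :
    Presheaf.IsLocallySurjective Scheme.zariskiTopology (Sigma.desc (chartMap f σ hσ g H Z)) := by
  refine ⟨fun {T} (s : Shrink.{u} (Fam f σ hσ T)) => ?_⟩
  obtain ⟨z, rfl⟩ := (equivShrink _).surjective s
  let B := Over.mk z.g
  choose e he using hcov B z.c
  let O : T → T.Opens := fun t =>
    ⟨{t' | GoodC f B (z.c * pull (XTmap f (toOne B)) (e t).1) t'}, isOpen_goodC f B _⟩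
  let 𝒰 : T.OpenCover := Scheme.Cover.mkOfCovers T (fun t => (O t).toScheme) (fun t => (O t).ι)
    fun t => ⟨t, ⟨t, he t⟩, rfl⟩
  refine GrothendieckTopology.superset_covering _ ?_ 𝒰.mem_grothendieckTopology
  rintro V h ⟨W, a, _, ⟨t⟩, rfl⟩
  let TO := AbDual.ovr B (O t).ι
  let bO : TO ⟶ B := AbDual.ovrHom B (O t).ι
  obtain ⟨k, hk, -⟩ := existsUnique_chart f σ hσ ha g hdim hO H Z hH (e t) TO (pull (XTmap f bO) z.c)
    (pull_secT bO z.hc) fun w => by
      rw [show toOne TO = bO ≫ toOne B from Over.OverMorphism.ext (Over.w bO).symm, ← S12404.XTmap_comp,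
        ← pull_pull, ← map_mul, goodC_pull]
      exact w.2
  have hsq : (chartFam f σ hσ g H Z (e t)).restr k.left = z.restr (O t).ι :=
    (Fam.restr_eq_iff _ z TO k bO).2 hk
  refine ⟨(Sigma.ι (fun _ : Shrink.{u} (Tr f σ hσ) => yoneda.obj (chartOver f g H Z).left)
    (equivShrink _ (e t))).app (op V) (a ≫ k.left), ?_⟩
  change ((Sigma.ι (fun _ : Shrink.{u} (Tr f σ hσ) => yoneda.obj (chartOver f g H Z).left) (equivShrink _ (e t))) ≫
    Sigma.desc (chartMap f σ hσ g H Z)).app (op V) (a ≫ k.left) = _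
  rw [Sigma.ι_desc, chartMap_app, Equiv.symm_apply_apply, ← Fam.restr_restr, hsq, Fam.restr_restr]
  exact (functor_map f σ hσ (a ≫ (O t).ι).op z).symm

include hdim hO hH ha in
/-- Representability from translates of the good locus. -/
theorem rigRepresentable
    (hcov : ∀ (T : Over S) (c : PicLoc.PicSet (XT f T)) (t : T.left),
      ∃ e : Tr f σ hσ, GoodC f T (c * pull (XTmap f (toOne T)) e.1) t) :
    PicF.RigRepresentable f σ hσ := by
  let F : Sheaf Scheme.zariskiTopology (Type u) :=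
    ⟨functor f σ hσ, (isSheaf_iff_isSheaf_of_type _ _).mpr (isSheaf f σ hσ ha)⟩
  haveI : Presheaf.IsLocallySurjective Scheme.zariskiTopology (Sigma.desc (chartMap f σ hσ g H Z)) :=
    isLocallySurjective_chartMap f σ hσ ha g hdim hO H Z hH hcov
  obtain ⟨P, ⟨r⟩⟩ := Scheme.LocalRepresentability.isRepresentable (F := F) (f := chartMap f σ hσ g H Z)
    (isOpenImmersion_chartMap f σ hσ ha g hdim hO H Z hH)
  let zP : Fam f σ hσ P := (equivShrink _).symm (r.homEquiv (𝟙 P))
  have he : ∀ {Y : Scheme.{u}} (m : Y ⟶ P), r.homEquiv m = equivShrink _ (zP.restr m) := fun m => by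
    rw [r.homEquiv_eq m]
    refine Eq.trans ?_ (functor_map f σ hσ m.op zP)
    rw [Equiv.apply_symm_apply]
  refine ⟨Over.mk zP.g, ⟨zP.c.1, zP.c.2, congrArg Subtype.val zP.hc⟩, fun T c => ?_⟩
  let cT : PicLoc.PicSet (XT f T) := ⟨c.1, c.2.1⟩
  have hcT : pull (secT f σ hσ T) cT = 1 := Subtype.ext c.2.2
  let zT : Fam f σ hσ T.left := ⟨T.hom, cT, hcT⟩
  let m := r.homEquiv.symm (equivShrink _ zT)
  have hm : zP.restr m = zT :=
    (equivShrink _).injective ((he m).symm.trans (r.homEquiv.apply_symm_apply _))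
  have hmg : m ≫ zP.g = T.hom := congrArg Fam.g hm
  let M : T ⟶ Over.mk zP.g := Over.homMk m hmg
  refine ⟨M, ?_, fun b hb => ?_⟩
  · have h := (Fam.restr_eq zP T M).symm.trans hm
    simp only [zT, Fam.mk.injEq, heq_eq_eq, true_and] at h
    exact congrArg Subtype.val h
  · have h : zP.restr b.left = zT := by
      rw [Fam.restr_eq]
      simp only [zT, Fam.mk.injEq, heq_eq_eq, true_and]
      exact Subtype.ext hb
    refine Over.OverMorphism.ext (r.homEquiv.injective ?_)
    exact (he _).trans ((congrArg _ (h.trans hm.symm)).trans (he m).symm)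

end Groth.Agent.PicCurve
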