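import Groth.Agent.PicCurve.AbelSum
import Groth.Agent.PicCurve.PointSum
import Groth.Agent.PicCurve.Main
import Groth.Agent.S1170

/-!
The sum map of a curve with a rational point to its scheme of degree zero classes, through the symmetric power.
-/

set_option autoImplicit false
set_option backward.isDefEq.respectTransparency false
set_option backward.isDefEq.respectTransparency.types false
set_option linter.style.haveILetI false
set_option linter.unusedSectionVars false
set_option maxHeartbeats 1000000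

universe u

open CategoryTheory CategoryTheory.Limits AlgebraicGeometry TopologicalSpace Opposite MonoidalCategory CartesianMonoidalCategory
open PicF
open scoped MonObj
open Groth.Agent.W7Cube (pull pull_pull pull_cls)

attribute [local instance] Groth.Agent.W7Cube.law

noncomputable section

namespace Groth.Agent.PicCurve

variable {k : Type u} [Field k] {X : Scheme.{u}} (f : X ⟶ Spec (CommRingCat.of k)) [IsProper f]
  [SmoothOfRelativeDimension 1 f] [GeometricallyConnected f] (σ : Spec (CommRingCat.of k) ⟶ X)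
  (hσ : σ ≫ f = 𝟙 (Spec (CommRingCat.of k)))

/-- The degree zero class of a point. -/
def abelCl (T : Over (Spec (CommRingCat.of k))) (x : T.left ⟶ X) (hx : x ≫ f = T.hom) : PicLoc.PicSet (XT f T) :=
  rigify f σ hσ T (ptCl f T x hx * (baseCl f σ hσ T)⁻¹)

/-- Rigidification as a homomorphism. -/
def rigHom (T : Over (Spec (CommRingCat.of k))) : PicLoc.PicSet (XT f T) →* PicLoc.PicSet (XT f T) :=
  MonoidHom.mk' (rigify f σ hσ T) (rigify_mul f σ hσ T)

theorem pull_abelCl {T T' : Over (Spec (CommRingCat.of k))} (m : T' ⟶ T) (x : T.left ⟶ X) (hx : x ≫ f = T.hom) :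
    pull (XTmap f m) (abelCl f σ hσ T x hx) =
      abelCl f σ hσ T' (m.left ≫ x) (by rw [Category.assoc, hx]; exact Over.w m) := by
  rw [abelCl, pull_rigify, map_mul, map_inv, pull_baseCl, pull_ptCl]
  rfl

theorem abelCl_base {T : Over (Spec (CommRingCat.of k))} (x : T.left ⟶ X) (hx : x ≫ f = T.hom) (h : x = T.hom ≫ σ) :
    abelCl f σ hσ T x hx = 1 := by
  subst h
  rw [abelCl, show ptCl f T (T.hom ≫ σ) hx = baseCl f σ hσ T from rfl, mul_inv_cancel]
  exact map_one (rigHom f σ hσ T)

section Group

variable {W : Over (Spec (CommRingCat.of k))} {ξ : PicLoc.PicSet (XT f W)} [GrpObj W]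
  (hmul : ∀ (T : Over (Spec (CommRingCat.of k))) (p q : T ⟶ W),
    pull (XTmap f (lift p q ≫ μ[W])) ξ = pull (XTmap f p) ξ * pull (XTmap f q) ξ)

include hmul

/-- The class of a point of the group as a homomorphism. -/
def clsHom (T : Over (Spec (CommRingCat.of k))) : (T ⟶ W) →* PicLoc.PicSet (XT f T) :=
  MonoidHom.mk' (fun p => pull (XTmap f p) ξ) fun p q => by rw [Hom.mul_def]; exact hmul T p q

theorem pull_one_pt (T : Over (Spec (CommRingCat.of k))) : pull (XTmap f (1 : T ⟶ W)) ξ = 1 :=
  map_one (clsHom f hmul T)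

theorem pull_prod_pt [IsCommMonObj W] (T : Over (Spec (CommRingCat.of k))) {n : ℕ} (p : Fin n → (T ⟶ W)) :
    pull (XTmap f (∏ i, p i)) ξ = ∏ i, pull (XTmap f (p i)) ξ :=
  map_prod (clsHom f hmul T) p Finset.univ

end Group

section Sum

variable (hdim : ∀ z : Spec (CommRingCat.of k), topologicalKrullDim ↥(f.fiber z) = 1)
  {W : Over (Spec (CommRingCat.of k))} {ξ : PicLoc.PicSet (XT f W)}
  (hξ1 : pull (secT f σ hσ W) ξ = 1) (hξ0 : Zero f W ξ) (hξ : Classifies f σ hσ (Zero f) W ξ)
  (g : ℕ) (Y : Over (Spec (CommRingCat.of k))) (D : HilbD.Obj f g Y)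

include hdim in
theorem zero_abelCl (T : Over (Spec (CommRingCat.of k))) (x : T.left ⟶ X) (hx : x ≫ f = T.hom) :
    Zero f T (abelCl f σ hσ T x hx) := fun t => by
  rw [abelCl, degC_rigify f hdim, degC_mul f hdim, degC_inv f hdim, baseCl, degC_divCl f hdim, ptCl,
    degC_divCl f hdim (d := 1) T ⟨HilbD.secGraph f T x hx, HilbOne.secGraph_mem f T x hx⟩]
  exact add_neg_cancel _

/-- The degree zero class of the universal divisor. -/
def sumCl : PicLoc.PicSet (XT f Y) := rigify f σ hσ Y (cH f g Y D * (baseCl f σ hσ Y ^ g)⁻¹)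

include hdim in
theorem zero_sumCl : Zero f Y (sumCl f σ hσ g Y D) := fun t => by
  rw [sumCl, degC_rigify f hdim, degC_mul f hdim, degC_inv f hdim, degC_pow f hdim, baseCl, degC_divCl f hdim, cH,
    degC_divCl f hdim]
  simp

/-- The class whose good locus is birational to the symmetric power. -/
def goodCl (W : Over (Spec (CommRingCat.of k))) (ξ : PicLoc.PicSet (XT f W)) : PicLoc.PicSet (XT f W) :=
  ξ * baseCl f σ hσ W ^ g

include hξ1 in
/-- Along the sum map the good class is the universal divisor. -/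
theorem rigify_pull_goodCl (b : Y ⟶ W) (hb : pull (XTmap f b) ξ = sumCl f σ hσ g Y D)
    {T : Over (Spec (CommRingCat.of k))} (v : T ⟶ Y) :
    rigify f σ hσ T (pull (XTmap f (v ≫ b)) (goodCl f σ hσ g W ξ)) = rigify f σ hσ T (pull (XTmap f v) (cH f g Y D)) := by
  rw [← S12404.XTmap_comp, ← pull_pull, goodCl, map_mul, hb, map_pow, pull_baseCl, sumCl, ← pull_rigify, ← pull_rigify]
  refine congrArg _ ?_
  rw [rigify_mul, rigify_of_mem f σ hσ (rigify_mem f σ hσ Y _), ← rigify_mul, inv_mul_cancel_right]

end Sum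

section Point

variable (hdim : ∀ z : Spec (CommRingCat.of k), topologicalKrullDim ↥(f.fiber z) = 1)
  (g : ℕ) (hO : ∀ z : Spec (CommRingCat.of k), PerfAux.betti f (Coh.structureModule X) z 0 = 1 ∧
    PerfAux.betti f (Coh.structureModule X) z 1 = g)

include hdim hO in
/-- Over an algebraically closed field some `g` points have one section and no `H¹`. -/
theorem exists_good_tuple : ∃ (T : Over (Spec (CommRingCat.of k))) (t : T.left) (x : Fin g → (T.left ⟶ X))
    (hx : ∀ i, x i ≫ f = T.hom), GoodC f T (∏ i, ptCl f T (x i) (hx i)) t := by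
  let Ω := AlgebraicClosure k
  let ω : Spec (CommRingCat.of Ω) ⟶ Spec (CommRingCat.of k) := Spec.map (CommRingCat.ofHom (algebraMap k Ω))
  let T : Over (Spec (CommRingCat.of k)) := ptOver ω
  letI := ptStr f ω
  haveI : IsProper (XT f T ↘ Spec (CommRingCat.of Ω)) := isProper_proj f _
  haveI : SmoothOfRelativeDimension 1 (XT f T ↘ Spec (CommRingCat.of Ω)) := smooth_proj f _
  haveI : Smooth (XT f T ↘ Spec (CommRingCat.of Ω)) := SmoothOfRelativeDimension.smooth 1 _
  haveI : GeometricallyConnected (XT f T ↘ Spec (CommRingCat.of Ω)) := geomConn_proj f _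
  obtain ⟨hd', -⟩ := curve_pt f hdim ω
  let t : T.left := IsLocalRing.closedPoint Ω
  have hgen : Curv2.genus Ω (XT f T) = g := by
    rw [← (betti_proj f g hO T t).2]
    exact (AbelMap.betti_field (X := XT f T) (QC.isQCoh_unit _) t 1).symm
  obtain ⟨τ, h0, h1⟩ := exists_good_points Ω hd' g hgen
  refine ⟨T, t, fun i => (τ i).1 ≫ pullback.fst f T.hom, fun i => ?_, ?_⟩
  · rw [Category.assoc, pullback.condition, ← Category.assoc]
    exact (congrArg (· ≫ T.hom) (τ i).2).trans (Category.id_comp _)
  · have he : ∀ i, ptCl f T ((τ i).1 ≫ pullback.fst f T.hom)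
        (by
          rw [Category.assoc, pullback.condition, ← Category.assoc]
          exact (congrArg (· ≫ T.hom) (τ i).2).trans (Category.id_comp _)) = delta Ω (τ i) hd' := fun i => by
      refine divCl_congr ?_ _ _
      rw [HilbOne.secGraph_eq]
      exact congrArg Scheme.Hom.ker (pullback.hom_ext (HilbOne.sect_fst f T _ _)
        ((HilbOne.sect_snd f T _ _).trans (τ i).2.symm))
    rw [Finset.prod_congr rfl fun i _ => he i]
    obtain ⟨L, hL, hLc⟩ := PicGrp.exists_eq_cls (∏ i, delta Ω (τ i) hd')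
    rw [hLc, hC_cls] at h0 h1
    rw [hLc, goodC_cls]
    exact ⟨(AbelMap.betti_field (X := XT f T) (TMul.isQCoh_of_isInvertible hL) t 0).trans h0,
      (AbelMap.betti_field (X := XT f T) (TMul.isQCoh_of_isInvertible hL) t 1).trans h1⟩

end Point

end Groth.Agent.PicCurve
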