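import Groth.Agent.S12404
import Groth.Agent.S10964
import Mathlib.Logic.Small.Basic
import Mathlib.AlgebraicGeometry.Sites.BigZariski

/-!
The rigidified Picard functor as a small Zariski sheaf.
-/

set_option autoImplicit false
set_option backward.isDefEq.respectTransparency false
set_option backward.isDefEq.respectTransparency.types false
set_option linter.style.haveILetI false
set_option maxHeartbeats 1000000

universe u

open CategoryTheory CategoryTheory.Limits AlgebraicGeometry TopologicalSpace Opposite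
open PicF
open Groth.Agent.W7Cube (pull pull_pull pull_cls)
open Groth.Agent.QC (res resO res_self)

attribute [local instance] Groth.Agent.W7Cube.law

noncomputable section

namespace Groth.Agent.PicCurve

theorem pull_id {Y : Scheme.{u}} (c : PicLoc.PicSet Y) : pull (𝟙 Y) c = c := by
  obtain ⟨N, hN, rfl⟩ := PicGrp.exists_eq_cls c
  exact Subtype.ext (Quot.sound ⟨(Scheme.Modules.pullbackId _).app N⟩)

/-- Invertible classes form a small set: they are determined by cocycles on covers indexed by points. -/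
instance small_picSet (Y : Scheme.{u}) : Small.{u} (PicLoc.PicSet Y) := by
  let D := Σ U : ↥Y → Y.Opens, ∀ i j : ↥Y, Γ(Y, U i ⊓ U j)
  let P : D → PicLoc.PicSet Y → Prop := fun d c =>
    ∃ (L : Y.Modules) (hL : PicF.IsInvertible L) (s : ∀ i, Γ(L, d.1 i)), c = PicGrp.cls L hL ∧ iSup d.1 = ⊤ ∧
      (∀ (i : ↥Y) (V : Y.Opens) (h : V ≤ d.1 i),
        Function.Bijective (fun r : Γ(Y, V) => r • L.presheaf.map (homOfLE h).op (s i))) ∧
      ∀ i j, L.presheaf.map (homOfLE (inf_le_left : d.1 i ⊓ d.1 j ≤ d.1 i)).op (s i) =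
        d.2 i j • L.presheaf.map (homOfLE (inf_le_right : d.1 i ⊓ d.1 j ≤ d.1 j)).op (s j)
  classical
  refine small_of_surjective (f := fun d : D => if h : ∃ c, P d c then h.choose else 1) fun c => ?_
  obtain ⟨L, hL, rfl⟩ := PicGrp.exists_eq_cls c
  choose U t hyU ht using fun y : ↥Y => TMul.exists_isGen hL y
  choose η hη using fun i j => (ht j (U i ⊓ U j) inf_le_right).2 (res L (inf_le_left : U i ⊓ U j ≤ U i) (t i))
  have hU : iSup U = ⊤ := Opens.ext (Set.eq_univ_of_forall fun y => Opens.mem_iSup.2 ⟨y, hyU y⟩)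
  have hd : P ⟨U, η⟩ (PicGrp.cls L hL) := ⟨L, hL, t, rfl, hU, ht, fun i j => (hη i j).symm⟩
  refine ⟨⟨U, η⟩, ?_⟩
  have hex : ∃ c, P ⟨U, η⟩ c := ⟨_, hd⟩
  simp only [dif_pos hex]
  obtain ⟨L', hL', s', hc, -, hs', hη'⟩ := hex.choose_spec
  rw [hc]
  refine (PicGrp.cls_eq_cls_iff hL' hL).2 ((Groth.Agent.S10964.result Y U hU L' L s' t hs' ht η η hη'
    (fun i j => (hη i j).symm)).2 ⟨fun _ => 1, fun i j => ?_⟩)
  simp

variable {X S : Scheme.{u}} (f : X ⟶ S) (σ : S ⟶ X) (hσ : σ ≫ f = 𝟙 S)

/-- The rigidification of a class. -/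
def rigify (T : Over S) (c : PicLoc.PicSet (XT f T)) : PicLoc.PicSet (XT f T) :=
  c * pull (XTproj f T) (pull (secT f σ hσ T) c)⁻¹

theorem rigify_mem (T : Over S) (c : PicLoc.PicSet (XT f T)) :
    pull (secT f σ hσ T) (rigify f σ hσ T c) = 1 := by
  rw [rigify, map_mul, pull_pull, show secT f σ hσ T ≫ XTproj f T = 𝟙 _ from S12403.secT_proj f σ hσ T,
    pull_id, mul_inv_cancel]

theorem rigify_of_mem {T : Over S} {c : PicLoc.PicSet (XT f T)} (h : pull (secT f σ hσ T) c = 1) :
    rigify f σ hσ T c = c := by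
  rw [rigify, h, inv_one, map_one, mul_one]

theorem rigify_mul (T : Over S) (c d : PicLoc.PicSet (XT f T)) :
    rigify f σ hσ T (c * d) = rigify f σ hσ T c * rigify f σ hσ T d := by
  simp only [rigify, map_mul, mul_inv]
  exact mul_mul_mul_comm c d _ _

theorem rigify_base (T : Over S) (n : PicLoc.PicSet T.left) : rigify f σ hσ T (pull (XTproj f T) n) = 1 := by
  rw [rigify, pull_pull, show secT f σ hσ T ≫ XTproj f T = 𝟙 _ from S12403.secT_proj f σ hσ T, pull_id,
    ← map_mul, mul_inv_cancel, map_one]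

theorem XTmap_proj {T T' : Over S} (g : T' ⟶ T) : XTmap f g ≫ XTproj f T = XTproj f T' ≫ g.left :=
  (PicFam.isPullback_XTmap f g).w

theorem pull_rigify {T T' : Over S} (g : T' ⟶ T) (c : PicLoc.PicSet (XT f T)) :
    pull (XTmap f g) (rigify f σ hσ T c) = rigify f σ hσ T' (pull (XTmap f g) c) := by
  simp only [rigify, map_mul, pull_pull, map_inv]
  rw [← Category.assoc, XTmap_proj, Category.assoc, ← S12403.secT_nat f σ hσ g, ← Category.assoc]

/-- Equal rigidifications mean a difference from the base. -/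
theorem eq_mul_base_of_rigify_eq {T : Over S} {c d : PicLoc.PicSet (XT f T)}
    (h : rigify f σ hσ T c = rigify f σ hσ T d) :
    ∃ n, c = d * pull (XTproj f T) n := by
  refine ⟨(pull (secT f σ hσ T) d)⁻¹ * pull (secT f σ hσ T) c, ?_⟩
  rw [map_mul, ← mul_assoc, show d * pull (XTproj f T) (pull (secT f σ hσ T) d)⁻¹ = rigify f σ hσ T d from rfl,
    ← h, rigify, mul_assoc, ← map_mul, inv_mul_cancel, map_one, mul_one]

/-- A rigidified class on a scheme with a structure map to `S`. -/
structure Fam (T : Scheme.{u}) : Type (u + 1) where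
  g : T ⟶ S
  c : PicLoc.PicSet (XT f (Over.mk g))
  hc : pull (secT f σ hσ (Over.mk g)) c = 1

variable {f σ hσ}

theorem XTmap_id (T : Over S) : XTmap f (𝟙 T) = 𝟙 _ := by
  refine pullback.hom_ext ?_ ?_ <;> simp [XTmap]

/-- Extensionality of rigidified classes. -/
theorem Fam.ext_of {T : Scheme.{u}} {a b : Fam f σ hσ T} (m : Over.mk a.g ⟶ Over.mk b.g) (hm : m.left = 𝟙 T)
    (h : pull (XTmap f m) b.c = a.c) : a = b := by
  obtain ⟨g, c, hc⟩ := a
  obtain ⟨g', c', hc'⟩ := b
  have hg : g = g' := by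
    have h' : m.left ≫ g' = g := Over.w m
    rw [hm] at h'
    exact h'.symm.trans (Category.id_comp g')
  subst hg
  obtain rfl : m = 𝟙 _ := Over.OverMorphism.ext hm
  rw [XTmap_id, pull_id] at h
  obtain rfl : c' = c := h
  rfl

theorem pull_secT {T T' : Over S} (g : T' ⟶ T) {c : PicLoc.PicSet (XT f T)}
    (hc : pull (secT f σ hσ T) c = 1) : pull (secT f σ hσ T') (pull (XTmap f g) c) = 1 := by
  rw [pull_pull, S12403.secT_nat f σ hσ g, ← pull_pull, hc, map_one]

/-- Base change of rigidified classes. -/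
def Fam.restr {T T' : Scheme.{u}} (z : Fam f σ hσ T) (h : T' ⟶ T) : Fam f σ hσ T' where
  g := h ≫ z.g
  c := pull (XTmap f (Over.homMk h rfl : Over.mk (h ≫ z.g) ⟶ Over.mk z.g)) z.c
  hc := pull_secT _ z.hc

theorem Fam.restr_id {T : Scheme.{u}} (z : Fam f σ hσ T) : z.restr (𝟙 T) = z :=
  Fam.ext_of (Over.homMk (𝟙 T) rfl) rfl rfl

theorem Fam.restr_restr {T T' T'' : Scheme.{u}} (z : Fam f σ hσ T) (h : T' ⟶ T) (h' : T'' ⟶ T') :
    (z.restr h).restr h' = z.restr (h' ≫ h) := by
  refine Fam.ext_of (Over.homMk (𝟙 _) ?_) rfl ?_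
  · show 𝟙 _ ≫ (h' ≫ h) ≫ z.g = h' ≫ h ≫ z.g
    rw [Category.id_comp, Category.assoc]
  · show pull (XTmap f _) (pull (XTmap f _) z.c) = pull (XTmap f _) (pull (XTmap f _) z.c)
    rw [pull_pull, pull_pull, S12404.XTmap_comp, S12404.XTmap_comp]
    refine congrArg (fun m => pull (XTmap f m) z.c) (Over.OverMorphism.ext ?_)
    exact Category.id_comp _

instance small_fam (T : Scheme.{u}) : Small.{u} (Fam f σ hσ T) :=
  small_of_injective (f := fun z : Fam f σ hσ T => (⟨z.g, z.c⟩ : Σ g : T ⟶ S, PicLoc.PicSet (XT f (Over.mk g))))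
    fun a b h => by
      obtain ⟨g, c, hc⟩ := a
      obtain ⟨g', c', hc'⟩ := b
      simp only [Sigma.mk.injEq] at h
      obtain ⟨rfl, h⟩ := h
      obtain rfl := eq_of_heq h
      rfl

variable (f σ hσ)

/-- The rigidified Picard functor. -/
def functor : Scheme.{u}ᵒᵖ ⥤ Type u where
  obj T := Shrink.{u} (Fam f σ hσ T.unop)
  map h := TypeCat.ofHom fun z => equivShrink _ (((equivShrink _).symm z).restr h.unop)
  map_id T := by
    apply ConcreteCategory.hom_ext
    intro z
    simp [Fam.restr_id]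
  map_comp h h' := by
    apply ConcreteCategory.hom_ext
    intro z
    simp [Fam.restr_restr]

theorem functor_map {T T' : Scheme.{u}ᵒᵖ} (h : T ⟶ T') (z : Fam f σ hσ T.unop) :
    (functor f σ hσ).map h (equivShrink _ z) = equivShrink _ (z.restr h.unop) := by
  show equivShrink _ (((equivShrink _).symm (equivShrink _ z)).restr h.unop) = _
  rw [Equiv.symm_apply_apply]

variable (ha : ∀ (T : Over S) (U : T.left.Opens), IsIso ((PicF.XTproj f T).app U))

include hσ ha in
/-- Rigidified classes are determined on a jointly surjective family of open immersions. -/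
theorem eq_of_cover (T : Over S) {κ : Type u} {U : κ → Scheme.{u}} (v : ∀ i, U i ⟶ T.left)
    [∀ i, IsOpenImmersion (v i)] (hcov : ∀ t : T.left, ∃ i, t ∈ Set.range (v i)) {c c' : PicLoc.PicSet (XT f T)}
    (hc : pull (secT f σ hσ T) c = 1) (hc' : pull (secT f σ hσ T) c' = 1)
    (h : ∀ i, pull (XTmap f (AbDual.ovrHom T (v i))) c = pull (XTmap f (AbDual.ovrHom T (v i))) c') :
    c = c' := by
  have hR : Presieve.ofArrows U v ∈ Scheme.fppfPrecoverage T.left :=
    (Scheme.ofArrows_mem_precoverage_iff _).2 ⟨hcov, fun i => ⟨inferInstance, inferInstance⟩⟩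
  obtain ⟨_, _, _⟩ := S12404.sigma_props hR
  refine mul_inv_eq_one.1 (S12403.eq_one_of_pull_eq_one f σ hσ ha T (Sigma.desc v) _ ?_
    (by rw [map_mul, map_inv, hc, hc', inv_one, mul_one]))
  refine S12404.eq_one_of_summands f T v _ fun i => ?_
  rw [pull_pull, S12404.XTmap_comp, S12404.summand_comp, map_mul, map_inv, mul_inv_eq_one]
  exact h i

include hσ ha in
/-- Rigidified classes glue along open covers. -/
theorem exists_glue (T : Over S) {κ : Type u} {U : κ → Scheme.{u}} (v : ∀ i, U i ⟶ T.left)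
    [∀ i, IsOpenImmersion (v i)] (hcov : ∀ t : T.left, ∃ i, t ∈ Set.range (v i))
    (d : ∀ i, PicLoc.PicSet (XT f (AbDual.ovr T (v i)))) (hd : ∀ i, pull (secT f σ hσ _) (d i) = 1)
    (hcomp : ∀ (i k : κ) (W : Over S) (a : W ⟶ AbDual.ovr T (v i)) (b : W ⟶ AbDual.ovr T (v k)),
      a.left ≫ v i = b.left ≫ v k → pull (XTmap f a) (d i) = pull (XTmap f b) (d k)) :
    ∃ c : PicLoc.PicSet (XT f T), pull (secT f σ hσ T) c = 1 ∧
      ∀ i, pull (XTmap f (AbDual.ovrHom T (v i))) c = d i := by
  have hR : Presieve.ofArrows U v ∈ Scheme.fppfPrecoverage T.left :=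
    (Scheme.ofArrows_mem_precoverage_iff _).2 ⟨hcov, fun i => ⟨inferInstance, inferInstance⟩⟩
  obtain ⟨_, _, _⟩ := S12404.sigma_props hR
  let T' := AbDual.ovr T (Sigma.desc v)
  choose D hD hDd using fun i => PicGrp.exists_eq_cls (d i)
  obtain ⟨C, hC, hCi⟩ := Groth.Agent.LBDesc.exists_invertible_disjointUnion _ (S12404.disjoint_summand f T v)
    (S12404.cover_summand f T v) D hD
  let C' : PicLoc.PicSet (XT f T') := PicGrp.cls C hC
  have hC' : ∀ i, pull (XTmap f (S12404.summand T v i)) C' = d i := fun i => by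
    rw [hDd i]
    exact Subtype.ext (Quot.sound (hCi i))
  haveI : ∀ i, IsOpenImmersion ((S12404.summand T v i).left) := fun i =>
    inferInstanceAs (IsOpenImmersion (Sigma.ι U i))
  have hcov' : ∀ t : T'.left, ∃ i, t ∈ Set.range ((S12404.summand T v i).left) := fun t =>
    (sigmaOpenCover U).exists_eq t
  have hCs : pull (secT f σ hσ T') C' = 1 := by
    obtain ⟨N, hN, hN'⟩ := PicGrp.exists_eq_cls (pull (secT f σ hσ T') C')
    rw [hN']
    refine Subtype.ext (Quot.sound (Groth.Agent.LBDesc.trivial_of_disjointUnion (Sigma.ι U)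
      (fun a b hab => disjoint_opensRange_sigmaι U a b hab) (fun y => (sigmaOpenCover U).exists_eq y) N fun i => ?_))
    refine Groth.Agent.PicFam.nonempty_iso_of_cl_eq (congrArg Subtype.val (?_ : pull (Sigma.ι U i) (PicGrp.cls N hN) = 1))
    rw [← hN']
    change pull ((S12404.summand T v i).left) (pull (secT f σ hσ T') C') = 1
    rw [pull_pull, ← hd i, ← hC' i, pull_pull, S12403.secT_nat f σ hσ (S12404.summand T v i)]
  let W := AbDual.ovr T' (pullback.fst (Sigma.desc v) (Sigma.desc v))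
  let a := AbDual.ovrHom T' (pullback.fst (Sigma.desc v) (Sigma.desc v))
  let b : W ⟶ T' := Over.homMk (pullback.snd _ _) (pullback.condition_assoc T.hom).symm
  have hab : a.left ≫ Sigma.desc v = b.left ≫ Sigma.desc v := pullback.condition
  have hglue : pull (XTmap f a) C' = pull (XTmap f b) C' := by
    let O : κ × κ → W.left.Opens := fun q =>
      a.left ⁻¹ᵁ ((S12404.summand T v q.1).left).opensRange ⊓ b.left ⁻¹ᵁ ((S12404.summand T v q.2).left).opensRange
    refine eq_of_cover f σ hσ ha W (fun q => (O q).ι) (fun t => ?_) (pull_secT a hCs) (pull_secT b hCs) fun q => ?_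
    · obtain ⟨i, hi⟩ := hcov' (a.left t)
      obtain ⟨k, hk⟩ := hcov' (b.left t)
      exact ⟨(i, k), ⟨⟨t, hi, hk⟩, rfl⟩⟩
    · let e := AbDual.ovrHom W (O q).ι
      have h1 : Set.range (e ≫ a).left ⊆ Set.range (S12404.summand T v q.1).left := by
        rintro _ ⟨⟨t, ht, -⟩, rfl⟩
        exact ht
      have h2 : Set.range (e ≫ b).left ⊆ Set.range (S12404.summand T v q.2).left := by
        rintro _ ⟨⟨t, -, ht⟩, rfl⟩
        exact ht
      let a' : AbDual.ovr W (O q).ι ⟶ AbDual.ovr T (v q.1) :=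
        Over.homMk (IsOpenImmersion.lift (S12404.summand T v q.1).left (e ≫ a).left h1) (by
          rw [← Over.w (S12404.summand T v q.1), IsOpenImmersion.lift_fac_assoc, Over.w (e ≫ a)])
      let b' : AbDual.ovr W (O q).ι ⟶ AbDual.ovr T (v q.2) :=
        Over.homMk (IsOpenImmersion.lift (S12404.summand T v q.2).left (e ≫ b).left h2) (by
          rw [← Over.w (S12404.summand T v q.2), IsOpenImmersion.lift_fac_assoc, Over.w (e ≫ b)])
      have ea : a' ≫ S12404.summand T v q.1 = e ≫ a := Over.OverMorphism.ext (IsOpenImmersion.lift_fac _ _ _)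
      have eb : b' ≫ S12404.summand T v q.2 = e ≫ b := Over.OverMorphism.ext (IsOpenImmersion.lift_fac _ _ _)
      rw [pull_pull, pull_pull, S12404.XTmap_comp, S12404.XTmap_comp, ← ea, ← eb, ← S12404.XTmap_comp,
        ← S12404.XTmap_comp, ← pull_pull, ← pull_pull, hC', hC']
      refine hcomp _ _ _ a' b' ?_
      have va : ∀ i, (S12404.summand T v i).left ≫ Sigma.desc v = v i := fun i => Sigma.ι_desc _ _
      have ea' := congrArg CommaMorphism.left ea
      have eb' := congrArg CommaMorphism.left eb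
      simp only [Over.comp_left] at ea' eb'
      calc a'.left ≫ v q.1 = a'.left ≫ (S12404.summand T v q.1).left ≫ Sigma.desc v :=
            congrArg (a'.left ≫ ·) (va q.1).symm
        _ = e.left ≫ a.left ≫ Sigma.desc v := by rw [← Category.assoc, ea', Category.assoc]
        _ = e.left ≫ b.left ≫ Sigma.desc v := congrArg (e.left ≫ ·) hab
        _ = b'.left ≫ (S12404.summand T v q.2).left ≫ Sigma.desc v := by
            rw [← Category.assoc b'.left, eb', Category.assoc]
        _ = b'.left ≫ v q.2 := congrArg (b'.left ≫ ·) (va q.2)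
  obtain ⟨c₀, hc₀, -⟩ := S12403.result f σ hσ ha T (Sigma.desc v)
    ⟨C'.1, C'.2, congrArg Subtype.val hCs⟩ (congrArg Subtype.val hglue)
  let c₁ : PicLoc.PicSet (XT f T) := ⟨c₀.1, c₀.2.1⟩
  refine ⟨c₁, Subtype.ext c₀.2.2, fun i => ?_⟩
  rw [← hC' i, ← show pull (XTmap f (AbDual.ovrHom T (Sigma.desc v))) c₁ = C' from Subtype.ext hc₀, pull_pull,
    S12404.XTmap_comp, S12404.summand_comp]

include hσ ha in
/-- The rigidified Picard functor is a Zariski sheaf. -/
theorem isSheaf : Presieve.IsSheaf Scheme.zariskiTopology (functor f σ hσ) := by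
  refine (Precoverage.isSheaf_toGrothendieck_iff_of_isStableUnderBaseChange_of_small.{u} _).mpr fun T E => ?_
  rw [PreZeroHypercover.presieve₀, Presieve.isSheafFor_arrows_iff]
  intro x hx
  obtain ⟨hcov, ho⟩ := (Scheme.ofArrows_mem_precoverage_iff _).mp E.mem₀
  haveI : ∀ i, IsOpenImmersion (E.f i) := ho
  let z : ∀ i, Fam f σ hσ (E.X i) := fun i => (equivShrink _).symm (x i)
  have hz : ∀ (i k) (W : Scheme.{u}) (a : W ⟶ E.X i) (b : W ⟶ E.X k), a ≫ E.f i = b ≫ E.f k →
      (z i).restr a = (z k).restr b := fun i k W a b hab => (equivShrink _).injective (hx i k W a b hab)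
  let 𝒰 : T.OpenCover := Scheme.Cover.mkOfCovers E.I₀ E.X E.f (fun t => hcov t)
  have hg : ∀ i k, pullback.fst (E.f i) (E.f k) ≫ (z i).g = pullback.snd _ _ ≫ (z k).g := fun i k =>
    congrArg Fam.g (hz i k _ _ _ pullback.condition)
  let g : T ⟶ S := 𝒰.glueMorphisms (fun i => (z i).g) hg
  have hjg : ∀ i, E.f i ≫ g = (z i).g := fun i => 𝒰.ι_glueMorphisms _ hg i
  let B := Over.mk g
  let m : ∀ i, AbDual.ovr B (E.f i) ⟶ Over.mk (z i).g := fun i => Over.homMk (𝟙 _) (by
    show 𝟙 _ ≫ (z i).g = E.f i ≫ g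
    rw [Category.id_comp, hjg])
  let d : ∀ i, PicLoc.PicSet (XT f (AbDual.ovr B (E.f i))) := fun i => pull (XTmap f (m i)) (z i).c
  obtain ⟨c, hc, hci⟩ := exists_glue f σ hσ ha B E.f (fun t => hcov t) d (fun i => pull_secT _ (z i).hc)
    (fun i k W a b hab => by
      have e := hz i k W.left a.left b.left hab
      have key : ∀ (j : E.I₀) (a : W ⟶ AbDual.ovr B (E.f j)),
          (⟨W.hom, pull (XTmap f a) (d j), pull_secT _ (pull_secT _ (z j).hc)⟩ : Fam f σ hσ W.left) =
            (z j).restr a.left := by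
        intro j a
        have hw : a.left ≫ (z j).g = W.hom := by rw [← hjg]; exact Over.w a
        refine Fam.ext_of (Over.homMk (𝟙 W.left) ((Category.id_comp (a.left ≫ (z j).g)).trans hw)) rfl ?_
        show pull (XTmap f _) (pull (XTmap f _) (z j).c) = pull (XTmap f a) (pull (XTmap f (m j)) (z j).c)
        refine (pull_pull _ _ _).trans (Eq.trans ?_ (pull_pull _ _ _).symm)
        refine congrArg (fun q => pull q (z j).c) ((S12404.XTmap_comp f _ _).trans (Eq.trans ?_
          (S12404.XTmap_comp f _ _).symm))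
        refine congrArg (XTmap f) (Over.OverMorphism.ext ?_)
        show 𝟙 _ ≫ a.left = a.left ≫ 𝟙 _
        rw [Category.id_comp, Category.comp_id]
      have e' := ((key i a).trans e).trans (key k b).symm
      simpa using e')
  have hfin : ∀ i, (⟨g, c, hc⟩ : Fam f σ hσ T).restr (E.f i) = z i := fun i => by
    refine Fam.ext_of (m i) rfl ?_
    exact (hci i).symm
  refine ⟨equivShrink _ (⟨g, c, hc⟩ : Fam f σ hσ T), fun i => ?_, fun y hy => ?_⟩
  · show (functor f σ hσ).map (E.f i).op (equivShrink _ (⟨g, c, hc⟩ : Fam f σ hσ T)) = x i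
    rw [functor_map]
    exact (congrArg (equivShrink _) (hfin i)).trans (Equiv.apply_symm_apply _ _)
  · obtain ⟨⟨g', c', hc'⟩, rfl⟩ := (equivShrink _).surjective y
    refine congrArg (equivShrink _) ?_
    have h' : ∀ i, (⟨g', c', hc'⟩ : Fam f σ hσ T).restr (E.f i) = z i := fun i => by
      have h := hy i
      change (functor f σ hσ).map (E.f i).op (equivShrink _ (⟨g', c', hc'⟩ : Fam f σ hσ T)) = x i at h
      rw [functor_map] at h
      exact (equivShrink _).injective (h.trans (Equiv.apply_symm_apply _ (x i)).symm)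
    obtain rfl : g' = g := Scheme.Cover.hom_ext 𝒰 _ _ fun i => (congrArg Fam.g (h' i)).trans (hjg i).symm
    have hcc : c' = c := eq_of_cover f σ hσ ha B E.f (fun t => hcov t) hc' hc fun i => by
      have e := (h' i).trans (hfin i).symm
      simp only [Fam.restr, Fam.mk.injEq, heq_eq_eq, true_and] at e
      exact e
    subst hcc
    rfl

end Groth.Agent.PicCurve
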