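import Groth.Agent.PicCurve.Div
import Groth.Agent.PicCurve.Rig
import Groth.Agent.HilbOne.Separated
import Groth.Agent.AbelMap.Sect

/-!
Divisors of degree the genus classify the rigidified classes with one section and no `H¹` on the fibres.
-/

set_option autoImplicit false
set_option backward.isDefEq.respectTransparency false
set_option backward.isDefEq.respectTransparency.types false
set_option linter.style.haveILetI false
set_option maxHeartbeats 2000000

universe u

open CategoryTheory CategoryTheory.Limits AlgebraicGeometry TopologicalSpace Opposite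
open PicF
open Groth.Agent.W7Cube (pull pull_pull pull_cls)

attribute [local instance] Groth.Agent.W7Cube.law

noncomputable section

namespace Groth.Agent.PicCurve

/-- The class of an effective Cartier divisor. -/
def divCl {Y : Scheme.{u}} (I : Y.IdealSheafData) (hI : BlowUp.IsEffCartierIdeal I) : PicLoc.PicSet Y :=
  (PicGrp.cls (ClSub.idealMod I) ((Groth.Agent.S8914.result I).mpr hI))⁻¹

theorem divCl_congr {Y : Scheme.{u}} {I J : Y.IdealSheafData} (h : I = J) (hI : BlowUp.IsEffCartierIdeal I)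
    (hJ : BlowUp.IsEffCartierIdeal J) : divCl I hI = divCl J hJ := by
  subst h; rfl

theorem pull_divCl {Y Y' : Scheme.{u}} (m : Y' ⟶ Y) {I : Y.IdealSheafData} (hI : BlowUp.IsEffCartierIdeal I)
    (hJ : BlowUp.IsEffCartierIdeal (I.comap m)) : pull m (divCl I hI) = divCl (I.comap m) hJ := by
  rw [divCl, divCl, map_inv, pull_cls]
  obtain ⟨e⟩ := Nakai.nonempty_pullback_idealMod m hI hJ
  exact congrArg _ ((PicGrp.cls_eq_cls_iff _ _).2 ⟨e⟩)

theorem cls_eq_divCl {Y : Scheme.{u}} {L : Y.Modules} (hL : PicF.IsInvertible L) {I : Y.IdealSheafData}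
    (hI : BlowUp.IsEffCartierIdeal I) (h : ClSub.IsInverseOf L (ClSub.idealMod I)) :
    PicGrp.cls L hL = divCl I hI := by
  rw [divCl]
  refine eq_inv_of_mul_eq_one_left ?_
  obtain ⟨e⟩ := h
  exact Subtype.ext (Quot.sound ⟨e⟩)

theorem isInverseOf_of_cls_eq {Y : Scheme.{u}} {L : Y.Modules} (hL : PicF.IsInvertible L) {I : Y.IdealSheafData}
    (hI : BlowUp.IsEffCartierIdeal I) (h : PicGrp.cls L hL = divCl I hI) :
    ClSub.IsInverseOf L (ClSub.idealMod I) := by
  have h' : PicGrp.cls L hL * PicGrp.cls (ClSub.idealMod I) ((Groth.Agent.S8914.result I).mpr hI) = 1 := by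
    rw [h, divCl, inv_mul_cancel]
  exact PicFam.nonempty_iso_of_cl_eq (congrArg Subtype.val h')

/-- On an integral scheme a section with effective zero scheme generates somewhere. -/
theorem genLocus_nonempty_of_effCartier {X : Scheme.{u}} [IsIntegral X] {E : X.Modules}
    (hE : PicF.IsInvertible E) (s : Coh.structureModule X ⟶ E)
    (hs : BlowUp.IsEffCartierIdeal (PicF2.zeroScheme E s)) : (CohB1.genLocus E s : Set X).Nonempty := by
  obtain ⟨x⟩ : Nonempty X := inferInstance
  obtain ⟨U₁, g, hx₁, hg⟩ := TMul.exists_isGen hE x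
  obtain ⟨U, hU, hxU, hUle⟩ := exists_isAffineOpen_mem_and_subset (x := x) (U := U₁) hx₁
  replace hUle : U ≤ U₁ := hUle
  obtain ⟨c, hc⟩ := ((hg.res hUle) U le_rfl).2 (TMul.val s U)
  simp only [Groth.Agent.QC.res_self] at hc
  haveI : IsDomain Γ(X, U) := @IsIntegral.component_integral _ _ U ⟨⟨x, hxU⟩⟩
  have hc0 : c ≠ 0 := nonZeroDivisors.ne_zero (mem_nonZeroDivisors_of_span hs ⟨U, hU⟩ c
    (ZeroSch.ideal_zeroScheme_eq_span s hE ⟨U, hU⟩ (hg.res hUle) hc.symm))
  have hne : X.basicOpen c ≠ ⊥ := fun h => hc0 ((basicOpen_eq_bot_iff c).1 h)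
  obtain ⟨z, hz⟩ : (X.basicOpen c : Set X).Nonempty :=
    Set.nonempty_iff_ne_empty.2 fun h => hne (Opens.ext h)
  exact ⟨z, (TMul.mem_genLocus_iff_isUnit s (hg.res hUle) hc.symm (X.basicOpen_le c hz)).2
    ((X.mem_basicOpen c z (X.basicOpen_le c hz)).1 hz)⟩

variable {X S : Scheme.{u}} (f : X ⟶ S) [IsProper f] [SmoothOfRelativeDimension 1 f] [GeometricallyConnected f]
  (σ : S ⟶ X) (hσ : σ ≫ f = 𝟙 S)
  (ha : ∀ (T : Over S) (U : T.left.Opens), IsIso ((PicF.XTproj f T).app U))
  (g : ℕ) (hdim : ∀ z : S, topologicalKrullDim ↥(f.fiber z) = 1)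
  (hO : ∀ z : S, PerfAux.betti f (Coh.structureModule X) z 0 = 1 ∧ PerfAux.betti f (Coh.structureModule X) z 1 = g)

instance isProper_proj (T : Over S) : IsProper (XTproj f T) := MorphismProperty.pullback_snd _ _ ‹IsProper f›

instance smooth_proj (T : Over S) : SmoothOfRelativeDimension 1 (XTproj f T) :=
  haveI := smoothOfRelativeDimension_isStableUnderBaseChange (n := 1)
  MorphismProperty.pullback_snd (P := @SmoothOfRelativeDimension 1) _ _ ‹_›

instance geomConn_proj (T : Over S) : GeometricallyConnected (XTproj f T) :=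
  MorphismProperty.pullback_snd _ _ ‹GeometricallyConnected f›

omit [GeometricallyConnected f] [SmoothOfRelativeDimension 1 f] in
include hdim in
theorem dim_proj (T : Over S) (t : T.left) : topologicalKrullDim ↥((XTproj f T).fiber t) = 1 :=
  (DimField.dim_fiber_eq_of_isPullback (IsPullback.of_hasPullback f T.hom) t).trans (hdim _)

omit [GeometricallyConnected f] [SmoothOfRelativeDimension 1 f] in
include hO in
theorem betti_proj (T : Over S) (t : T.left) :
    PerfAux.betti (XTproj f T) (Coh.structureModule _) t 0 = 1 ∧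
      PerfAux.betti (XTproj f T) (Coh.structureModule _) t 1 = g := by
  have key : ∀ i, PerfAux.betti (XTproj f T) (Coh.structureModule _) t i =
      PerfAux.betti f (Coh.structureModule X) (T.hom t) i := fun i =>
    (PicSmooth.betti_iso (XTproj f T) (PicLoc.pullbackStructureIso (pullback.fst f T.hom)).symm t i).trans
      (PicSmooth.betti_of_isPullback (IsPullback.of_hasPullback f T.hom) _ (QC.isQCoh_unit X) t i)
  rw [key, key]
  exact hO _

/-- A class with one section and no `H¹` on the fibre over `t`. -/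
def GoodC (T : Over S) (c : PicLoc.PicSet (XT f T)) (t : T.left) : Prop :=
  ∃ (L : (XT f T).Modules) (hL : PicF.IsInvertible L), c = PicGrp.cls L hL ∧ Good (XTproj f T) L t

omit [GeometricallyConnected f] [IsProper f] [SmoothOfRelativeDimension 1 f] in
theorem goodC_cls (T : Over S) {L : (XT f T).Modules} (hL : PicF.IsInvertible L) (t : T.left) :
    GoodC f T (PicGrp.cls L hL) t ↔ Good (XTproj f T) L t := by
  refine ⟨fun ⟨M, hM, h, hg⟩ => ?_, fun h => ⟨L, hL, rfl, h⟩⟩
  obtain ⟨e⟩ := (PicGrp.cls_eq_cls_iff hL hM).1 h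
  exact (good_iso _ e t).2 hg

omit [GeometricallyConnected f] in
theorem goodC_pull {T T' : Over S} (m : T' ⟶ T) (c : PicLoc.PicSet (XT f T)) (t : T'.left) :
    GoodC f T' (pull (XTmap f m) c) t ↔ GoodC f T c (m.left t) := by
  obtain ⟨L, hL, rfl⟩ := PicGrp.exists_eq_cls c
  haveI : Smooth (XTproj f T) := SmoothOfRelativeDimension.smooth 1 _
  rw [pull_cls, goodC_cls, goodC_cls, good_pull (XTproj f T) (PicFam.isPullback_XTmap f m) hL t]

omit [GeometricallyConnected f] in
theorem isOpen_goodC (T : Over S) (c : PicLoc.PicSet (XT f T)) : IsOpen {t : T.left | GoodC f T c t} := by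
  obtain ⟨L, hL, rfl⟩ := PicGrp.exists_eq_cls c
  haveI : Smooth (XTproj f T) := SmoothOfRelativeDimension.smooth 1 _
  simp only [goodC_cls]
  exact isOpen_good (XTproj f T) L hL

omit [GeometricallyConnected f] in
theorem goodC_mul_base (T : Over S) (c : PicLoc.PicSet (XT f T)) (n : PicLoc.PicSet T.left) (t : T.left) :
    GoodC f T (c * pull (XTproj f T) n) t ↔ GoodC f T c t := by
  obtain ⟨N, hN, rfl⟩ := PicGrp.exists_eq_cls n
  obtain ⟨V, htV, ⟨i⟩⟩ := id hN t
  let m := AbDual.ovrHom T V.ι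
  have h1 : pull V.ι (PicGrp.cls N hN) = 1 := Subtype.ext (Quot.sound
    ⟨((Scheme.Modules.restrictFunctorIsoPullback V.ι).app N).symm ≪≫ i⟩)
  have h2 : pull (XTmap f m) (c * pull (XTproj f T) (PicGrp.cls N hN)) = pull (XTmap f m) c := by
    rw [map_mul, pull_pull, XTmap_proj, ← pull_pull]
    exact (congrArg (fun q => _ * pull _ q) h1).trans (by rw [map_one, mul_one])
  rw [← show m.left ⟨t, htV⟩ = t from rfl, ← goodC_pull f m, ← goodC_pull f m, h2]

omit [GeometricallyConnected f] in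
theorem goodC_rigify (T : Over S) (c : PicLoc.PicSet (XT f T)) (t : T.left) :
    GoodC f T (rigify f σ hσ T c) t ↔ GoodC f T c t :=
  goodC_mul_base f T c _ t

omit [IsProper f] [GeometricallyConnected f] in
/-- Families of points are effective Cartier divisors. -/
theorem effCartier_obj {d : ℕ} (T : Over S) (D : HilbD.Obj f d T) : BlowUp.IsEffCartierIdeal D.1 :=
  ((Groth.Agent.S1184.result (XTproj f T) D.1).2 D.2.1).1

variable (H : Over S) (Z : HilbD.Obj f g H) (hH : HilbD.IsUniversal f g H Z)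

/-- The class of the universal divisor. -/
def cH : PicLoc.PicSet (XT f H) := divCl Z.1 (effCartier_obj f H Z)

omit [GeometricallyConnected f] [IsProper f] in
theorem pull_cH {T : Over S} (x : T ⟶ H) :
    pull (XTmap f x) (cH f g H Z) =
      divCl (HilbD.pull f x Z.1) (effCartier_obj f T ⟨_, HilbOne.mem_pull f g _ _ Z.2⟩) := by
  have h := effCartier_obj f T ⟨_, HilbOne.mem_pull f g x _ Z.2⟩
  rw [cH, pull_divCl _ _ (by rw [← HilbOne.pull_eq_comap]; exact h)]
  exact divCl_congr (HilbOne.pull_eq_comap f x Z.1).symm _ _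

include hdim in
/-- The canonical section of a family of points vanishes on no fibre. -/
theorem exists_point_genLocus {d : ℕ} (T : Over S) (D : HilbD.Obj f d T) {L : (XT f T).Modules}
    (hL : PicF.IsInvertible L) (s : Coh.structureModule _ ⟶ L) (hs : PicF2.zeroScheme L s = D.1) (t : T.left) :
    ∃ y, XTproj f T y = t ∧ y ∈ CohB1.genLocus L s := by
  let p := XTproj f T
  haveI := isIntegral_fiber p (dim_proj f hdim T) t
  haveI : SmoothOfRelativeDimension 1 (p.fiberToSpecResidueField t) :=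
    haveI := smoothOfRelativeDimension_isStableUnderBaseChange (n := 1)
    MorphismProperty.pullback_snd (P := @SmoothOfRelativeDimension 1) _ _ inferInstance
  have sq := HilbSum.isPullback_comap p D.1 (T.left.fromSpecResidueField t)
  obtain ⟨hfin, hflat, hlfp⟩ := D.2.1
  have hfl : Mor2.IsFinLocFree ((D.1.comap (p.fiberι t)).subschemeι ≫ p.fiberToSpecResidueField t) :=
    ⟨MorphismProperty.of_isPullback (P := @IsFinite) sq hfin, MorphismProperty.of_isPullback (P := @Flat) sq hflat,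
      MorphismProperty.of_isPullback (P := @LocallyOfFinitePresentation) sq hlfp⟩
  have hJ := ((Groth.Agent.S1184.result (p.fiberToSpecResidueField t) _).2 hfl).1
  obtain ⟨y, hy⟩ := genLocus_nonempty_of_effCartier (PicLoc.isInvertible_pullback (p.fiberι t) hL)
    (AbelMap.pullSec (p.fiberι t) s) (by rw [AbelMap.zeroScheme_pullSec _ hL, hs]; exact hJ)
  refine ⟨p.fiberι t y, ?_, ?_⟩
  · have h : p.fiberι t y ∈ Set.range (p.fiberι t) := ⟨y, rfl⟩
    rwa [Scheme.Hom.range_fiberι] at h
  · have h := TMul.genLocus_pullback (p.fiberι t) hL s (PicLoc.pullbackStructureIso (p.fiberι t)).symm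
    change y ∈ CohB1.genLocus _
      ((PicLoc.pullbackStructureIso (p.fiberι t)).symm.hom ≫ (Scheme.Modules.pullback (p.fiberι t)).map s) at hy
    rw [h] at hy
    exact hy

include hdim in
/-- Two families of points with the same class, good on every fibre, are equal over an affine base. -/
theorem obj_eq {d : ℕ} (T : Over S) [IsAffine T.left] (D D' : HilbD.Obj f d T)
    (h : divCl D.1 (effCartier_obj f T D) = divCl D'.1 (effCartier_obj f T D'))
    (hgood : ∀ t, GoodC f T (divCl D.1 (effCartier_obj f T D)) t) : D.1 = D'.1 := by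
  obtain ⟨L, hL, hLc⟩ := PicGrp.exists_eq_cls (divCl D.1 (effCartier_obj f T D))
  obtain ⟨s, hs⟩ := AbelMap.exists_section (effCartier_obj f T D) hL (isInverseOf_of_cls_eq hL _ hLc.symm)
  obtain ⟨s', hs'⟩ := AbelMap.exists_section (effCartier_obj f T D') hL
    (isInverseOf_of_cls_eq hL _ (hLc.symm.trans h))
  haveI : Smooth (XTproj f T) := SmoothOfRelativeDimension.smooth 1 _
  have hr : ∀ t, CohIII.fiberRank (XTproj f T) L 0 t ≤ 1 := fun t => by
    rw [PicFam.fiberRank_eq_betti]
    have := hgood t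
    rw [hLc, goodC_cls] at this
    exact this.1.le
  obtain ⟨a, haa⟩ := AbelMap.exists_smul_of_fibres (XTproj f T) hL s
    (exists_point_genLocus f hdim T D hL s hs) hr s'
  obtain ⟨b, hbb⟩ := AbelMap.exists_smul_of_fibres (XTproj f T) hL s'
    (exists_point_genLocus f hdim T D' hL s' hs') hr s
  rw [← hs, ← hs']
  exact le_antisymm (AbelMap.zeroScheme_le_of_smul hL s' s b hbb) (AbelMap.zeroScheme_le_of_smul hL s s' a haa)

include hdim hH in
/-- A good class comes from at most one point of the Hilbert scheme. -/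
theorem hom_eq {T : Over S} (x y : T ⟶ H)
    (h : rigify f σ hσ T (pull (XTmap f x) (cH f g H Z)) = rigify f σ hσ T (pull (XTmap f y) (cH f g H Z)))
    (hgood : ∀ t, GoodC f T (pull (XTmap f x) (cH f g H Z)) t) : x = y := by
  obtain ⟨n, hn⟩ := eq_mul_base_of_rigify_eq f σ hσ h
  obtain ⟨N, hN, rfl⟩ := PicGrp.exists_eq_cls n
  have hN' := id hN
  choose V htV hV using hN'
  choose W hW htW hWV using fun t => exists_isAffineOpen_mem_and_subset (x := t) (U := V t) (htV t)
  refine Over.OverMorphism.ext (Scheme.Cover.hom_ext (T.left.openCoverOfIsOpenCover W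
    (eq_top_iff.2 fun t _ => Opens.mem_iSup.2 ⟨t, htW t⟩)) _ _ fun t => ?_)
  let T' := AbDual.ovr T (W t).ι
  haveI : IsAffine T'.left := hW t
  let m := AbDual.ovrHom T (W t).ι
  have h1 : pull (W t).ι (PicGrp.cls N hN) = 1 := by
    have hle : W t ≤ V t := hWV t
    rw [← T.left.homOfLE_ι hle, ← pull_pull,
      show pull (V t).ι (PicGrp.cls N hN) = 1 from Subtype.ext (Quot.sound
        ⟨((Scheme.Modules.restrictFunctorIsoPullback (V t).ι).app N).symm ≪≫ (hV t).some⟩), map_one]
  have h2 : pull (XTmap f (m ≫ x)) (cH f g H Z) = pull (XTmap f (m ≫ y)) (cH f g H Z) := by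
    rw [← S12404.XTmap_comp, ← S12404.XTmap_comp, ← pull_pull, hn, map_mul, pull_pull (XTmap f m) (XTproj f T),
      XTmap_proj, ← pull_pull (XTproj f _) m.left]
    refine (congrArg (fun q => _ * pull _ q) h1).trans ?_
    rw [map_one, mul_one, pull_pull]
  have hg' : ∀ t', GoodC f T' (pull (XTmap f (m ≫ x)) (cH f g H Z)) t' := fun t' => by
    rw [← S12404.XTmap_comp, ← pull_pull]
    exact (goodC_pull f m _ t').2 (hgood _)
  rw [pull_cH, pull_cH] at h2
  simp only [pull_cH] at hg'
  have hD := obj_eq f hdim T' ⟨_, HilbOne.mem_pull f g (m ≫ x) _ Z.2⟩ ⟨_, HilbOne.mem_pull f g (m ≫ y) _ Z.2⟩ h2 hg'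
  exact congrArg CommaMorphism.left ((hH T' ⟨_, HilbOne.mem_pull f g (m ≫ y) _ Z.2⟩).unique hD rfl)

include hdim hO hH in
/-- A good class comes locally from a point of the Hilbert scheme. -/
theorem exists_hom_near (T : Over S) (c : PicLoc.PicSet (XT f T)) (hc : pull (secT f σ hσ T) c = 1) (t : T.left)
    (ht : GoodC f T c t) : ∃ W : T.left.Opens, t ∈ W ∧ ∃ x : AbDual.ovr T W.ι ⟶ H,
      rigify f σ hσ _ (pull (XTmap f x) (cH f g H Z)) = pull (XTmap f (AbDual.ovrHom T W.ι)) c := by
  obtain ⟨L, hL, rfl, hgt⟩ := ht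
  haveI : Smooth (XTproj f T) := SmoothOfRelativeDimension.smooth 1 _
  let G : T.left.Opens := ⟨{z | Good (XTproj f T) L z}, isOpen_good (XTproj f T) L hL⟩
  obtain ⟨W₀, htW₀, hW₀, s₀, hs₀⟩ := exists_nhd_section (XTproj f T) L hL t hgt
  let W := W₀ ⊓ G
  refine ⟨W, ⟨htW₀, hgt⟩, ?_⟩
  let T' := AbDual.ovr T W.ι
  let m := AbDual.ovrHom T W.ι
  let p := XTproj f T'
  haveI : Smooth p := SmoothOfRelativeDimension.smooth 1 _
  let E := (Scheme.Modules.pullback (XTmap f m)).obj L
  have hE : PicF.IsInvertible E := PicLoc.isInvertible_pullback _ hL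
  have hWle : ∀ y : ↥(XT f T'), XTmap f m y ∈ (XTproj f T) ⁻¹ᵁ W₀ := fun y => by
    change XTproj f T (XTmap f m y) ∈ W₀
    rw [← Scheme.Hom.comp_apply, XTmap_proj, Scheme.Hom.comp_apply]
    exact (p y).2.1
  let j : XT f T' ⟶ ((XTproj f T) ⁻¹ᵁ W₀).toScheme :=
    IsOpenImmersion.lift ((XTproj f T) ⁻¹ᵁ W₀).ι (XTmap f m) (by
      rintro _ ⟨y, rfl⟩
      exact ⟨⟨_, hWle y⟩, rfl⟩)
  have hj : j ≫ ((XTproj f T) ⁻¹ᵁ W₀).ι = XTmap f m := IsOpenImmersion.lift_fac _ _ _
  let i : (Scheme.Modules.pullback j).obj ((Scheme.Modules.pullback ((XTproj f T) ⁻¹ᵁ W₀).ι).obj L) ≅ E :=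
    (Scheme.Modules.pullbackComp j ((XTproj f T) ⁻¹ᵁ W₀).ι).app L ≪≫ (Scheme.Modules.pullbackCongr hj).app L
  let s : Coh.structureModule _ ⟶ E := AbelMap.pullSec j s₀ ≫ i.hom
  have hne : ∀ z : T'.left, ∃ y, p y = z ∧ y ∈ CohB1.genLocus E s := fun z => by
    obtain ⟨y₀, hy₀, hys⟩ := hs₀ ⟨z.1, z.2.1⟩
    have hy' : XTproj f T y₀.1 = z.1 :=
      (morphismRestrict_base_coe (XTproj f T) W₀ y₀).symm.trans (congrArg Subtype.val hy₀)
    obtain ⟨y, hy1, hy2⟩ := Scheme.exists_preimage_of_isPullback (PicFam.isPullback_XTmap f m) y₀.1 z hy'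
    refine ⟨y, hy2, ?_⟩
    rw [show CohB1.genLocus E s = CohB1.genLocus _ (AbelMap.pullSec j s₀) from TMul.genLocus_comp _ i.hom]
    have h := TMul.genLocus_pullback j (PicLoc.isInvertible_pullback _ hL) s₀ (PicLoc.pullbackStructureIso j).symm
    change y ∈ CohB1.genLocus _ ((PicLoc.pullbackStructureIso j).symm.hom ≫ (Scheme.Modules.pullback j).map s₀)
    rw [h]
    change j y ∈ CohB1.genLocus _ s₀
    rwa [show j y = y₀ from Subtype.ext ((Scheme.Hom.comp_apply j _ y).symm.trans ((congrArg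
      (fun q : XT f T' ⟶ XT f T => q y) hj).trans hy1))]
  have hgood : ∀ z : T'.left, Good p E z := fun z =>
    (good_pull (XTproj f T) (PicFam.isPullback_XTmap f m) hL z).2 z.2.2
  obtain ⟨hD, hinv⟩ := exists_relDiv p g (dim_proj f hdim T') (betti_proj f g hO T') hE s hne hgood
  let D : HilbD.Obj f g T' := ⟨PicF2.zeroScheme E s, hD⟩
  obtain ⟨x, hx, -⟩ := hH T' D
  refine ⟨x, ?_⟩
  rw [pull_cH, divCl_congr hx _ (effCartier_obj f T' D), ← cls_eq_divCl hE (effCartier_obj f T' D) hinv, pull_cls]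
  refine rigify_of_mem f σ hσ ?_
  rw [← pull_cls _ _ hL]
  exact pull_secT m hc

include hdim hO hH ha in
/-- Good classes are classified by the good locus of the Hilbert scheme. -/
theorem existsUnique_hom (T : Over S) (c : PicLoc.PicSet (XT f T)) (hc : pull (secT f σ hσ T) c = 1)
    (hgood : ∀ t, GoodC f T c t) : ∃! x : T ⟶ H, rigify f σ hσ T (pull (XTmap f x) (cH f g H Z)) = c := by
  choose W htW x hx using fun t => exists_hom_near f σ hσ g hdim hO H Z hH T c hc t (hgood t)
  have hcomp : ∀ a b : T.left, pullback.fst (W a).ι (W b).ι ≫ (x a).left = pullback.snd _ _ ≫ (x b).left := by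
    intro a b
    let V := AbDual.ovr (AbDual.ovr T (W a).ι) (pullback.fst (W a).ι (W b).ι)
    let q₁ := AbDual.ovrHom (AbDual.ovr T (W a).ι) (pullback.fst (W a).ι (W b).ι)
    let q₂ : V ⟶ AbDual.ovr T (W b).ι :=
      Over.homMk (pullback.snd _ _) (pullback.condition_assoc T.hom).symm
    have e : q₁ ≫ AbDual.ovrHom T (W a).ι = q₂ ≫ AbDual.ovrHom T (W b).ι :=
      Over.OverMorphism.ext pullback.condition
    have e1 : ∀ (t : T.left) (q : V ⟶ AbDual.ovr T (W t).ι),
        rigify f σ hσ V (pull (XTmap f (q ≫ x t)) (cH f g H Z)) =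
          pull (XTmap f (q ≫ AbDual.ovrHom T (W t).ι)) c := by
      intro t q
      rw [← S12404.XTmap_comp, ← pull_pull, ← pull_rigify, hx, pull_pull, S12404.XTmap_comp]
    have key : q₁ ≫ x a = q₂ ≫ x b := hom_eq f σ hσ g hdim H Z hH _ _ (by rw [e1, e1, e]) fun v => by
      rw [← goodC_rigify f σ hσ, e1, goodC_pull]
      exact hgood _
    exact congrArg CommaMorphism.left key
  let 𝒰 := T.left.openCoverOfIsOpenCover W (eq_top_iff.2 fun t _ => Opens.mem_iSup.2 ⟨t, htW t⟩)
  let x₀ : T.left ⟶ H.left := 𝒰.glueMorphisms (fun t => (x t).left) hcomp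
  have hx₀ : ∀ t, (W t).ι ≫ x₀ = (x t).left := fun t => 𝒰.ι_glueMorphisms _ hcomp t
  have hw : x₀ ≫ H.hom = T.hom := Scheme.Cover.hom_ext 𝒰 _ _ fun t => by
    change (W t).ι ≫ x₀ ≫ H.hom = (W t).ι ≫ T.hom
    rw [← Category.assoc, hx₀]
    exact Over.w (x t)
  let X₀ : T ⟶ H := Over.homMk x₀ hw
  have hX : rigify f σ hσ T (pull (XTmap f X₀) (cH f g H Z)) = c := by
    refine eq_of_cover f σ hσ ha T (fun t => (W t).ι) (fun t => ⟨t, ⟨t, htW t⟩, rfl⟩) (rigify_mem f σ hσ T _) hc
      fun t => ?_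
    rw [pull_rigify, pull_pull, S12404.XTmap_comp,
      show AbDual.ovrHom T (W t).ι ≫ X₀ = x t from Over.OverMorphism.ext (hx₀ t), hx]
  refine ⟨X₀, hX, fun y hy => hom_eq f σ hσ g hdim H Z hH y X₀ (hy.trans hX.symm) fun t => ?_⟩
  rw [← goodC_rigify f σ hσ, hy]
  exact hgood t

end Groth.Agent.PicCurve
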