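import Groth.Agent.PicCurve.Chart
import Groth.Agent.CurveRR.Deg
import Groth.Agent.CurveRR.RatPoint
import Groth.Agent.CurveRR.SmoothPt
import Groth.Agent.CurveRR.BaseTwist
import Groth.Agent.NegTwist.Connected

/-!
On a curve of genus `g`, enough rational points move every class to one with one section and no `H¹`.
-/

set_option autoImplicit false
set_option backward.isDefEq.respectTransparency false
set_option backward.isDefEq.respectTransparency.types false
set_option linter.style.haveILetI false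
set_option linter.unusedSectionVars false
set_option maxHeartbeats 2000000

universe u

open CategoryTheory CategoryTheory.Limits AlgebraicGeometry TopologicalSpace Opposite
open TMul (homOf)
open Groth.Agent.W7Cube (pull pull_pull pull_cls)

attribute [local instance] Groth.Agent.W7Cube.law

noncomputable section

namespace Groth.Agent.PicCurve

variable (K : Type u) [Field K] {X : Scheme.{u}} [X.Over (Spec (CommRingCat.of K))]
  [IsProper (X ↘ Spec (CommRingCat.of K))] [IsIntegral X] (hdim : topologicalKrullDim X = 1)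

/-- The degree of a class. -/
def degP (c : PicLoc.PicSet X) : ℤ := Curv2.deg K X (PicGrp.exists_eq_cls c).choose 1

theorem degP_cls {L : X.Modules} (hL : PicF.IsInvertible L) : degP K (PicGrp.cls L hL) = Curv2.deg K X L 1 := by
  obtain ⟨hM, hc⟩ := (PicGrp.exists_eq_cls (PicGrp.cls L hL)).choose_spec
  obtain ⟨e⟩ := (PicGrp.cls_eq_cls_iff hL hM).1 hc
  show Curv2.deg K X _ 1 = _
  rw [Curv2.deg, Curv2.deg, CurveRR.euler_eq_of_iso e]

include hdim in
theorem degP_mul (a b : PicLoc.PicSet X) : degP K (a * b) = degP K a + degP K b := by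
  obtain ⟨L, hL, rfl⟩ := PicGrp.exists_eq_cls a
  obtain ⟨M, hM, rfl⟩ := PicGrp.exists_eq_cls b
  haveI := CurveRR.isNoetherian_of_proper K X
  rw [degP_cls, degP_cls, show PicGrp.cls L hL * PicGrp.cls M hM = PicGrp.cls _ (TMul.isInvertible_tensorMod hL hM)
    from rfl, degP_cls, CurveRR.deg_tensor_inv (k := K) hdim.le hL hM]

include hdim in
/-- The degree as a homomorphism. -/
def degHom : PicLoc.PicSet X →* Multiplicative ℤ :=
  MonoidHom.mk' (fun c => Multiplicative.ofAdd (degP K c)) fun a b => by rw [degP_mul K hdim]; rfl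

include hdim in
theorem degP_inv (a : PicLoc.PicSet X) : degP K a⁻¹ = - degP K a :=
  congrArg Multiplicative.toAdd (map_inv (degHom K hdim) a)

include hdim in
theorem degP_zpow (a : PicLoc.PicSet X) (n : ℤ) : degP K (a ^ n) = n * degP K a :=
  (congrArg Multiplicative.toAdd (map_zpow (degHom K hdim) a n)).trans (smul_eq_mul _ _)

variable {N : ℕ} (τ : Fin N → (Spec (CommRingCat.of K) ⟶ X)) (hτ : ∀ i, τ i ≫ (X ↘ Spec (CommRingCat.of K)) = 𝟙 _)
  (hI : ∀ i, BlowUp.IsEffCartierIdeal (τ i).ker)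

include hdim hτ in
theorem degP_point (i : Fin N) : degP K (divCl (τ i).ker (hI i)) = 1 := by
  haveI := CurveRR.isNoetherian_of_proper K X
  haveI : IsClosedImmersion (τ i ≫ (X ↘ Spec (CommRingCat.of K))) := by rw [hτ]; infer_instance
  haveI : IsClosedImmersion (τ i) := IsClosedImmersion.of_comp (τ i) (X ↘ Spec (CommRingCat.of K))
  let Q := τ i (IsLocalRing.closedPoint K)
  have hsQ : ∀ p, τ i p = Q := fun p => congrArg (τ i) (Subsingleton.elim p _)
  have hQ : IsClosed ({Q} : Set X) := (Set.range_eq_singleton_iff.2 hsQ) ▸ (τ i).isClosedEmbedding.isClosed_range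
  obtain ⟨M, hM, hMc⟩ := PicGrp.exists_eq_cls (divCl (τ i).ker (hI i))
  have h1 := CurveRR.deg_tensor_cartier (k := K) hdim.le (hI i) hM (isInverseOf_of_cls_eq hM (hI i) hMc.symm)
    (CurveRR.isFinLocFreeOfRank_one (TMul.isInvertible_structureModule (X := X)))
  rw [CurveRR.deg_structure, CurveRR.ker_section (X ↘ Spec (CommRingCat.of K)) _ (hτ i) hQ hsQ,
    CurveRR.h0_quotMod_ratPoint hQ (τ i) (hτ i) hsQ, Curv2.deg, CurveRR.euler_eq_of_iso (TMul.leftUnitIso M)] at h1
  rw [hMc, degP_cls, Curv2.deg]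
  push_cast at h1 ⊢
  omega

variable [SmoothOfRelativeDimension 1 (X ↘ Spec (CommRingCat.of K))]

include hdim hτ in
/-- A section does not vanish at more rational points than its degree. -/
theorem exists_mem_genLocus (hinj : Function.Injective τ) {M : X.Modules} (hM : PicF.IsInvertible M)
    (hN : Curv2.deg K X M 1 < N) (h0 : CurveRR.h K M 0 ≠ 0) :
    ∃ (i : Fin N) (t : Γ(M, ⊤)), τ i (IsLocalRing.closedPoint K) ∈ CohB1.genLocus M (homOf t) := by
  haveI := CurveRR.isNoetherian_of_proper K X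
  obtain ⟨t, ht⟩ : ∃ t : Γ(M, ⊤), t ≠ 0 := by
    by_contra! hh
    letI := CurveRR.secMod K M ⊤
    haveI : Subsingleton Γ(M, ⊤) := ⟨fun a b => (hh a).trans (hh b).symm⟩
    exact h0 (by rw [← CurveRR.finrank_sec]; exact Module.finrank_zero_of_subsingleton)
  by_contra! hall
  let J := PicF2.zeroScheme M (homOf t)
  have hJ : BlowUp.IsEffCartierIdeal J :=
    isEffCartier_of_genLocus hM _ ⟨_, CurveRR.generic_mem_genLocus hM ht⟩
  let q := J.subschemeι ≫ (X ↘ Spec (CommRingCat.of K))
  haveI : Subsingleton ↥(Spec (CommRingCat.of K)) := inferInstanceAs (Subsingleton (PrimeSpectrum K))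
  haveI hflat : Flat q := inferInstance
  haveI : LocallyQuasiFinite q := ((Groth.Agent.S1184.result _ J).1.1 ⟨hJ, hflat⟩).1
  haveI : IsFinite q := IsFinite.of_isProper_of_locallyQuasiFinite _
  haveI : IsAffine J.subscheme := isAffine_of_isAffineHom q
  letI := DualGeneric.Sub.algI K J
  haveI : Module.Finite K Γ(J.subscheme, ⊤) := DualGeneric.Sub.finite_algI K J
  have hle : ∀ i, J ≤ (τ i).ker := fun i => by
    haveI : IsClosedImmersion (τ i ≫ (X ↘ Spec (CommRingCat.of K))) := by rw [hτ]; infer_instance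
    haveI : IsClosedImmersion (τ i) := IsClosedImmersion.of_comp (τ i) (X ↘ Spec (CommRingCat.of K))
    rw [Nakai.ker_eq_vanishingIdeal, ← Scheme.IdealSheafData.le_support_iff_le_vanishingIdeal]
    intro x hx
    change x ∈ ((τ i).ker.support : Set X) at hx
    rw [Scheme.Hom.support_ker, (τ i).isClosedEmbedding.isClosed_range.closure_eq] at hx
    obtain ⟨p, rfl⟩ := hx
    show τ i p ∈ (J.support : Set X)
    rw [NegTwist.coe_support_zeroScheme hM, Subsingleton.elim p (IsLocalRing.closedPoint K)]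
    exact hall i t
  have hle' : ∀ i, J.subschemeι.ker ≤ (τ i).ker := fun i => by
    rw [Scheme.IdealSheafData.ker_subschemeι]; exact hle i
  let l : Fin N → (Spec (CommRingCat.of K) ⟶ J.subscheme) := fun i =>
    IsClosedImmersion.lift J.subschemeι (τ i) (hle' i)
  have hl : ∀ i, l i ≫ J.subschemeι = τ i := fun i => IsClosedImmersion.lift_fac _ _ _
  have hlq : ∀ i, l i ≫ q = 𝟙 _ := fun i => by rw [← Category.assoc, hl, hτ]
  let ψ : Fin N → (Γ(J.subscheme, ⊤) →ₐ[K] K) := fun i =>
    { toRingHom := ((l i).appTop ≫ (Scheme.ΓSpecIso (CommRingCat.of K)).hom).hom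
      commutes' := fun a => by
        show ((Scheme.ΓSpecIso (CommRingCat.of K)).inv ≫ q.appTop ≫ (l i).appTop ≫
          (Scheme.ΓSpecIso (CommRingCat.of K)).hom) a = a
        rw [← Category.assoc q.appTop, ← Scheme.Hom.comp_appTop, hlq, Scheme.Hom.id_appTop, Category.id_comp,
          Iso.inv_hom_id]
        rfl }
  have hψ : Function.Injective ψ := fun i j h => hinj (by
    rw [← hl i, ← hl j]
    congr 1
    refine ext_of_isAffine ?_
    rw [← cancel_mono (Scheme.ΓSpecIso (CommRingCat.of K)).hom]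
    exact CommRingCat.hom_ext (congrArg AlgHom.toRingHom h))
  have h1 : N ≤ Module.finrank K Γ(J.subscheme, ⊤) :=
    ((Nat.card_fin N).symm.le.trans (Nat.card_le_card_of_injective ψ hψ)).trans (card_algHom_le_finrank K _ K)
  have h2 : (Module.finrank K Γ(J.subscheme, ⊤) : ℤ) = Curv2.deg K X M 1 := by
    have h := CurveRR.deg_tensor_cartier (k := K) hdim.le hJ hM (isInverseOf_of_effCartier hM _ hJ)
      (CurveRR.isFinLocFreeOfRank_one (TMul.isInvertible_structureModule (X := X)))
    rw [CurveRR.deg_structure, DualGeneric.Sub.h0_quotMod_eq K J, Curv2.deg,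
      CurveRR.euler_eq_of_iso (TMul.leftUnitIso M)] at h
    rw [Curv2.deg]
    push_cast at h ⊢
    omega
  omega

include hdim hτ in
/-- One step down by one of the points. -/
theorem exists_step_points (hinj : Function.Injective τ) (c : PicLoc.PicSet X) {M : X.Modules} (hM : PicF.IsInvertible M)
    (hc : c = PicGrp.cls M hM) (hN : degP K c < N) (h1 : CurveRR.h K M 1 = 0) (h0 : CurveRR.h K M 0 ≠ 0) :
    ∃ (i : Fin N) (M' : X.Modules) (hM' : PicF.IsInvertible M'),
      c * (divCl (τ i).ker (hI i))⁻¹ = PicGrp.cls M' hM' ∧ CurveRR.h K M' 1 = 0 ∧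
      CurveRR.h K M' 0 + 1 = CurveRR.h K M 0 := by
  haveI := CurveRR.isNoetherian_of_proper K X
  rw [hc, degP_cls] at hN
  obtain ⟨i, t, ht⟩ := exists_mem_genLocus K hdim τ hτ hinj hM hN h0
  haveI : IsClosedImmersion (τ i ≫ (X ↘ Spec (CommRingCat.of K))) := by rw [hτ]; infer_instance
  haveI : IsClosedImmersion (τ i) := IsClosedImmersion.of_comp (τ i) (X ↘ Spec (CommRingCat.of K))
  let Q := τ i (IsLocalRing.closedPoint K)
  have hsQ : ∀ p, τ i p = Q := fun p => congrArg (τ i) (Subsingleton.elim p _)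
  have hQ : IsClosed ({Q} : Set X) := (Set.range_eq_singleton_iff.2 hsQ) ▸ (τ i).isClosedEmbedding.isClosed_range
  have hker := CurveRR.ker_section (X ↘ Spec (CommRingCat.of K)) _ (hτ i) hQ hsQ
  have hIi := (Groth.Agent.S8914.result _).2 (hI i)
  let e : CohB1.tensorMod M (ClSub.idealMod (τ i).ker) ≅
      CohB1.tensorMod (ClSub.idealMod (Scheme.IdealSheafData.vanishingIdeal ⟨{Q}, hQ⟩)) M :=
    TMul.commIso _ _ ≪≫ PicGrp.tensorModIso (eqToIso (congrArg ClSub.idealMod hker)) (Iso.refl M)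
  refine ⟨i, CohB1.tensorMod M (ClSub.idealMod (τ i).ker), TMul.isInvertible_tensorMod hM hIi, ?_, ?_⟩
  · rw [hc, divCl, inv_inv]
    rfl
  · have hh := (CurveRR.h0_ratPointIdeal (k := K) hQ (τ i) (hτ i) hsQ hM).2.2.mpr ⟨t, ht⟩
    have he := CurveRR.euler_ratPointIdeal (k := K) hQ (τ i) (hτ i) hsQ hM
    rw [CurveRR.euler_eq hdim.le, CurveRR.euler_eq hdim.le, h1] at he
    rw [CurveRR.h_eq_of_iso e 1, CurveRR.h_eq_of_iso e 0]
    simp only [Nat.cast_zero, sub_zero] at hh he ⊢
    omega

include hdim hτ in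
/-- **Enough points move every class to a good one.** -/
theorem exists_good_of_points (g : ℕ) (hO0 : CurveRR.h K (Coh.structureModule X) 0 = 1)
    (hO1 : CurveRR.h K (Coh.structureModule X) 1 = g) (hinj : Function.Injective τ) (hN : 2 * g + 2 ≤ N)
    (c : PicLoc.PicSet X) :
    ∃ e ∈ Subgroup.closure (Set.range fun i => divCl (τ i).ker (hI i)),
      ∃ (M : X.Modules) (hM : PicF.IsInvertible M), c * e = PicGrp.cls M hM ∧ CurveRR.h K M 0 = 1 ∧
        CurveRR.h K M 1 = 0 := by
  haveI := CurveRR.isNoetherian_of_proper K X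
  let G := Subgroup.closure (Set.range fun i => divCl (τ i).ker (hI i))
  let i₀ : Fin N := ⟨0, by omega⟩
  let e₀ := divCl (τ i₀).ker (hI i₀) ^ (2 * (g : ℤ) + 1 - degP K c)
  have hdeg : degP K (c * e₀) = 2 * g + 1 := by
    rw [degP_mul K hdim, degP_zpow K hdim, degP_point K hdim τ hτ hI]
    ring
  obtain ⟨M₀, hM₀, hM₀c⟩ := PicGrp.exists_eq_cls (c * e₀)
  have hgen : (Curv2.genus K X : ℤ) = g := by exact_mod_cast hO1
  have hdeg' : Curv2.deg K X M₀ 1 = 2 * g + 1 := by rw [← degP_cls K hM₀, ← hM₀c, hdeg]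
  have hv := CurveRR.subsingleton_h1 (k := K) hdim.le hO0 hM₀ (by omega)
  have hh := CurveRR.h0_eq_of_deg (k := K) hdim.le hO0 hM₀ (by omega)
  have key : ∀ n : ℕ, n ≤ g + 1 → ∃ e ∈ G, ∃ (M : X.Modules) (hM : PicF.IsInvertible M),
      c * e = PicGrp.cls M hM ∧ degP K (c * e) = 2 * g + 1 - n ∧ CurveRR.h K M 0 + n = CurveRR.h K M₀ 0 ∧
        CurveRR.h K M 1 = 0 := by
    intro n
    induction n with
    | zero =>
      exact fun _ => ⟨e₀, zpow_mem (Subgroup.subset_closure (Set.mem_range_self i₀)) _, M₀, hM₀, hM₀c, by omega, rfl,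
        CurveRR.h_eq_zero hv⟩
    | succ n ih =>
      intro hn
      obtain ⟨e, he, M, hM, hc, hd, h0, h1⟩ := ih (by omega)
      obtain ⟨i, M', hM', hc', h1', h0'⟩ := exists_step_points K hdim τ hτ hI hinj (c * e) hM hc (by omega) h1 (by omega)
      refine ⟨e * (divCl (τ i).ker (hI i))⁻¹, mul_mem he (inv_mem (Subgroup.subset_closure ⟨i, rfl⟩)), M', hM',
        by rw [← mul_assoc, hc'], ?_, by omega, h1'⟩
      rw [← mul_assoc, degP_mul K hdim, degP_inv K hdim, degP_point K hdim τ hτ hI, hd]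
      push_cast
      ring
  obtain ⟨e, he, M, hM, hc, -, h0, h1⟩ := key (g + 1) le_rfl
  exact ⟨e, he, M, hM, hc, by omega, h1⟩

end Groth.Agent.PicCurve
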