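import Groth.Agent.PicCurve.Count
import Groth.Agent.PicCurve.Field
import Groth.Agent.PicInf.PicZeroGroup
import Groth.Agent.PicSmooth.Degree
import Groth.Agent.FieldAmple.Basic

/-!
The degree of a class on the fibres of a family of curves.
-/

set_option autoImplicit false
set_option backward.isDefEq.respectTransparency false
set_option backward.isDefEq.respectTransparency.types false
set_option linter.style.haveILetI false
set_option linter.unusedSectionVars false
set_option maxHeartbeats 2000000

universe u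

open CategoryTheory CategoryTheory.Limits AlgebraicGeometry TopologicalSpace Opposite
open PicF
open Groth.Agent.W7Cube (pull pull_pull pull_cls)

attribute [local instance] Groth.Agent.W7Cube.law

noncomputable section

namespace Groth.Agent.PicCurve

variable {X S : Scheme.{u}} (f : X ⟶ S) [IsProper f] [SmoothOfRelativeDimension 1 f] [GeometricallyConnected f]
  (hdim : ∀ z : S, topologicalKrullDim ↥(f.fiber z) = 1)

/-- The degree of a class on the fibre over a point. -/
def degC (T : Over S) (c : PicLoc.PicSet (XT f T)) (t : T.left) : ℤ :=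
  haveI : Smooth f := SmoothOfRelativeDimension.smooth 1 f
  PicSmooth.delta f T (PicGrp.exists_eq_cls c).choose t

theorem degC_cls (T : Over S) {L : (XT f T).Modules} (hL : PicF.IsInvertible L) (t : T.left) :
    degC f T (PicGrp.cls L hL) t = (haveI : Smooth f := SmoothOfRelativeDimension.smooth 1 f; PicSmooth.delta f T L t) := by
  haveI : Smooth f := SmoothOfRelativeDimension.smooth 1 f
  obtain ⟨hM, hc⟩ := (PicGrp.exists_eq_cls (PicGrp.cls L hL)).choose_spec
  obtain ⟨e⟩ := (PicGrp.cls_eq_cls_iff hL hM).1 hc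
  exact (PicSmooth.delta_iso f e t).symm

theorem isLocallyConstant_degC (T : Over S) (c : PicLoc.PicSet (XT f T)) : IsLocallyConstant (degC f T c) := by
  haveI : Smooth f := SmoothOfRelativeDimension.smooth 1 f
  obtain ⟨L, hL, rfl⟩ := PicGrp.exists_eq_cls c
  rw [show degC f T (PicGrp.cls L hL) = PicSmooth.delta f T L from funext (degC_cls f T hL)]
  exact PicSmooth.isLocallyConstant_delta f T hL

theorem degC_pull {T T' : Over S} (g : T' ⟶ T) (c : PicLoc.PicSet (XT f T)) (t : T'.left) :
    degC f T' (pull (XTmap f g) c) t = degC f T c (g.left t) := by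
  haveI : Smooth f := SmoothOfRelativeDimension.smooth 1 f
  obtain ⟨L, hL, rfl⟩ := PicGrp.exists_eq_cls c
  rw [pull_cls, degC_cls, degC_cls, PicSmooth.delta_pull f g hL t]

section Point

variable {Ω : Type u} [Field Ω] (ω : Spec (CommRingCat.of Ω) ⟶ S)

/-- The fibre over a point with values in a field, as a curve. -/
abbrev ptOver : Over S := Over.mk ω

/-- The structure of a scheme over the field. -/
@[reducible] def ptStr : (XT f (ptOver ω)).Over (Spec (CommRingCat.of Ω)) := ⟨XTproj f (ptOver ω)⟩

include hdim in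
theorem curve_pt [IsAlgClosed Ω] : letI := ptStr f ω; topologicalKrullDim ↥(XT f (ptOver ω)) = 1 ∧ IsIntegral (XT f (ptOver ω)) := by
  letI := ptStr f ω
  let p := XTproj f (ptOver ω)
  let y : (ptOver ω).left := IsLocalRing.closedPoint Ω
  haveI : IsProper (XT f (ptOver ω) ↘ Spec (CommRingCat.of Ω)) := isProper_proj f _
  haveI : SmoothOfRelativeDimension 1 (XT f (ptOver ω) ↘ Spec (CommRingCat.of Ω)) := smooth_proj f _
  haveI : Smooth (XT f (ptOver ω) ↘ Spec (CommRingCat.of Ω)) := SmoothOfRelativeDimension.smooth 1 _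
  haveI : GeometricallyConnected (XT f (ptOver ω) ↘ Spec (CommRingCat.of Ω)) := geomConn_proj f _
  haveI : IsIso (p.fiberι y) := by
    haveI : IsIso ((Spec (CommRingCat.of Ω)).fromSpecResidueField y) := AssTensor.isIso_fromSpecResidueField _ y
    exact inferInstanceAs (IsIso (pullback.fst _ ((Spec (CommRingCat.of Ω)).fromSpecResidueField y)))
  have h : topologicalKrullDim ↥(XT f (ptOver ω)) = 1 := by
    rw [← IsHomeomorph.topologicalKrullDim_eq _
      (Homeomorph.isHomeomorph (Scheme.homeoOfIso (asIso (p.fiberι y))))]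
    exact dim_proj f hdim _ y
  exact ⟨h, W7Slope.isIntegral_of_geomConn Ω h⟩

/-- Over a field, the degree is the degree. -/
theorem degC_pt (c : PicLoc.PicSet (XT f (ptOver ω))) (y : (ptOver ω).left) :
    degC f (ptOver ω) c y = (letI := ptStr f ω; degP Ω c) := by
  letI := ptStr f ω
  haveI : IsProper (XT f (ptOver ω) ↘ Spec (CommRingCat.of Ω)) := isProper_proj f _
  obtain ⟨L, hL, rfl⟩ := PicGrp.exists_eq_cls c
  rw [degC_cls]
  obtain ⟨hM, hc⟩ := (PicGrp.exists_eq_cls (PicGrp.cls L hL)).choose_spec
  obtain ⟨e⟩ := (PicGrp.cls_eq_cls_iff hL hM).1 hc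
  show PerfAux.eulerChar _ L y - PerfAux.eulerChar _ (Coh.structureModule _) y =
    Curv2.euler Ω _ _ - (1 : ℕ) * Curv2.euler Ω _ _
  rw [CurveRR.euler_eq_of_iso e.symm, Nat.cast_one, one_mul]
  have key : ∀ (F : (XT f (ptOver ω)).Modules), Coh.IsQCoh F →
      PerfAux.eulerChar (XTproj f (ptOver ω)) F y = Curv2.euler Ω (XT f (ptOver ω)) F := fun F hF =>
    finsum_congr fun i => congrArg (fun n : ℕ => (-1 : ℤ) ^ i * (n : ℤ)) (AbelMap.betti_field hF y i)
  rw [key L (TMul.isQCoh_of_isInvertible hL), key _ (QC.isQCoh_unit _)]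

end Point

/-- Degrees can be computed at geometric points. -/
theorem exists_degC_eq (T : Over S) (t : T.left) : ∃ (Ω : Type u) (_ : Field Ω) (_ : IsAlgClosed Ω)
    (ω : Spec (CommRingCat.of Ω) ⟶ S) (m : ptOver ω ⟶ T) (y : (ptOver ω).left), m.left y = t ∧
      ∀ c : PicLoc.PicSet (XT f T), degC f T c t = (letI := ptStr f ω; degP Ω (pull (XTmap f m) c)) := by
  obtain ⟨Ω, _, _, z, y, hy⟩ := AbelMap.exists_geomPt T.left t
  refine ⟨Ω, inferInstance, inferInstance, z ≫ T.hom, Over.homMk z rfl, y, hy, fun c => ?_⟩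
  rw [← hy, ← degC_pt f _ _ y]
  exact (degC_pull f (Over.homMk z rfl : ptOver (z ≫ T.hom) ⟶ T) c y).symm

include hdim in
theorem degC_mul (T : Over S) (a b : PicLoc.PicSet (XT f T)) (t : T.left) :
    degC f T (a * b) t = degC f T a t + degC f T b t := by
  obtain ⟨Ω, _, _, ω, m, y, -, h⟩ := exists_degC_eq f T t
  letI := ptStr f ω
  haveI : IsProper (XT f (ptOver ω) ↘ Spec (CommRingCat.of Ω)) := isProper_proj f _
  haveI := (curve_pt f hdim ω).2
  rw [h, h, h, map_mul, degP_mul Ω (curve_pt f hdim ω).1]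

include hdim in
theorem degC_one (T : Over S) (t : T.left) : degC f T 1 t = 0 := by
  have := degC_mul f hdim T 1 1 t
  rw [mul_one] at this
  omega

include hdim in
theorem degC_inv (T : Over S) (a : PicLoc.PicSet (XT f T)) (t : T.left) : degC f T a⁻¹ t = - degC f T a t := by
  have := degC_mul f hdim T a a⁻¹ t
  rw [mul_inv_cancel, degC_one f hdim] at this
  omega

include hdim in
theorem degC_pow (T : Over S) (a : PicLoc.PicSet (XT f T)) (n : ℕ) (t : T.left) :
    degC f T (a ^ n) t = n * degC f T a t := by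
  induction n with
  | zero => rw [pow_zero, degC_one f hdim, Nat.cast_zero, zero_mul]
  | succ n ih => rw [pow_succ, degC_mul f hdim, ih]; push_cast; ring

include hdim in
theorem degC_base (T : Over S) (n : PicLoc.PicSet T.left) (t : T.left) :
    degC f T (pull (XTproj f T) n) t = 0 := by
  obtain ⟨Ω, _, _, ω, m, y, hy, -⟩ := exists_degC_eq f T t
  rw [← hy, ← degC_pull f m, pull_pull, XTmap_proj, ← pull_pull,
    show pull m.left n = (1 : PicLoc.PicSet (Spec (CommRingCat.of Ω))) from PicInf.PicZeroGroup.picSet_point _, map_one,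
    degC_one f hdim]

include hdim in
theorem degC_rigify (σ : S ⟶ X) (hσ : σ ≫ f = 𝟙 S) (T : Over S) (c : PicLoc.PicSet (XT f T)) (t : T.left) :
    degC f T (rigify f σ hσ T c) t = degC f T c t := by
  rw [rigify, degC_mul f hdim, degC_base f hdim, add_zero]

include hdim in
/-- The degree zero condition of the Prelude. -/
theorem hasFibreDegreeZeroCl_iff (T : Over S) (c : PicLoc.PicSet (XT f T)) :
    FGA.HasFibreDegreeZeroCl f T c.1 ↔ ∀ t, degC f T c t = 0 := by
  haveI : Smooth f := SmoothOfRelativeDimension.smooth 1 f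
  obtain ⟨L, hL, rfl⟩ := PicGrp.exists_eq_cls c
  constructor
  · rintro ⟨M, hM, h⟩ t
    obtain ⟨e⟩ := PicFam.nonempty_iso_of_cl_eq hM
    have hMi : PicF.IsInvertible M := FieldAmple.isInvertible_of_iso e.symm hL
    rw [degC_cls, ← PicSmooth.delta_iso f e, PicSmooth.delta_eq f hdim T M hMi t, h t, sub_self]
  · intro h
    refine ⟨L, rfl, fun t => ?_⟩
    have h2 := h t
    rw [degC_cls, PicSmooth.delta_eq f hdim T L hL t, sub_eq_zero] at h2
    exact h2

end Groth.Agent.PicCurve
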