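import Groth.Agent.PicCurve.DegC
import Groth.Agent.PicCurve.Cover
import Groth.Agent.AlgEquivCurve.Main
import Groth.Agent.ClosedRep.Over
import Groth.Agent.GrpAmple.Main
import Groth.Agent.Rigid.FibreTranslate

/-!
The rigidified classes of degree zero of a curve with enough translations are classified by a proper smooth
geometrically irreducible quasi-projective scheme.
-/

set_option autoImplicit false
set_option backward.isDefEq.respectTransparency false
set_option backward.isDefEq.respectTransparency.types false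
set_option linter.style.haveILetI false
set_option linter.unusedSectionVars false
set_option maxHeartbeats 2000000

universe u

open CategoryTheory CategoryTheory.Limits AlgebraicGeometry TopologicalSpace Opposite
open PicF
open Groth.Agent.W7Cube (pull pull_pull pull_cls)

attribute [local instance] Groth.Agent.W7Cube.law

noncomputable section

namespace Groth.Agent.PicCurve

section Any

variable {X S : Scheme.{u}} (f : X ⟶ S) (σ : S ⟶ X) (hσ : σ ≫ f = 𝟙 S)

/-- Rigidified classes classified by a scheme, among those satisfying a property. -/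
def Classifies (Q : ∀ T : Over S, PicLoc.PicSet (XT f T) → Prop) (J : Over S) (u : PicLoc.PicSet (XT f J)) : Prop :=
  ∀ (T : Over S) (c : PicLoc.PicSet (XT f T)), pull (secT f σ hσ T) c = 1 → Q T c →
    ∃! g : T ⟶ J, pull (XTmap f g) u = c

end Any

variable {k : Type u} [Field k] {X : Scheme.{u}} (f : X ⟶ Spec (CommRingCat.of k)) [IsProper f]
  [SmoothOfRelativeDimension 1 f] [GeometricallyConnected f] (σ : Spec (CommRingCat.of k) ⟶ X)
  (hσ : σ ≫ f = 𝟙 (Spec (CommRingCat.of k)))

/-- Classes of degree zero. -/
def Zero (T : Over (Spec (CommRingCat.of k))) (c : PicLoc.PicSet (XT f T)) : Prop := ∀ t, degC f T c t = 0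

section Props

variable (hdim : ∀ z : Spec (CommRingCat.of k), topologicalKrullDim ↥(f.fiber z) = 1)
  {J : Over (Spec (CommRingCat.of k))} {uJ : PicLoc.PicSet (XT f J)}
  (hu : pull (secT f σ hσ J) uJ = 1) (hu0 : Zero f J uJ) (hJ : Classifies f σ hσ (Zero f) J uJ)

include hdim hu hu0 hJ in
/-- The group structure. -/
theorem exists_grpObj_degZero : Nonempty (GrpObj J) := by
  let Sub : ∀ T : Over (Spec (CommRingCat.of k)), Subgroup (PicLoc.PicSet (XT f T)) := fun T =>
    { carrier := {c | pull (secT f σ hσ T) c = 1 ∧ Zero f T c}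
      mul_mem' := fun {a b} ha hb => ⟨by rw [map_mul, ha.1, hb.1, one_mul],
        fun t => by rw [degC_mul f hdim, ha.2 t, hb.2 t, add_zero]⟩
      one_mem' := ⟨map_one _, degC_one f hdim T⟩
      inv_mem' := fun {a} ha => ⟨by rw [map_inv, ha.1, inv_one], fun t => by rw [degC_inv f hdim, ha.2 t, neg_zero]⟩ }
  let e : ∀ T : Over (Spec (CommRingCat.of k)), (T ⟶ J) ≃ Sub T := fun T =>
    { toFun := fun g => ⟨pull (XTmap f g) uJ, pull_secT g hu, fun t => by rw [degC_pull]; exact hu0 _⟩
      invFun := fun c => (hJ T c.1 c.2.1 c.2.2).exists.choose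
      left_inv := fun g => (hJ T _ (pull_secT g hu) (fun t => by rw [degC_pull]; exact hu0 _)).unique
        (hJ T _ (pull_secT g hu) (fun t => by rw [degC_pull]; exact hu0 _)).exists.choose_spec rfl
      right_inv := fun c => Subtype.ext (hJ T c.1 c.2.1 c.2.2).exists.choose_spec }
  let G : ∀ T : Over (Spec (CommRingCat.of k)), Group (T ⟶ J) := fun T => (e T).group
  let F : (Over (Spec (CommRingCat.of k)))ᵒᵖ ⥤ GrpCat.{u} :=
    { obj := fun T => @GrpCat.of (T.unop ⟶ J) (G T.unop)
      map := fun {T T'} h =>
        letI := G T.unop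
        letI := G T'.unop
        GrpCat.ofHom (MonoidHom.mk' (fun g => h.unop ≫ g) fun a b => (e T'.unop).injective (by
          have hmul : ∀ (U : Over (Spec (CommRingCat.of k))) (p q : U ⟶ J),
              letI := G U; e U (p * q) = e U p * e U q := fun U p q => (e U).apply_symm_apply _
          have hnat : ∀ g : T.unop ⟶ J, pull (XTmap f h.unop) (e T.unop g).1 = (e T'.unop (h.unop ≫ g)).1 := fun g => by
            show pull _ (pull _ uJ) = pull _ uJ
            rw [pull_pull, S12404.XTmap_comp]
          rw [hmul]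
          refine Subtype.ext ?_
          show (e T'.unop (h.unop ≫ (a * b))).1 = (e T'.unop (h.unop ≫ a)).1 * (e T'.unop (h.unop ≫ b)).1
          rw [← hnat, ← hnat, ← hnat]
          exact (congrArg (fun c : Sub T.unop => pull (XTmap f h.unop) c.1) (hmul T.unop a b)).trans
            (map_mul _ _ _)))
      map_id := fun T => by
        letI := G T.unop
        exact GrpCat.hom_ext (MonoidHom.ext fun g => Category.id_comp g)
      map_comp := fun {T T' T''} a b => by
        letI := G T.unop
        exact GrpCat.hom_ext (MonoidHom.ext fun g => Category.assoc b.unop a.unop g) }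
  exact ⟨GrpObj.ofRepresentableBy J F
    { homEquiv := fun {T} => Equiv.refl _
      homEquiv_comp := fun {T T'} h g => rfl }⟩

variable (g : ℕ) (hO : ∀ z : Spec (CommRingCat.of k), PerfAux.betti f (Coh.structureModule X) z 0 = 1 ∧
    PerfAux.betti f (Coh.structureModule X) z 1 = g)
  (ha : ∀ (T : Over (Spec (CommRingCat.of k))) (U : T.left.Opens), IsIso ((PicF.XTproj f T).app U))
  (H : Over (Spec (CommRingCat.of k))) (Z : HilbD.Obj f g H) (hH : HilbD.IsUniversal f g H Z)
  (hcov : ∀ (T : Over (Spec (CommRingCat.of k))) (c : PicLoc.PicSet (XT f T)) (t : T.left),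
    ∃ e : Tr f σ hσ, GoodC f T (c * pull (XTmap f (toOne T)) e.1) t)

include hdim hu hu0 hJ hO ha hH hcov in
/-- Smoothness, from the charts. -/
theorem smooth_degZero [Smooth H.hom] : Smooth J.hom := by
  haveI : Smooth f := SmoothOfRelativeDimension.smooth 1 f
  have hloc : ∀ t : J.left, ∃ V : J.left.Opens, t ∈ V ∧ Smooth (V.ι ≫ J.hom) := by
    intro t
    obtain ⟨e, he⟩ := hcov J uJ t
    let V : J.left.Opens := ⟨_, isOpen_goodC f J (uJ * pull (XTmap f (toOne J)) e.1)⟩
    refine ⟨V, he, ?_⟩
    let C := Over.mk (chartFam f σ hσ g H Z e).g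
    let cC : PicLoc.PicSet (XT f C) := (chartFam f σ hσ g H Z e).c
    have hcC : pull (secT f σ hσ C) cC = 1 := (chartFam f σ hσ g H Z e).hc
    let W : C.left.Opens :=
      ⟨{x | degC f C cC x = 0}, (isLocallyConstant_degC f C cC).isOpen_fiber 0⟩
    let A := AbDual.ovr J V.ι
    let iA := AbDual.ovrHom J V.ι
    let B := AbDual.ovr C W.ι
    let iB := AbDual.ovrHom C W.ι
    have hA : ∀ {T : Over (Spec (CommRingCat.of k))} (m : T ⟶ A) (x : T.left),
        GoodC f T (pull (XTmap f (m ≫ iA)) uJ * pull (XTmap f (toOne T)) e.1) x := by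
      intro T m x
      rw [show toOne T = (m ≫ iA) ≫ toOne J from Over.OverMorphism.ext (by
        show T.hom = (m ≫ iA).left ≫ J.hom
        exact (Over.w (m ≫ iA)).symm),
        ← S12404.XTmap_comp f (m ≫ iA) (toOne J), ← pull_pull, ← map_mul, goodC_pull]
      exact (m.left x).2
    obtain ⟨a, hac, -⟩ := existsUnique_chart f σ hσ ha g hdim hO H Z hH e A (pull (XTmap f iA) uJ)
      (pull_secT iA hu) (fun x => by simpa using hA (𝟙 A) x)
    have har : Set.range a.left ⊆ Set.range W.ι := by
      rintro _ ⟨x, rfl⟩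
      rw [Scheme.Opens.range_ι]
      show degC f C cC (a.left x) = 0
      rw [← degC_pull, hac, degC_pull]
      exact hu0 _
    let a' : A ⟶ B := Over.homMk (IsOpenImmersion.lift W.ι a.left har) (by
      show _ ≫ W.ι ≫ C.hom = _
      rw [IsOpenImmersion.lift_fac_assoc]
      exact Over.w a)
    have ha' : a' ≫ iB = a := Over.OverMorphism.ext (IsOpenImmersion.lift_fac _ _ _)
    have hB0 : Zero f B (pull (XTmap f iB) cC) := fun x => by rw [degC_pull]; exact x.2
    obtain ⟨b, hbc, -⟩ := hJ B _ (pull_secT iB hcC) hB0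
    have hBgood : ∀ x, GoodC f B (pull (XTmap f iB) cC * pull (XTmap f (toOne B)) e.1) x := by
      intro x
      rw [pull_chartFam, inv_mul_cancel_right, goodC_rigify, goodC_pull]
      exact (W.ι x).2
    have hbr : Set.range b.left ⊆ Set.range V.ι := by
      rintro _ ⟨x, rfl⟩
      rw [Scheme.Opens.range_ι]
      show GoodC f J (uJ * pull (XTmap f (toOne J)) e.1) (b.left x)
      rw [← goodC_pull f b, map_mul, hbc, pull_pull, S12404.XTmap_comp,
        show b ≫ toOne J = toOne B from Over.OverMorphism.ext (Over.w b)]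
      exact hBgood x
    let b' : B ⟶ A := Over.homMk (IsOpenImmersion.lift V.ι b.left hbr) (by
      show _ ≫ V.ι ≫ J.hom = _
      rw [IsOpenImmersion.lift_fac_assoc]
      exact Over.w b)
    have hb' : b' ≫ iA = b := Over.OverMorphism.ext (IsOpenImmersion.lift_fac _ _ _)
    have h1 : a' ≫ b' = 𝟙 A := by
      have h : (a' ≫ b') ≫ iA = iA := by
        refine (hJ A _ (pull_secT iA hu) (fun x => by rw [degC_pull]; exact hu0 _)).unique ?_ rfl
        rw [Category.assoc, hb', ← S12404.XTmap_comp, ← pull_pull, hbc, pull_pull, S12404.XTmap_comp, ha', hac]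
      refine Over.OverMorphism.ext ((cancel_mono V.ι).1 ?_)
      exact (congrArg CommaMorphism.left h).trans (Category.id_comp _).symm
    have h2 : b' ≫ a' = 𝟙 B := by
      have h : (b' ≫ a') ≫ iB = iB := by
        refine (existsUnique_chart f σ hσ ha g hdim hO H Z hH e B (pull (XTmap f iB) cC) (pull_secT iB hcC) hBgood).unique
          ?_ rfl
        rw [Category.assoc, ha', ← S12404.XTmap_comp, ← pull_pull, hac, pull_pull, S12404.XTmap_comp, hb', hbc]
      refine Over.OverMorphism.ext ((cancel_mono W.ι).1 ?_)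
      exact (congrArg CommaMorphism.left h).trans (Category.id_comp _).symm
    haveI : IsIso a'.left := ⟨b'.left, congrArg CommaMorphism.left h1, congrArg CommaMorphism.left h2⟩
    have hBs : Smooth B.hom := by
      show Smooth (W.ι ≫ (goodH f g H Z).ι ≫ H.hom)
      infer_instance
    show Smooth A.hom
    rw [← Over.w a']
    infer_instance
  choose V htV hV using hloc
  exact (IsZariskiLocalAtSource.iff_of_openCover (P := @Smooth) (J.left.openCoverOfIsOpenCover V
    (eq_top_iff.2 fun t _ => Opens.mem_iSup.2 ⟨t, htV t⟩))).2 hV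

end Props

end Groth.Agent.PicCurve
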