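import Groth.Agent.PicCurve.DegZero

/-!
The scheme of rigidified degree zero classes of a curve is proper and geometrically irreducible.
-/

set_option autoImplicit false
set_option backward.isDefEq.respectTransparency false
set_option backward.isDefEq.respectTransparency.types false
set_option linter.style.haveILetI false
set_option linter.unusedSectionVars false
set_option maxHeartbeats 2000000

universe u

open CategoryTheory CategoryTheory.Limits AlgebraicGeometry TopologicalSpace Opposite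
open PicF
open TMul (homOf)
open Groth.Agent.W7Cube (pull pull_pull pull_cls)

attribute [local instance] Groth.Agent.W7Cube.law

noncomputable section

namespace Groth.Agent.PicCurve

section Any

variable {X S : Scheme.{u}} (f : X ⟶ S) [IsProper f] [SmoothOfRelativeDimension 1 f] [GeometricallyConnected f]
  (hdim : ∀ z : S, topologicalKrullDim ↥(f.fiber z) = 1)

include hdim in
/-- The class of a divisor of degree `d` has degree `d`. -/
theorem degC_divCl {d : ℕ} (T : Over S) (D : HilbD.Obj f d T) (t : T.left) :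
    degC f T (divCl D.1 (effCartier_obj f T D)) t = d := by
  obtain ⟨Ω, _, _, ω, m, y, -, h⟩ := exists_degC_eq f T t
  rw [h]
  letI := ptStr f ω
  haveI : IsProper (XT f (ptOver ω) ↘ Spec (CommRingCat.of Ω)) := isProper_proj f _
  obtain ⟨hXdim, hi⟩ := curve_pt f hdim ω
  haveI := hi
  haveI := CurveRR.isNoetherian_of_proper Ω (XT f (ptOver ω))
  let D' : HilbD.Obj f d (ptOver ω) := ⟨_, HilbOne.mem_pull f d m _ D.2⟩
  have hD' : pull (XTmap f m) (divCl D.1 (effCartier_obj f T D)) = divCl D'.1 (effCartier_obj f _ D') := by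
    have e : D'.1 = D.1.comap (XTmap f m) := HilbOne.pull_eq_comap f m D.1
    rw [pull_divCl _ _ (e ▸ effCartier_obj f _ D')]
    exact divCl_congr e.symm _ _
  rw [hD']
  obtain ⟨M, hM, hMc⟩ := PicGrp.exists_eq_cls (divCl D'.1 (effCartier_obj f _ D'))
  have h1 := CurveRR.deg_tensor_cartier (k := Ω) hXdim.le (effCartier_obj f _ D') hM
    (isInverseOf_of_cls_eq hM _ hMc.symm) (CurveRR.isFinLocFreeOfRank_one (TMul.isInvertible_structureModule))
  obtain ⟨⟨hfin, hflat, -⟩, hdeg⟩ := D'.2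
  haveI : IsFinite (D'.1.subschemeι ≫ (XT f (ptOver ω) ↘ Spec (CommRingCat.of Ω))) := hfin
  haveI : Flat (D'.1.subschemeι ≫ (XT f (ptOver ω) ↘ Spec (CommRingCat.of Ω))) := hflat
  have hq : Module.finrank Ω (Coh.HH _ (ClSub.quotMod D'.1) 0) = d := by
    show CurveRR.h Ω (ClSub.quotMod D'.1) 0 = d
    rw [DualGeneric.Sub.h0_quotMod_eq Ω D'.1]
    have := hdeg (IsLocalRing.closedPoint Ω : (ptOver ω).left)
    exact (finrank_eq_dim (D'.1.subschemeι ≫ (XT f (ptOver ω) ↘ Spec (CommRingCat.of Ω))) _).symm.trans this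
  rw [hMc, degP_cls, Curv2.deg]
  rw [CurveRR.deg_structure, show CurveRR.h Ω (ClSub.quotMod D'.1) 0 = d from hq, Curv2.deg,
    CurveRR.euler_eq_of_iso (TMul.leftUnitIso M)] at h1
  push_cast at h1 ⊢
  omega

end Any

variable {k : Type u} [Field k] {X : Scheme.{u}} (f : X ⟶ Spec (CommRingCat.of k)) [IsProper f]
  [SmoothOfRelativeDimension 1 f] [GeometricallyConnected f] (σ : Spec (CommRingCat.of k) ⟶ X)
  (hσ : σ ≫ f = 𝟙 (Spec (CommRingCat.of k)))
  (hdim : ∀ z : Spec (CommRingCat.of k), topologicalKrullDim ↥(f.fiber z) = 1)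
  {J : Over (Spec (CommRingCat.of k))} {uJ : PicLoc.PicSet (XT f J)}
  (hu : pull (secT f σ hσ J) uJ = 1) (hu0 : Zero f J uJ) (hJ : Classifies f σ hσ (Zero f) J uJ)

/-- The constant divisor of the base point. -/
def baseDiv (T : Over (Spec (CommRingCat.of k))) : HilbD.Obj f 1 T :=
  ⟨_, HilbOne.secGraph_mem f T (T.hom ≫ σ) (by rw [Category.assoc, hσ, Category.comp_id])⟩

/-- The class of the base point. -/
def baseCl (T : Over (Spec (CommRingCat.of k))) : PicLoc.PicSet (XT f T) :=
  divCl (baseDiv f σ hσ T).1 (effCartier_obj f T _)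

theorem pull_baseCl {T T' : Over (Spec (CommRingCat.of k))} (m : T' ⟶ T) :
    pull (XTmap f m) (baseCl f σ hσ T) = baseCl f σ hσ T' := by
  have e : (baseDiv f σ hσ T').1 = (baseDiv f σ hσ T).1.comap (XTmap f m) := by
    rw [← HilbOne.pull_eq_comap]
    show _ = HilbD.pull f m (HilbD.secGraph f T (T.hom ≫ σ) (by rw [Category.assoc, hσ, Category.comp_id]))
    rw [HilbOne.pull_secGraph]
    show HilbD.secGraph f T' (T'.hom ≫ σ) (by rw [Category.assoc, hσ, Category.comp_id]) = _
    congr 1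
    rw [← Category.assoc, Over.w m]
  rw [baseCl, pull_divCl _ _ (e ▸ effCartier_obj f _ _)]
  exact divCl_congr e.symm _ _

include hdim hu hu0 hJ in
/-- The Abel map is onto. -/
theorem exists_surjective (g : ℕ) (hO : ∀ z : Spec (CommRingCat.of k), PerfAux.betti f (Coh.structureModule X) z 0 = 1 ∧
    PerfAux.betti f (Coh.structureModule X) z 1 = g) (H : Over (Spec (CommRingCat.of k))) (Z : HilbD.Obj f g H)
    (hH : HilbD.IsUniversal f g H Z) : ∃ b : H ⟶ J, Surjective b.left := by
  have hc0 : Zero f H (rigify f σ hσ H (cH f g H Z * (baseCl f σ hσ H ^ g)⁻¹)) := fun t => by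
    rw [degC_rigify f hdim, degC_mul f hdim, degC_inv f hdim, degC_pow f hdim, baseCl, degC_divCl f hdim, cH,
      degC_divCl f hdim]
    ring
  obtain ⟨b, hb, -⟩ := hJ H _ (rigify_mem f σ hσ H _) hc0
  refine ⟨b, ⟨fun t => ?_⟩⟩
  obtain ⟨Ω, _, _, ω, m, y, hy, hdeg⟩ := exists_degC_eq f J t
  let T := ptOver ω
  letI := ptStr f ω
  haveI : IsProper (XT f T ↘ Spec (CommRingCat.of Ω)) := isProper_proj f T
  haveI : SmoothOfRelativeDimension 1 (XT f T ↘ Spec (CommRingCat.of Ω)) := smooth_proj f T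
  obtain ⟨hXdim, hi⟩ := curve_pt f hdim ω
  haveI := hi
  haveI := CurveRR.isNoetherian_of_proper Ω (XT f T)
  let c := pull (XTmap f m) uJ
  obtain ⟨M, hM, hMc⟩ := PicGrp.exists_eq_cls (c * baseCl f σ hσ T ^ g)
  have hd : Curv2.deg Ω (XT f T) M 1 = g := by
    rw [← degP_cls Ω hM, ← hMc, ← degC_pt f ω _ y, degC_mul f hdim, degC_pow f hdim, baseCl, degC_divCl f hdim,
      degC_pull, hu0]
    ring
  have hO' : ∀ i, CurveRR.h Ω (Coh.structureModule (XT f T)) i = PerfAux.betti f (Coh.structureModule X) (T.hom y) i :=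
    fun i => (CurveRR.h_eq_of_iso (PicLoc.pullbackStructureIso (pullback.fst f T.hom)).symm i).trans
      ((AbelMap.betti_field (QC.isQCoh_pullback _ (QC.isQCoh_unit X)) y i).symm.trans
        (PicSmooth.betti_of_isPullback (IsPullback.of_hasPullback f T.hom) _ (QC.isQCoh_unit X) y i))
  have h0 : CurveRR.h Ω M 0 ≠ 0 := by
    rw [Curv2.deg, CurveRR.euler_eq hXdim.le, CurveRR.euler_eq hXdim.le, hO' 0, hO' 1, (hO _).1, (hO _).2] at hd
    push_cast at hd
    omega
  obtain ⟨v, hv⟩ : ∃ v : Γ(M, ⊤), v ≠ 0 := by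
    by_contra! hh
    letI := CurveRR.secMod Ω M ⊤
    haveI : Subsingleton Γ(M, ⊤) := ⟨fun a b => (hh a).trans (hh b).symm⟩
    exact h0 (by rw [← CurveRR.finrank_sec]; exact Module.finrank_zero_of_subsingleton)
  let I := PicF2.zeroScheme M (homOf v)
  have hI : BlowUp.IsEffCartierIdeal I := isEffCartier_of_genLocus hM _ ⟨_, CurveRR.generic_mem_genLocus hM hv⟩
  let q := I.subschemeι ≫ (XT f T ↘ Spec (CommRingCat.of Ω))
  haveI : Subsingleton ↥(Spec (CommRingCat.of Ω)) := inferInstanceAs (Subsingleton (PrimeSpectrum Ω))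
  haveI hflat : Flat q := inferInstance
  obtain ⟨hqf, -, hlfp⟩ := (Groth.Agent.S1184.result _ I).1.1 ⟨hI, hflat⟩
  haveI : LocallyQuasiFinite q := hqf
  haveI : IsFinite q := IsFinite.of_isProper_of_locallyQuasiFinite _
  have hrank : Module.finrank Ω (Coh.HH _ (ClSub.quotMod I) 0) = g := by
    have h1 := CurveRR.deg_tensor_cartier (k := Ω) hXdim.le hI hM (isInverseOf_of_effCartier hM _ hI)
      (CurveRR.isFinLocFreeOfRank_one (TMul.isInvertible_structureModule))
    rw [CurveRR.deg_structure, Curv2.deg, CurveRR.euler_eq_of_iso (TMul.leftUnitIso M)] at h1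
    show CurveRR.h Ω (ClSub.quotMod I) 0 = g
    have hd' := hd
    simp only [T, Curv2.deg] at hd' h1
    push_cast at h1 hd'
    omega
  have hfr : ∀ z, q.finrank z = g := fun z => by
    rw [finrank_eq_dim q z]
    exact (DualGeneric.Sub.h0_quotMod_eq Ω I).symm.trans hrank
  let D : HilbD.Obj f g T := ⟨I, ⟨⟨inferInstanceAs (IsFinite q), hflat, hlfp⟩, hfr⟩⟩
  obtain ⟨x, hx, -⟩ := hH T D
  have hxc : pull (XTmap f (x ≫ b)) uJ = c := by
    rw [← S12404.XTmap_comp, ← pull_pull, hb, pull_rigify, map_mul, map_inv, map_pow, pull_baseCl,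
      pull_cH, divCl_congr hx _ (effCartier_obj f T D),
      ← cls_eq_divCl hM (effCartier_obj f T D) (isInverseOf_of_effCartier hM _ hI), ← hMc, mul_inv_cancel_right]
    exact rigify_of_mem f σ hσ (PicInf.PicZeroGroup.picSet_point _)
  have hm : x ≫ b = m := (hJ T c (PicInf.PicZeroGroup.picSet_point _) (fun z => by rw [degC_pull]; exact hu0 _)).unique
    hxc rfl
  refine ⟨x.left y, ?_⟩
  rw [← Scheme.Hom.comp_apply, ← Over.comp_left, hm, hy]

include hσ hdim hu hu0 hJ in
/-- The scheme is connected. -/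
theorem connectedSpace_degZero [Smooth f] : ConnectedSpace ↥J.left ∧ ∃ e : Spec (CommRingCat.of k) ⟶ J.left,
    e ≫ J.hom = 𝟙 _ := by
  let one : Over (Spec (CommRingCat.of k)) := Over.mk (𝟙 _)
  obtain ⟨e, he, -⟩ := hJ one 1 (map_one _) (degC_one f hdim one)
  let p : J.left := e.left (IsLocalRing.closedPoint k)
  haveI : Subsingleton ↥(Spec (CommRingCat.of k)) := inferInstanceAs (Subsingleton (PrimeSpectrum k))
  haveI : Nonempty J.left := ⟨p⟩
  suffices h : ∀ t : J.left, t ∈ connectedComponent p by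
    refine ⟨?_, e.left, Over.w e⟩
    haveI : PreconnectedSpace J.left := ⟨by
      rw [show (Set.univ : Set J.left) = connectedComponent p from (Set.eq_univ_of_forall h).symm]
      exact isPreconnected_connectedComponent⟩
    exact ⟨inferInstance⟩
  intro t
  obtain ⟨Ω, _, _, ω, m, y, hy, -⟩ := exists_degC_eq f J t
  let T := ptOver ω
  letI := ptStr f ω
  haveI : IsProper (XT f T ↘ Spec (CommRingCat.of Ω)) := isProper_proj f T
  haveI : Smooth (XT f T ↘ Spec (CommRingCat.of Ω)) :=
    (MorphismProperty.pullback_snd _ _ ‹Smooth f› : Smooth (pullback.snd f T.hom))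
  obtain ⟨hXdim, hi⟩ := curve_pt f hdim ω
  haveI := hi
  haveI : JacobsonSpace ↥(XT f T) := LocallyOfFiniteType.jacobsonSpace (XT f T ↘ Spec (CommRingCat.of Ω))
  obtain ⟨P₀, -, hP₀⟩ := nonempty_inter_closedPoints (Z := (Set.univ : Set ↥(XT f T))) Set.univ_nonempty
    isOpen_univ.isLocallyClosed
  obtain ⟨L, hL, hLc⟩ := PicGrp.exists_eq_cls (pull (XTmap f m) uJ)
  have hdegL : Curv2.deg Ω (XT f T) L 1 = 0 := by
    rw [← degP_cls Ω hL, ← hLc, ← degC_pt f ω _ y, degC_pull]
    exact hu0 _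
  obtain ⟨Y, q, hY, -, -, M, hM, s, s₀, hs, hs₀, ⟨i⟩, ⟨i₀⟩⟩ :=
    AlgEquivCurve.isAlgEquivZero_of_deg_zero hXdim P₀ hP₀ hL hdegL
  haveI := hY
  let TY : Over (Spec (CommRingCat.of k)) := Over.mk (q ≫ ω)
  haveI : PreconnectedSpace ↥TY.left := hY.toPreconnectedSpace
  let j : XT f TY ⟶ Pic13.prodK Ω (XT f T) q :=
    pullback.lift (XTmap f (Over.homMk q rfl : TY ⟶ T)) (XTproj f TY) (XTmap_proj f _)
  let cY := rigify f σ hσ TY (pull j (PicGrp.cls M hM))
  have key : ∀ (r : Spec (CommRingCat.of Ω) ⟶ Y) (hr : r ≫ q = 𝟙 _) (N : (XT f T).Modules) (hN : PicF.IsInvertible N),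
      (Pic13.fibreMod Ω (XT f T) q r hr M ≅ N) →
      pull (XTmap f (Over.homMk r (by show r ≫ q ≫ ω = ω; rw [reassoc_of% hr]) : T ⟶ TY)) cY = PicGrp.cls N hN := by
    intro r hr N hN a
    have hj : XTmap f (Over.homMk r (by show r ≫ q ≫ ω = ω; rw [reassoc_of% hr]) : T ⟶ TY) ≫ j =
        Pic13.sliceAt Ω (XT f T) q r hr := by
      apply pullback.hom_ext
      · rw [Category.assoc, pullback.lift_fst, S12404.XTmap_comp, Pic13.sliceAt, pullback.lift_fst]
        refine (congrArg (XTmap f) (Over.OverMorphism.ext ?_ : _ = 𝟙 T)).trans (XTmap_id T)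
        exact hr
      · rw [Category.assoc, pullback.lift_snd, Pic13.sliceAt, pullback.lift_snd]
        exact XTmap_proj f _
    rw [pull_rigify, pull_pull, hj, pull_cls]
    refine (rigify_of_mem f σ hσ (PicInf.PicZeroGroup.picSet_point _)).trans ?_
    exact (PicGrp.cls_eq_cls_iff _ _).2 ⟨a⟩
  let r : T ⟶ TY := Over.homMk s (by show s ≫ q ≫ ω = ω; rw [reassoc_of% hs])
  let r₀ : T ⟶ TY := Over.homMk s₀ (by show s₀ ≫ q ≫ ω = ω; rw [reassoc_of% hs₀])
  have h0 : pull (XTmap f r₀) cY = 1 :=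
    (key s₀ hs₀ _ (PicLoc.isInvertible_structureModule _) i₀).trans rfl
  have hcY : Zero f TY cY := fun x => by
    rw [(isLocallyConstant_degC f TY cY).apply_eq_of_preconnectedSpace x (r₀.left y), ← degC_pull, h0,
      degC_one f hdim]
  obtain ⟨φ, hφ, -⟩ := hJ TY cY (rigify_mem f σ hσ TY _) hcY
  have h1 : r ≫ φ = m := (hJ T _ (PicInf.PicZeroGroup.picSet_point _) (fun z => by rw [degC_pull]; exact hu0 _)).unique
    (by rw [← S12404.XTmap_comp, ← pull_pull, hφ]; exact (key s hs L hL i).trans hLc.symm) rfl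
  have h2 : r₀ ≫ φ = toOne T ≫ e := (hJ T 1 (map_one _) (degC_one f hdim T)).unique
    (by rw [← S12404.XTmap_comp, ← pull_pull, hφ, h0]) (by rw [← S12404.XTmap_comp, ← pull_pull, he, map_one])
  have hpy : φ.left (r₀.left y) = p := by
    rw [← Scheme.Hom.comp_apply, ← Over.comp_left, h2, Over.comp_left, Scheme.Hom.comp_apply]
    exact congrArg e.left (@Subsingleton.elim _ (inferInstanceAs (Subsingleton (PrimeSpectrum k))) _ _)
  rw [← hy, ← h1, Over.comp_left, Scheme.Hom.comp_apply, ← hpy]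
  exact (isPreconnected_range φ.left.continuous).subset_connectedComponent ⟨_, rfl⟩ ⟨_, rfl⟩

include hσ hdim hu hu0 hJ in
/-- **The degree zero scheme is proper, smooth, geometrically irreducible and has an ample module.** -/
theorem props_degZero [Smooth f] (g : ℕ) (hO : ∀ z : Spec (CommRingCat.of k), PerfAux.betti f (Coh.structureModule X) z 0 = 1 ∧
      PerfAux.betti f (Coh.structureModule X) z 1 = g)
    (ha : ∀ (T : Over (Spec (CommRingCat.of k))) (U : T.left.Opens), IsIso ((PicF.XTproj f T).app U))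
    (H : Over (Spec (CommRingCat.of k))) (Z : HilbD.Obj f g H) (hH : HilbD.IsUniversal f g H Z)
    [IsProper H.hom] [Smooth H.hom]
    (hcov : ∀ (T : Over (Spec (CommRingCat.of k))) (c : PicLoc.PicSet (XT f T)) (t : T.left),
      ∃ e : Tr f σ hσ, GoodC f T (c * pull (XTmap f (toOne T)) e.1) t) :
    IsProper J.hom ∧ Smooth J.hom ∧ GeometricallyIrreducible J.hom ∧ ∃ L : J.left.Modules, CohB1.IsAmple L := by
  haveI hs := smooth_degZero f σ hσ hdim hu hu0 hJ g hO ha H Z hH hcov
  obtain ⟨G⟩ := exists_grpObj_degZero f σ hσ hdim hu hu0 hJ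
  haveI := G
  haveI : IsSeparated J.hom := ClosedRep.isSeparated_of_field k J
  obtain ⟨b, hb⟩ := exists_surjective f σ hσ hdim hu hu0 hJ g hO H Z hH
  haveI := hb
  haveI : UniversallyClosed (b.left ≫ J.hom) := by rw [Over.w b]; infer_instance
  haveI : UniversallyClosed J.hom := UniversallyClosed.of_comp_surjective b.left J.hom
  haveI : CompactSpace H.left := QuasiCompact.compactSpace_of_compactSpace H.hom
  haveI : CompactSpace J.left := hb.1.compactSpace b.left.continuous
  haveI : QuasiCompact J.hom := inferInstance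
  haveI hp : IsProper J.hom := {}
  obtain ⟨hc, e, he⟩ := connectedSpace_degZero f σ hσ hdim hu hu0 hJ
  haveI := hc
  haveI hgc : GeometricallyConnected J.hom := Rigid.geometricallyConnected_of_section J.hom e he
  refine ⟨hp, hs, ⟨fun K _ y W fst snd hW => ?_⟩, GrpAmple.exists_isAmple_grp J⟩
  haveI : Smooth snd := MorphismProperty.of_isPullback (P := @Smooth) hW hs
  haveI : ConnectedSpace W := GeometricallyConnected.geometrically_connectedSpace (f := J.hom) _ _ _ hW
  exact PicInf.PicZeroGroup.irreducibleSpace_of_smooth snd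

end Groth.Agent.PicCurve
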