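import Groth.Agent.PicCurve.Transport
import Groth.Agent.S7485

/-!
Descent of the scheme of rigidified degree zero classes along a finite locally free base extension.
-/

set_option autoImplicit false
set_option backward.isDefEq.respectTransparency false
set_option backward.isDefEq.respectTransparency.types false
set_option linter.style.haveILetI false
set_option linter.unusedSectionVars false
set_option maxHeartbeats 2000000

universe u

open CategoryTheory CategoryTheory.Limits AlgebraicGeometry TopologicalSpace Opposite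
open PicF
open Groth.Agent.W7Cube (pull pull_pull pull_cls)

attribute [local instance] Groth.Agent.W7Cube.law

noncomputable section

namespace Groth.Agent.PicCurve

variable {X S B : Scheme.{u}} (f : X ⟶ S) [IsProper f] [SmoothOfRelativeDimension 1 f] [GeometricallyConnected f]
  (σ : S ⟶ X) (hσ : σ ≫ f = 𝟙 S) (p : B ⟶ S)

/-- Classes of degree zero on all fibres. -/
def Zero' (T : Over S) (c : PicLoc.PicSet (XT f T)) : Prop := ∀ t, degC f T c t = 0

variable {J : Over B} (uJ : PicLoc.PicSet (XT (fB f p) J))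

/-- The class on the scheme over the extension, seen over the base. -/
abbrev uA : PicLoc.PicSet (XT f (downOver p J)) := downCl f p J uJ

/-- The class of a point. -/
abbrev clA {T : Over S} (a : T ⟶ downOver p J) : PicLoc.PicSet (XT f T) := pull (XTmap f a) (uA f p uJ)

variable (hu : pull (secT (fB f p) (σB f σ hσ p) (σB_proj f σ hσ p) J) uJ = 1)
  (hu0 : Zero' (fB f p) J uJ)
  (hJ : Classifies (fB f p) (σB f σ hσ p) (σB_proj f σ hσ p) (Zero' (fB f p)) J uJ)

include hu hu0 in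
theorem uA_mem : pull (secT f σ hσ (downOver p J)) (uA f p uJ) = 1 ∧ Zero' f (downOver p J) (uA f p uJ) := by
  refine ⟨?_, fun t => ?_⟩
  · rw [← secT_upCl f σ hσ p J, up_down]
    exact hu
  · rw [← degC_upCl f p J, up_down]
    exact hu0 t

include hu hu0 hJ in
/-- Points of the scheme over the extension. -/
theorem existsUnique_down (T : Over S) (x : T.left ⟶ B) (hx : x ≫ p = T.hom) (c : PicLoc.PicSet (XT f T))
    (hc : pull (secT f σ hσ T) c = 1) (hc0 : Zero' f T c) :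
    ∃! a : T ⟶ downOver p J, a.left ≫ J.hom = x ∧ clA f p uJ a = c := by
  suffices h : ∀ (T₀ : Scheme.{u}) (g : T₀ ⟶ S) (x : T₀ ⟶ B), x ≫ p = g → ∀ c : PicLoc.PicSet (XT f (Over.mk g)),
      pull (secT f σ hσ (Over.mk g)) c = 1 → Zero' f (Over.mk g) c →
        ∃! a : Over.mk g ⟶ downOver p J, a.left ≫ J.hom = x ∧ clA f p uJ a = c from
    h T.left T.hom x hx c hc hc0
  clear hc0 hc c hx x T
  intro T₀ g x hx c hc hc0
  subst hx
  let T' : Over B := Over.mk x
  have hc' : pull (secT f σ hσ (downOver p T')) c = 1 := hc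
  obtain ⟨m, hm, hmu⟩ := hJ T' (upCl f p T' c) ((secT_upCl f σ hσ p T' c).trans hc') fun t => by
    rw [degC_upCl]; exact hc0 t
  have key : ∀ m : T' ⟶ J, pull (XTmap (fB f p) m) uJ = upCl f p T' c ↔ clA f p uJ (downMap p m) = c := by
    intro m
    rw [show pull (XTmap (fB f p) m) uJ = upCl f p T' (pull (XTmap f (downMap p m)) (uA f p uJ)) by
      rw [← upCl_pull, up_down]]
    exact ⟨fun h => by
      have := congrArg (downCl f p T') h
      rwa [down_up, down_up] at this, fun h => congrArg (upCl f p T') h⟩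
  refine ⟨downMap p m, ⟨Over.w m, (key m).1 hm⟩, ?_⟩
  rintro a ⟨ha, hac⟩
  let m' : T' ⟶ J := Over.homMk a.left ha
  have e : m' = m := hmu m' ((key m').2 (by
    rw [show downMap p m' = a from Over.OverMorphism.ext rfl]
    exact hac))
  exact Over.OverMorphism.ext (congrArg CommaMorphism.left e :)

/-- Two points of the scheme over the extension with the same class. -/
def SameCl {T : Scheme.{u}} (v w : T ⟶ J.left) : Prop :=
  ∀ (g : T ⟶ S) (hv : v ≫ J.hom ≫ p = g) (hw : w ≫ J.hom ≫ p = g),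
    clA f p uJ (Over.homMk v hv : Over.mk g ⟶ downOver p J) = clA f p uJ (Over.homMk w hw : Over.mk g ⟶ downOver p J)

theorem sameCl_comp {T T' : Scheme.{u}} (m : T' ⟶ T) {v w : T ⟶ J.left} (e : v ≫ J.hom ≫ p = w ≫ J.hom ≫ p)
    (h : SameCl f p uJ v w) : SameCl f p uJ (m ≫ v) (m ≫ w) := by
  intro g' hv hw
  let g := v ≫ J.hom ≫ p
  let m' : Over.mk g' ⟶ Over.mk g := Over.homMk m (by rw [← hv]; exact (Category.assoc _ _ _).symm)
  have h1 := congrArg (pull (XTmap f m')) (h g rfl e.symm)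
  rw [clA, clA, pull_pull, pull_pull, S12404.XTmap_comp, S12404.XTmap_comp] at h1
  rw [clA, clA,
    show (Over.homMk (m ≫ v) hv : Over.mk g' ⟶ downOver p J) = m' ≫ (Over.homMk v rfl : Over.mk g ⟶ downOver p J) from
      Over.OverMorphism.ext rfl,
    show (Over.homMk (m ≫ w) hw : Over.mk g' ⟶ downOver p J) = m' ≫ (Over.homMk w e.symm : Over.mk g ⟶ downOver p J) from
      Over.OverMorphism.ext rfl]
  exact h1

include hu hu0 hJ in
/-- Points with the same class over each point of the extension. -/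
theorem existsUnique_sameCl {T : Scheme.{u}} (x : T ⟶ B) (v : T ⟶ J.left) (h : (v ≫ J.hom) ≫ p = x ≫ p) :
    ∃! w : T ⟶ J.left, w ≫ J.hom = x ∧ SameCl f p uJ v w := by
  let g := x ≫ p
  have hv : v ≫ J.hom ≫ p = g := (Category.assoc _ _ _).symm.trans h
  let a₀ : Over.mk g ⟶ downOver p J := Over.homMk v hv
  obtain ⟨a, ⟨ha, hac⟩, hau⟩ := existsUnique_down f σ hσ p uJ hu hu0 hJ (Over.mk g) x rfl (clA f p uJ a₀)
    (pull_secT a₀ (uA_mem f σ hσ p uJ hu hu0).1) fun t => by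
      show degC f _ (pull (XTmap f a₀) _) t = 0
      rw [degC_pull]
      exact (uA_mem f σ hσ p uJ hu hu0).2 _
  refine ⟨a.left, ⟨ha, fun g' hv' hw' => ?_⟩, ?_⟩
  · obtain rfl : g = g' := hv.symm.trans hv'
    exact hac.symm.trans (congrArg (clA f p uJ) (Over.OverMorphism.ext rfl : a = Over.homMk a.left hw'))
  · rintro w ⟨hw, hs⟩
    have hw' : w ≫ J.hom ≫ p = g := by rw [reassoc_of% hw]
    exact congrArg CommaMorphism.left (hau (Over.homMk w hw') ⟨hw, (hs g hv hw').symm⟩)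

/-- The same point. -/
def φA (hu : pull (secT (fB f p) (σB f σ hσ p) (σB_proj f σ hσ p) J) uJ = 1) (hu0 : Zero' (fB f p) J uJ)
    (hJ : Classifies (fB f p) (σB f σ hσ p) (σB_proj f σ hσ p) (Zero' (fB f p)) J uJ)
    {T : Scheme.{u}} (x₀ x₁ : T ⟶ B) (h : x₀ ≫ p = x₁ ≫ p) (v : Desc.Lifts J x₀) : Desc.Lifts J x₁ :=
  ⟨(existsUnique_sameCl f σ hσ p uJ hu hu0 hJ x₁ v.1 ((congrArg (· ≫ p) v.2).trans h)).exists.choose,
    (existsUnique_sameCl f σ hσ p uJ hu hu0 hJ x₁ v.1 ((congrArg (· ≫ p) v.2).trans h)).exists.choose_spec.1⟩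

theorem φA_same {T : Scheme.{u}} (x₀ x₁ : T ⟶ B) (h : x₀ ≫ p = x₁ ≫ p) (v : Desc.Lifts J x₀) :
    SameCl f p uJ v.1 (φA f σ hσ p uJ hu hu0 hJ x₀ x₁ h v).1 :=
  (existsUnique_sameCl f σ hσ p uJ hu hu0 hJ x₁ v.1 ((congrArg (· ≫ p) v.2).trans h)).exists.choose_spec.2

theorem φA_eq {T : Scheme.{u}} (x₀ x₁ : T ⟶ B) (h : x₀ ≫ p = x₁ ≫ p) (v : Desc.Lifts J x₀) (w : T ⟶ J.left)
    (hw : w ≫ J.hom = x₁) (hs : SameCl f p uJ v.1 w) : (φA f σ hσ p uJ hu hu0 hJ x₀ x₁ h v).1 = w :=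
  (existsUnique_sameCl f σ hσ p uJ hu hu0 hJ x₁ v.1 ((congrArg (· ≫ p) v.2).trans h)).unique
    ⟨(φA f σ hσ p uJ hu hu0 hJ x₀ x₁ h v).2, φA_same f σ hσ p uJ hu hu0 hJ x₀ x₁ h v⟩ ⟨hw, hs⟩

theorem base_eq {T : Scheme.{u}} {x₀ x₁ : T ⟶ B} (h : x₀ ≫ p = x₁ ≫ p) (v : Desc.Lifts J x₀)
    (w : Desc.Lifts J x₁) : v.1 ≫ J.hom ≫ p = w.1 ≫ J.hom ≫ p := by
  rw [← Category.assoc, v.2, ← Category.assoc, w.2, h]

/-- The descent datum. -/
@[reducible] def datum : Desc.SchDD p where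
  obj := J
  φ T x₀ x₁ h :=
    { toFun := φA f σ hσ p uJ hu hu0 hJ x₀ x₁ h
      invFun := φA f σ hσ p uJ hu hu0 hJ x₁ x₀ h.symm
      left_inv := fun v => Subtype.ext (φA_eq f σ hσ p uJ hu hu0 hJ _ _ _ _ v.1 v.2 fun g a b =>
        (φA_same f σ hσ p uJ hu hu0 hJ x₀ x₁ h v g b a).symm)
      right_inv := fun v => Subtype.ext (φA_eq f σ hσ p uJ hu hu0 hJ _ _ _ _ v.1 v.2 fun g a b =>
        (φA_same f σ hσ p uJ hu hu0 hJ x₁ x₀ h.symm v g b a).symm) }
  φ_natural T T' m x₀ x₁ h h' v v' hv' := by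
    refine φA_eq f σ hσ p uJ hu hu0 hJ (m ≫ x₀) (m ≫ x₁) h' v' _ ?_ ?_
    · rw [Category.assoc]
      exact congrArg (m ≫ ·) (φA f σ hσ p uJ hu hu0 hJ x₀ x₁ h v).2
    · rw [hv']
      exact sameCl_comp f p uJ m (base_eq p h v _) (φA_same f σ hσ p uJ hu hu0 hJ x₀ x₁ h v)
  φ_self T x v := Subtype.ext (φA_eq f σ hσ p uJ hu hu0 hJ x x rfl v v.1 v.2 fun g a b => rfl)
  φ_comp T x₀ x₁ x₂ h₀₁ h₁₂ v := Subtype.ext (φA_eq f σ hσ p uJ hu hu0 hJ x₁ x₂ h₁₂
    (φA f σ hσ p uJ hu hu0 hJ x₀ x₁ h₀₁ v) _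
    (φA f σ hσ p uJ hu hu0 hJ x₀ x₂ (h₀₁.trans h₁₂) v).2 fun g a b =>
      ((φA_same f σ hσ p uJ hu hu0 hJ x₀ x₁ h₀₁ v g ((base_eq p h₀₁ v _).trans a) a).symm).trans
        (φA_same f σ hσ p uJ hu hu0 hJ x₀ x₂ (h₀₁.trans h₁₂) v g ((base_eq p h₀₁ v _).trans a) b))

include hu hu0 hJ in
/-- **Descent of the scheme of degree zero classes.** -/
theorem exists_descended_classifier [IsFinite p] [Flat p] [Surjective p] [LocallyOfFinitePresentation p]
    (ha : ∀ (T : Over S) (U : T.left.Opens), IsIso ((PicF.XTproj f T).app U))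
    (L : J.left.Modules) (hL : CohB1.IsAmple L) :
    ∃ (W : Over S) (ξ : PicLoc.PicSet (XT f W)) (π : J.left ⟶ W.left), pull (secT f σ hσ W) ξ = 1 ∧ Zero' f W ξ ∧
      Classifies f σ hσ (Zero' f) W ξ ∧ IsPullback π J.hom W.hom p := by
  obtain ⟨W, ⟨e⟩⟩ := Groth.Agent.S7485.result p (datum f σ hσ p uJ hu hu0 hJ) L hL
  let i : J.left ⟶ pullback p W.hom := e.inv.hom.left
  let j : pullback p W.hom ⟶ J.left := e.hom.hom.left
  have hij : i ≫ j = 𝟙 _ := congrArg CommaMorphism.left (congrArg Desc.SchDD.Hom.hom e.inv_hom_id)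
  have hji : j ≫ i = 𝟙 _ := congrArg CommaMorphism.left (congrArg Desc.SchDD.Hom.hom e.hom_inv_id)
  haveI : IsIso i := ⟨j, hij, hji⟩
  have hi : i ≫ pullback.fst p W.hom = J.hom := Over.w e.inv.hom
  let π : J.left ⟶ W.left := i ≫ pullback.snd p W.hom
  have hsq : IsPullback π J.hom W.hom p :=
    ((IsPullback.of_hasPullback p W.hom).flip).of_iso (asIso i).symm (Iso.refl _) (Iso.refl _) (Iso.refl _)
      (by simp [π]) (by simp [← hi]) (by simp) (by simp)
  have hπ : π ≫ W.hom = J.hom ≫ p := hsq.w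
  -- points with the same class have the same image
  have hπeq : ∀ {T : Scheme.{u}} (v w : T ⟶ J.left) (hb : v ≫ J.hom ≫ p = w ≫ J.hom ≫ p),
      v ≫ π = w ≫ π ↔ SameCl f p uJ v w := by
    intro T v w hb
    have h : (v ≫ J.hom) ≫ p = (w ≫ J.hom) ≫ p := by rw [Category.assoc, Category.assoc, hb]
    let v₀ : Desc.Lifts J (v ≫ J.hom) := ⟨v, rfl⟩
    have hcomm := e.inv.comm (v ≫ J.hom) (w ≫ J.hom) h v₀
      ⟨v ≫ i, by show (v ≫ i) ≫ pullback.fst p W.hom = _; rw [Category.assoc, hi]⟩ rfl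
    have hcan : (φA f σ hσ p uJ hu hu0 hJ (v ≫ J.hom) (w ≫ J.hom) h v₀).1 ≫ π = v ≫ π := by
      have h3 := congrArg (· ≫ pullback.snd p W.hom) hcomm
      exact ((Category.assoc _ _ _).symm.trans h3.symm).trans ((pullback.lift_snd _ _ _).trans (Category.assoc _ _ _))
    constructor
    · intro hvw
      have hw : (φA f σ hσ p uJ hu hu0 hJ (v ≫ J.hom) (w ≫ J.hom) h v₀).1 = w := by
        rw [← cancel_mono i]
        refine pullback.hom_ext ?_ ?_
        · rw [Category.assoc, Category.assoc, hi]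
          exact (φA f σ hσ p uJ hu hu0 hJ (v ≫ J.hom) (w ≫ J.hom) h v₀).2
        · rw [Category.assoc, Category.assoc]
          exact hcan.trans hvw
      exact hw ▸ φA_same f σ hσ p uJ hu hu0 hJ (v ≫ J.hom) (w ≫ J.hom) h v₀
    · intro hs
      rw [← φA_eq f σ hσ p uJ hu hu0 hJ (v ≫ J.hom) (w ≫ J.hom) h v₀ w rfl hs, hcan]
  haveI : Flat π := MorphismProperty.of_isPullback hsq.flip ‹Flat p›
  haveI : LocallyOfFinitePresentation π := MorphismProperty.of_isPullback hsq.flip ‹LocallyOfFinitePresentation p›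
  haveI : Surjective π := MorphismProperty.of_isPullback hsq.flip ‹Surjective p›
  -- the universal class
  let U := AbDual.ovr W π
  let q : U ⟶ downOver p J := Over.homMk (𝟙 _) (by show 𝟙 _ ≫ J.hom ≫ p = π ≫ W.hom; rw [Category.id_comp, hπ])
  obtain ⟨hA, hA0⟩ := uA_mem f σ hσ p uJ hu hu0
  let c' := clA f p uJ q
  have hc' : pull (secT f σ hσ U) c' = 1 := pull_secT q hA
  have hglue : pull (XTmap f (AbDual.ovrHom U (pullback.fst π π))) c' =
      pull (XTmap f (Over.homMk (pullback.snd π π) (pullback.condition_assoc W.hom).symm :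
        AbDual.ovr U (pullback.fst π π) ⟶ U)) c' := by
    rw [pull_pull, pull_pull, S12404.XTmap_comp, S12404.XTmap_comp]
    have h1 : pullback.fst π π ≫ J.hom ≫ p = pullback.snd π π ≫ J.hom ≫ p := by
      rw [← hπ, pullback.condition_assoc]
    refine (congrArg (clA f p uJ) (Over.OverMorphism.ext ?_)).trans
      (((hπeq _ _ h1).1 pullback.condition (pullback.fst π π ≫ π ≫ W.hom) (by rw [hπ]) (by rw [← h1, hπ])).trans
        (congrArg (clA f p uJ) (Over.OverMorphism.ext ?_)))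
    · exact Category.comp_id _
    · exact (Category.comp_id _).symm
  obtain ⟨⟨ξ₀, hξi, hξt⟩, hξ, -⟩ := Groth.Agent.S12403.result f σ hσ ha W π
    ⟨c'.1, c'.2, congrArg Subtype.val hc'⟩ (congrArg Subtype.val hglue)
  let ξ : PicLoc.PicSet (XT f W) := ⟨ξ₀, hξi⟩
  have hξ' : pull (XTmap f (AbDual.ovrHom W π)) ξ = c' := Subtype.ext hξ
  have hξ1 : pull (secT f σ hσ W) ξ = 1 := Subtype.ext hξt
  have hξ0 : Zero' f W ξ := fun w => by
    obtain ⟨t, rfl⟩ := π.surjective w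
    have := degC_pull f (AbDual.ovrHom W π) ξ t
    rw [hξ', show c' = pull (XTmap f q) (uA f p uJ) from rfl, degC_pull] at this
    exact this.symm.trans (hA0 _)
  refine ⟨W, ξ, π, hξ1, hξ0, fun T c hc hc0 => ?_, hsq⟩
  let u := pullback.fst T.hom p
  let x := pullback.snd T.hom p
  let T' := AbDual.ovr T u
  have hT' : x ≫ p = T'.hom := pullback.condition.symm
  have hcu : pull (secT f σ hσ T') (pull (XTmap f (AbDual.ovrHom T u)) c) = 1 := pull_secT _ hc
  obtain ⟨a, ⟨hax, hac⟩, hau⟩ := existsUnique_down f σ hσ p uJ hu hu0 hJ T' x hT' _ hcu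
    (fun t => by rw [degC_pull]; exact hc0 _)
  -- classes of composites with `π`
  have hcl : ∀ (b : T' ⟶ downOver p J) (g : T ⟶ W), b.left ≫ π = u ≫ g.left →
      clA f p uJ b = pull (XTmap f (AbDual.ovrHom T u)) (pull (XTmap f g) ξ) := by
    intro b g hbg
    let b₁ : T' ⟶ U := Over.homMk b.left (by
      show b.left ≫ π ≫ W.hom = u ≫ T.hom
      rw [reassoc_of% hbg, Over.w g])
    have e1 : b₁ ≫ q = b := Over.OverMorphism.ext (Category.comp_id _)
    have e2 : b₁ ≫ AbDual.ovrHom W π = AbDual.ovrHom T u ≫ g := Over.OverMorphism.ext hbg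
    rw [pull_pull, S12404.XTmap_comp, ← e2, ← S12404.XTmap_comp f b₁, ← pull_pull, hξ', ← e1]
    show pull _ _ = pull _ (pull _ _)
    rw [pull_pull, S12404.XTmap_comp]
  haveI : QuasiCompact u := inferInstance
  haveI : Surjective u := MorphismProperty.pullback_fst _ _ ‹Surjective p›
  haveI : Flat u := MorphismProperty.pullback_fst _ _ ‹Flat p›
  haveI : LocallyOfFinitePresentation u := MorphismProperty.pullback_fst _ _ ‹LocallyOfFinitePresentation p›
  have hcoc : ∀ {Z : Scheme.{u}} (g₁ g₂ : Z ⟶ T'.left), g₁ ≫ u = g₂ ≫ u → g₁ ≫ a.left ≫ π = g₂ ≫ a.left ≫ π := by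
    intro Z g₁ g₂ hg
    have haw : a.left ≫ J.hom ≫ p = T'.hom := Over.w a
    have hb : (g₁ ≫ a.left) ≫ J.hom ≫ p = (g₂ ≫ a.left) ≫ J.hom ≫ p := by
      rw [Category.assoc, Category.assoc, haw]
      show g₁ ≫ u ≫ T.hom = g₂ ≫ u ≫ T.hom
      rw [reassoc_of% hg]
    rw [← Category.assoc, ← Category.assoc g₂]
    refine (hπeq _ _ hb).2 fun g hv hw => ?_
    let m₁ : Over.mk g ⟶ T' := Over.homMk g₁ ((congrArg (g₁ ≫ ·) haw).symm.trans ((Category.assoc _ _ _).symm.trans hv))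
    let m₂ : Over.mk g ⟶ T' := Over.homMk g₂ ((congrArg (g₂ ≫ ·) haw).symm.trans ((Category.assoc _ _ _).symm.trans hw))
    rw [show (Over.homMk (g₁ ≫ a.left) hv : Over.mk g ⟶ downOver p J) = m₁ ≫ a from Over.OverMorphism.ext rfl,
      show (Over.homMk (g₂ ≫ a.left) hw : Over.mk g ⟶ downOver p J) = m₂ ≫ a from Over.OverMorphism.ext rfl,
      clA, clA, ← S12404.XTmap_comp, ← S12404.XTmap_comp, ← pull_pull, ← pull_pull,
      show pull (XTmap f a) (uA f p uJ) = pull (XTmap f (AbDual.ovrHom T u)) c from hac, pull_pull, pull_pull,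
      S12404.XTmap_comp, S12404.XTmap_comp,
      show m₁ ≫ AbDual.ovrHom T u = m₂ ≫ AbDual.ovrHom T u from Over.OverMorphism.ext hg]
  let g₀ := EffectiveEpi.desc u (a.left ≫ π) hcoc
  have hg₀ : u ≫ g₀ = a.left ≫ π := EffectiveEpi.fac u _ hcoc
  let g : T ⟶ W := Over.homMk g₀ (by
    rw [← cancel_epi u, reassoc_of% hg₀, hπ]
    exact Over.w a)
  have hgc : pull (XTmap f g) ξ = c := S12403.eq_one_of_pull_eq_one f σ hσ ha T u
    (pull (XTmap f g) ξ * c⁻¹)
    (by rw [map_mul, map_inv, ← hcl a g hg₀.symm, show clA f p uJ a = _ from hac, mul_inv_cancel])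
    (by rw [map_mul, map_inv, pull_secT g hξ1, hc, inv_one, one_mul]) |> mul_inv_eq_one.1
  refine ⟨g, hgc, fun g' hg' => ?_⟩
  have hw : (u ≫ g'.left) ≫ W.hom = x ≫ p := by rw [Category.assoc, Over.w g', hT']; rfl
  let b₀ : pullback T.hom p ⟶ J.left := hsq.lift (u ≫ g'.left) x hw
  let b : T' ⟶ downOver p J := Over.homMk b₀ (by
    show b₀ ≫ J.hom ≫ p = u ≫ T.hom
    rw [← Category.assoc, hsq.lift_snd]
    exact pullback.condition.symm)
  have hb : b = a := hau b ⟨hsq.lift_snd _ _ _, by rw [hcl b g' (hsq.lift_fst _ _ _), hg']⟩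
  refine Over.OverMorphism.ext ((cancel_epi u).1 ?_)
  rw [show u ≫ g.left = a.left ≫ π from hg₀, ← hb]
  exact (hsq.lift_fst _ _ _).symm

end Groth.Agent.PicCurve
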