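import Groth.Agent.NegTwist.Connected
import Groth.Agent.NegTwist.Sections

/-!
The ideal module of the zero scheme of a section is the inverse of the invertible module as soon as it is an
effective Cartier ideal, over any scheme.
-/

set_option autoImplicit false
set_option backward.isDefEq.respectTransparency false
set_option maxHeartbeats 1000000

universe u

open CategoryTheory CategoryTheory.Limits AlgebraicGeometry TopologicalSpace Opposite
open Groth.Agent.QC (res resO res_res res_self res_smul resO_resO app_res)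

noncomputable section

namespace Groth.Agent.PicCurve

open Groth.Agent.NegTwist

variable {X : Scheme.{u}}

/-- A generator of an effective Cartier ideal on an affine open is a nonzerodivisor. -/
theorem mem_nonZeroDivisors_of_span {I : X.IdealSheafData} (hE : BlowUp.IsEffCartierIdeal I) (D : X.affineOpens)
    (c : Γ(X, D.1)) (hI : I.ideal D = Ideal.span {c}) : c ∈ nonZeroDivisors Γ(X, D.1) := by
  refine mem_nonZeroDivisors_iff_right.2 fun a ha => QC.section_eq_of_locally (M := Coh.structureModule X) fun x hx => ?_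
  obtain ⟨U, hxU, d, hd, hId⟩ := hE x
  obtain ⟨U', hU', hxU', hU'le⟩ := exists_isAffineOpen_mem_and_subset (x := x) (U := U.1 ⊓ D.1) ⟨hxU, hx⟩
  obtain ⟨f, hfU', hxf⟩ := U.2.exists_basicOpen_le ⟨x, hxU'⟩ hxU
  let W := X.affineBasicOpen (U := U) f
  have hWD : W.1 ≤ D.1 := hfU'.trans (hU'le.trans inf_le_right)
  refine ⟨W.1, hWD, hxf, ?_⟩
  have h1 : I.ideal W = Ideal.span {(X.presheaf.map (homOfLE hWD).op).hom c} := by
    rw [← I.map_ideal (U := W) (V := D) hWD, hI, Ideal.map_span, Set.image_singleton]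
    rfl
  have h2 : I.ideal W = Ideal.span {(X.presheaf.map (homOfLE (X.basicOpen_le f)).op).hom d} := by
    rw [← I.map_ideal_basicOpen U f, hId, Ideal.map_span, Set.image_singleton]
  have hd' : (X.presheaf.map (homOfLE (X.basicOpen_le f)).op).hom d ∈ nonZeroDivisors Γ(X, W.1) := by
    haveI := U.2.isLocalization_basicOpen f
    exact IsLocalization.map_nonZeroDivisors_le (Submonoid.powers f) Γ(X, X.basicOpen f)
      ⟨d, hd, rfl⟩
  have hmem : (X.presheaf.map (homOfLE (X.basicOpen_le f)).op).hom d ∈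
      Ideal.span {(X.presheaf.map (homOfLE hWD).op).hom c} := h1 ▸ h2 ▸ Ideal.subset_span rfl
  obtain ⟨b, hb⟩ := Ideal.mem_span_singleton'.1 hmem
  have hc' : (X.presheaf.map (homOfLE hWD).op).hom c ∈ nonZeroDivisors Γ(X, W.1) :=
    (mul_mem_nonZeroDivisors.1 (hb ▸ hd')).2
  change (X.presheaf.map (homOfLE hWD).op).hom a = (X.presheaf.map (homOfLE hWD).op).hom 0
  rw [map_zero]
  refine mem_nonZeroDivisors_iff_right.1 hc' _ ?_
  rw [← map_mul, ha, map_zero]

/-- The ideal module of an effective zero scheme is inverse to the invertible module. -/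
theorem isInverseOf_of_effCartier {N : X.Modules} (hN : PicF.IsInvertible N)
    (t : Coh.structureModule X ⟶ N) (hE : BlowUp.IsEffCartierIdeal (PicF2.zeroScheme N t)) :
    ClSub.IsInverseOf N (ClSub.idealMod (PicF2.zeroScheme N t)) := by
  obtain ⟨P, hP, ⟨e₀⟩⟩ := W7Hull.exists_tensor_inverse hN
  let e : CohB1.tensorMod P N ≅ Coh.structureModule X := TMul.commIso P N ≪≫ e₀
  obtain ⟨m, hm⟩ := exists_map P t
  let τ : P ⟶ Coh.structureModule X := (SecTwist.unitorR P).inv ≫ m ≫ e.hom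
  let I := PicF2.zeroScheme N t
  have local' : ∀ x : X, ∃ (D : X.Opens) (_ : IsAffineOpen D) (q : Γ(N, D)) (g : Γ(P, D)) (c : Γ(X, D)),
      x ∈ D ∧ TMul.IsGen q ∧ TMul.IsGen g ∧ TMul.val t D = c • q := fun x => by
    obtain ⟨U₁, q, hx₁, hq⟩ := TMul.exists_isGen hN x
    obtain ⟨U₂, g, hx₂, hg⟩ := TMul.exists_isGen hP x
    obtain ⟨D, hD, hxD, hDU⟩ := exists_isAffineOpen_mem_and_subset (x := x) (U := U₁ ⊓ U₂) ⟨hx₁, hx₂⟩
    replace hDU : D ≤ U₁ ⊓ U₂ := hDU
    have hqD := hq.res (hDU.trans inf_le_left)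
    obtain ⟨c, hc⟩ := (hqD D le_rfl).2 (TMul.val t D)
    simp only [res_self] at hc
    exact ⟨D, hD, _, _, c, hxD, hqD, hg.res (hDU.trans inf_le_right), hc.symm⟩
  have hgen : ∀ (D : X.Opens) (hD : IsAffineOpen D) (q : Γ(N, D)) (g : Γ(P, D)) (c : Γ(X, D)),
      TMul.IsGen q → TMul.IsGen g → TMul.val t D = c • q →
      ∃ u : Γ(X, D), IsUnit u ∧ (show Γ(X, D) from τ.app D g) = c * u ∧ c ∈ nonZeroDivisors Γ(X, D) ∧
        I.ideal ⟨D, hD⟩ = Ideal.span {c} := fun D hD q g c hq hg hc =>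
    ⟨_, isUnit_app_gen e (TMul.isGen_tm hg hq), tau_app_gen hm g hc,
      mem_nonZeroDivisors_of_span hE ⟨D, hD⟩ c (ZeroSch.ideal_zeroScheme_eq_span t hN ⟨D, hD⟩ hq hc),
      ZeroSch.ideal_zeroScheme_eq_span t hN ⟨D, hD⟩ hq hc⟩
  have hτ0 : τ ≫ ClSub.toSubscheme I = 0 := by
    refine Scheme.Modules.hom_ext _ _ fun W => ?_
    ext s
    refine QC.section_eq_of_locally fun x hx => ?_
    obtain ⟨D, hD, q, g, c, hxD, hq, hg, hc⟩ := local' x
    obtain ⟨f, hf, hxf⟩ := hD.exists_basicOpen_le ⟨x, hx⟩ hxD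
    refine ⟨X.basicOpen f, hf, hxf, ?_⟩
    obtain ⟨u, -, hu, -, hI⟩ := hgen D hD q g c hq hg hc
    obtain ⟨d, hd⟩ := (hg (X.basicOpen f) (X.basicOpen_le f)).2 (res P hf s)
    rw [app_res, app_res]
    show (ClSub.toSubscheme I).app (X.basicOpen f) (τ.app (X.basicOpen f) (res P hf s)) = _
    refine Eq.trans (b := 0) ?_ rfl
    refine (QC.mem_range_kernel_app (ClSub.toSubscheme I) _ _).mp
      ((QC.mem_range_idealModι_affine I (X.affineBasicOpen (U := ⟨D, hD⟩) f) _).mpr ?_)
    rw [← hd, Scheme.Modules.Hom.app_smul]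
    refine Ideal.mul_mem_left _ _ ?_
    rw [← app_res τ (X.basicOpen_le f) g, ← I.map_ideal_basicOpen ⟨D, hD⟩ f, hI]
    exact Ideal.mem_map_of_mem _ (Ideal.mem_span_singleton'.mpr ⟨u, (mul_comm u c).trans hu.symm⟩)
  let φ : P ⟶ ClSub.idealMod I := kernel.lift (ClSub.toSubscheme I) τ hτ0
  have hJ := (Groth.Agent.S8914.result I).mpr hE
  have hφ : IsIso φ := by
    refine RelTilde.isIso_of_bijective_near _ fun x => ?_
    obtain ⟨D₀, hD₀, q₀, g₀, c₀, hxD₀, hq₀, hg₀, hc₀⟩ := local' x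
    obtain ⟨U, j₀, hxU, hj₀⟩ := TMul.exists_isGen hJ x
    obtain ⟨D, hD, hxD, hDU⟩ := exists_isAffineOpen_mem_and_subset (x := x) (U := D₀ ⊓ U) ⟨hxD₀, hxU⟩
    replace hDU : D ≤ D₀ ⊓ U := hDU
    have hc : TMul.val t D = resO X (hDU.trans inf_le_left) c₀ • res N (hDU.trans inf_le_left) q₀ := by
      rw [← TMul.res_val t (hDU.trans inf_le_left), hc₀, res_smul]
    obtain ⟨u, hu, hτg, hnzd, hI⟩ := hgen D hD _ (res P (hDU.trans inf_le_left) g₀) _ (hq₀.res _) (hg₀.res _) hc
    have hj := hj₀.res (hDU.trans inf_le_right : D ≤ U)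
    obtain ⟨a, ha⟩ := (hj D le_rfl).2 (φ.app D (res P (hDU.trans inf_le_left) g₀))
    simp only [res_self] at ha
    have hua : IsUnit a := by
      have hmem : (show Γ(X, D) from (ClSub.idealModι I).app D (res _ (hDU.trans inf_le_right) j₀)) ∈
          I.ideal ⟨D, hD⟩ := (QC.mem_range_idealModι_affine I ⟨D, hD⟩ _).mp ⟨_, rfl⟩
      rw [hI] at hmem
      obtain ⟨b, hb⟩ := Ideal.mem_span_singleton'.mp hmem
      have h1 : (show Γ(X, D) from τ.app D (res P (hDU.trans inf_le_left) g₀)) =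
          a * (show Γ(X, D) from (ClSub.idealModι I).app D (res _ (hDU.trans inf_le_right) j₀)) := by
        refine Eq.trans ?_ (Scheme.Modules.Hom.app_smul (ClSub.idealModι I) a _)
        refine Eq.trans ?_ (congrArg ((ClSub.idealModι I).app D) ha.symm)
        exact congrArg (fun ψ : P ⟶ Coh.structureModule X => ψ.app D (res P (hDU.trans inf_le_left) g₀))
          (kernel.lift_ι (ClSub.toSubscheme I) τ hτ0).symm
      rw [hτg, ← hb] at h1
      have h2 : u = a * b := (mul_cancel_right_mem_nonZeroDivisors hnzd).mp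
        (by rw [mul_comm u, h1, mul_assoc])
      exact isUnit_of_mul_isUnit_left (h2 ▸ hu)
    have hgφ : TMul.IsGen (φ.app D (res P (hDU.trans inf_le_left) g₀)) := ha ▸ TMul.isGen_smul hj hua
    refine ⟨D, hxD, fun V hV => ?_⟩
    refine (Function.Bijective.of_comp_iff (φ.app V) ((hg₀.res (hDU.trans inf_le_left)) V hV)).1 ?_
    have h : (φ.app V) ∘ (fun d : Γ(X, V) => d • res P hV (res P (hDU.trans inf_le_left) g₀)) =
        fun d => d • res _ hV (φ.app D (res P (hDU.trans inf_le_left) g₀)) := funext fun d => by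
      rw [Function.comp_apply, Scheme.Modules.Hom.app_smul, app_res φ]
    rw [h]
    exact hgφ V hV
  exact ⟨TMul.commIso _ _ ≪≫ PicGrp.tensorModIso (asIso φ).symm (Iso.refl N) ≪≫ e⟩

end Groth.Agent.PicCurve
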