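import Groth.Agent.PicCurve.Good
import Groth.Agent.PicCurve.Inverse
import Groth.Agent.S8848
import Groth.Agent.S1184
import Groth.Agent.S1604
import Groth.Agent.W7Slope.Hom
import Groth.Agent.DualGeneric.SubK
import Groth.Agent.HilbSum.Sum

/-!
A section vanishing on no fibre of a good invertible module cuts out a finite locally free divisor of degree
the genus, and the module is the inverse of its ideal.
-/

set_option autoImplicit false
set_option backward.isDefEq.respectTransparency false
set_option backward.isDefEq.respectTransparency.types false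
set_option linter.style.haveILetI false
set_option maxHeartbeats 2000000

universe u

open CategoryTheory CategoryTheory.Limits AlgebraicGeometry TopologicalSpace Opposite
open Groth.Agent.QC (res resO res_res res_self res_smul app_res)
open TMul (IsGen)

noncomputable section

namespace Groth.Agent.PicCurve

/-- The rank of a finite scheme over a field is the dimension of its functions. -/
theorem finrank_eq_dim {k : Type u} [Field k] {Z : Scheme.{u}} (q : Z ⟶ Spec (CommRingCat.of k)) [IsFinite q]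
    [Flat q] (y : Spec (CommRingCat.of k)) :
    q.finrank y = @Module.finrank k Γ(Z, ⊤) _ _ (Coh.toGlobal q).toAlgebra.toModule := by
  haveI : IsAffine Z := isAffine_of_isAffineHom q
  letI : Algebra k Γ(Z, ⊤) := (Coh.toGlobal q).toAlgebra
  have e : Z.isoSpec.hom ≫ Spec.map (CommRingCat.ofHom (algebraMap k Γ(Z, ⊤))) = q := by
    have h : CommRingCat.ofHom (algebraMap k Γ(Z, ⊤)) = (Scheme.ΓSpecIso (CommRingCat.of k)).inv ≫ q.appTop := rfl
    rw [h, Spec.map_comp, ← Category.assoc, Scheme.isoSpec_hom_naturality, Category.assoc, Scheme.isoSpec_Spec_hom,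
      ← Spec.map_comp, Iso.inv_hom_id, Spec.map_id, Category.comp_id]
  haveI : IsFinite (Spec.map (CommRingCat.ofHom (algebraMap k Γ(Z, ⊤)))) := by
    rw [← MorphismProperty.cancel_left_of_respectsIso @IsFinite Z.isoSpec.hom, e]
    infer_instance
  haveI : Module.Finite k Γ(Z, ⊤) := by
    rw [← RingHom.finite_algebraMap]
    exact (IsFinite.SpecMap_iff _).1 ‹_›
  haveI : Flat (Spec.map (CommRingCat.ofHom (algebraMap k Γ(Z, ⊤)))) :=
    Flat.SpecMap_iff.2 (RingHom.flat_algebraMap_iff.2 inferInstance)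
  have h2 : q.finrank y = (Spec.map (CommRingCat.ofHom (algebraMap k Γ(Z, ⊤)))).finrank y := by
    have h3 := Scheme.Hom.finrank_comp_left_of_isIso Z.isoSpec.hom
      (Spec.map (CommRingCat.ofHom (algebraMap k Γ(Z, ⊤))))
    exact (congrArg (fun r : Z ⟶ Spec (CommRingCat.of k) => r.finrank y) e.symm).trans (congrFun h3 y)
  rw [h2, Scheme.Hom.finrank_SpecMap_algebraMap]
  rw [Module.rankAtStalk_eq_finrank_of_free]
  rfl

variable {C S : Scheme.{u}} (p : C ⟶ S) [IsProper p] [SmoothOfRelativeDimension 1 p] [GeometricallyConnected p]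

omit [IsProper p] [GeometricallyConnected p] in
/-- Zero schemes are locally principal. -/
theorem isLocPrincipal_zeroScheme {E : C.Modules} (hE : PicF.IsInvertible E) (s : Coh.structureModule C ⟶ E) :
    Curv2.IsLocPrincipal (PicF2.zeroScheme E s) := fun x _ => by
  obtain ⟨U₁, g, hx₁, hg⟩ := TMul.exists_isGen hE x
  obtain ⟨U, hU, hxU, hUle⟩ := exists_isAffineOpen_mem_and_subset (x := x) (U := U₁) hx₁
  replace hUle : U ≤ U₁ := hUle
  obtain ⟨c, hc⟩ := ((hg.res hUle) U le_rfl).2 (TMul.val s U)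
  simp only [res_self] at hc
  exact ⟨⟨U, hU⟩, hxU, c, ZeroSch.ideal_zeroScheme_eq_span s hE ⟨U, hU⟩ (hg.res hUle) hc.symm⟩

omit [IsProper p] [GeometricallyConnected p] in
/-- On an integral scheme a section generating somewhere has an effective zero scheme. -/
theorem isEffCartier_of_genLocus {X : Scheme.{u}} [IsIntegral X] {E : X.Modules} (hE : PicF.IsInvertible E)
    (s : Coh.structureModule X ⟶ E) (hs : (CohB1.genLocus E s : Set X).Nonempty) :
    BlowUp.IsEffCartierIdeal (PicF2.zeroScheme E s) := fun x => by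
  obtain ⟨U₁, g, hx₁, hg⟩ := TMul.exists_isGen hE x
  obtain ⟨U, hU, hxU, hUle⟩ := exists_isAffineOpen_mem_and_subset (x := x) (U := U₁) hx₁
  replace hUle : U ≤ U₁ := hUle
  obtain ⟨c, hc⟩ := ((hg.res hUle) U le_rfl).2 (TMul.val s U)
  simp only [res_self] at hc
  haveI : Nonempty ↥U := ⟨⟨x, hxU⟩⟩
  haveI : IsDomain Γ(X, U) := @IsIntegral.component_integral _ _ U ⟨⟨x, hxU⟩⟩
  refine ⟨⟨U, hU⟩, hxU, c, ?_, ZeroSch.ideal_zeroScheme_eq_span s hE ⟨U, hU⟩ (hg.res hUle) hc.symm⟩
  refine mem_nonZeroDivisors_of_ne_zero fun h0 => ?_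
  obtain ⟨z, hzU, hzs⟩ := nonempty_preirreducible_inter U.2 (CohB1.genLocus E s).2 ⟨x, hxU⟩ hs
  have hu := (TMul.mem_genLocus_iff_isUnit s (hg.res hUle) hc.symm hzU).1 hzs
  rw [h0, map_zero] at hu
  exact not_isUnit_zero hu

variable (g : ℕ) (hdim : ∀ z : S, topologicalKrullDim ↥(p.fiber z) = 1)
  (hO : ∀ z : S, PerfAux.betti p (Coh.structureModule C) z 0 = 1 ∧ PerfAux.betti p (Coh.structureModule C) z 1 = g)

include hdim in
/-- The fibres are integral. -/
theorem isIntegral_fiber (z : S) : IsIntegral (p.fiber z) := by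
  letI : (p.fiber z).Over (Spec (CommRingCat.of ↥(S.residueField z))) := ⟨p.fiberToSpecResidueField z⟩
  haveI : IsProper (p.fiber z ↘ Spec (CommRingCat.of ↥(S.residueField z))) :=
    (MorphismProperty.pullback_snd _ _ ‹IsProper p› : IsProper (pullback.snd p (S.fromSpecResidueField z)))
  haveI : Smooth p := SmoothOfRelativeDimension.smooth 1 p
  haveI : Smooth (p.fiber z ↘ Spec (CommRingCat.of ↥(S.residueField z))) :=
    (MorphismProperty.pullback_snd _ _ ‹Smooth p› : Smooth (pullback.snd p (S.fromSpecResidueField z)))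
  haveI : GeometricallyConnected (p.fiber z ↘ Spec (CommRingCat.of ↥(S.residueField z))) :=
    (MorphismProperty.pullback_snd _ _ ‹GeometricallyConnected p› :
      GeometricallyConnected (pullback.snd p (S.fromSpecResidueField z)))
  exact W7Slope.isIntegral_of_geomConn (k := ↥(S.residueField z)) (hdim z)

include hdim hO in
/-- The divisor of a section vanishing on no fibre. -/
theorem exists_relDiv {E : C.Modules} (hE : PicF.IsInvertible E) (s : Coh.structureModule C ⟶ E)
    (hne : ∀ z : S, ∃ y, p y = z ∧ y ∈ CohB1.genLocus E s) (hgood : ∀ z : S, Good p E z) :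
    Mor2.IsFinLocFreeOfDeg g ((PicF2.zeroScheme E s).subschemeι ≫ p) ∧
      ClSub.IsInverseOf E (ClSub.idealMod (PicF2.zeroScheme E s)) := by
  haveI : Smooth p := SmoothOfRelativeDimension.smooth 1 p
  let I := PicF2.zeroScheme E s
  have hfib : ∀ z : S, BlowUp.IsEffCartierIdeal (I.comap (p.fiberι z)) := fun z => by
    haveI := isIntegral_fiber p hdim z
    rw [← AbelMap.zeroScheme_pullSec (p.fiberι z) hE s]
    refine isEffCartier_of_genLocus (PicLoc.isInvertible_pullback _ hE) _ ?_
    obtain ⟨y, hy, hys⟩ := hne z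
    obtain ⟨y', rfl⟩ : y ∈ Set.range (p.fiberι z) := by rw [Scheme.Hom.range_fiberι]; exact hy
    refine ⟨y', ?_⟩
    have h := TMul.genLocus_pullback (p.fiberι z) hE s (PicLoc.pullbackStructureIso (p.fiberι z)).symm
    change y' ∈ CohB1.genLocus _
      ((PicLoc.pullbackStructureIso (p.fiberι z)).symm.hom ≫ (Scheme.Modules.pullback (p.fiberι z)).map s)
    rw [h]
    exact hys
  obtain ⟨hI, hflat⟩ := Groth.Agent.S8848.result p I (isLocPrincipal_zeroScheme hE s) hfib
  obtain ⟨hqf, -, hlfp⟩ := (Groth.Agent.S1184.result p I).1.1 ⟨hI, hflat⟩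
  haveI := hflat
  haveI := hqf
  haveI := hlfp
  haveI : IsFinite (I.subschemeι ≫ p) := IsFinite.of_isProper_of_locallyQuasiFinite _
  refine ⟨⟨⟨inferInstance, hflat, hlfp⟩, fun z => ?_⟩, isInverseOf_of_effCartier hE s hI⟩
  -- the degree on the fibre
  let κ := S.residueField z
  let X := p.fiber z
  let ι := p.fiberι z
  letI : X.Over (Spec (CommRingCat.of ↥κ)) := ⟨p.fiberToSpecResidueField z⟩
  haveI : IsProper (X ↘ Spec (CommRingCat.of ↥κ)) :=
    (MorphismProperty.pullback_snd _ _ ‹IsProper p› : IsProper (pullback.snd p (S.fromSpecResidueField z)))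
  haveI := CurveRR.isNoetherian_of_proper (↥κ) X
  let J := I.comap ι
  have hJ : BlowUp.IsEffCartierIdeal J := hfib z
  let L := (Scheme.Modules.pullback ι).obj E
  have hL : PicF.IsInvertible L := PicLoc.isInvertible_pullback _ hE
  have hLJ : ClSub.IsInverseOf L (ClSub.idealMod J) := by
    have h : J = PicF2.zeroScheme L (AbelMap.pullSec ι s) := (AbelMap.zeroScheme_pullSec ι hE s).symm
    rw [h] at hJ ⊢
    exact isInverseOf_of_effCartier hL _ hJ
  obtain ⟨hfin, hdeg⟩ := Groth.Agent.S1604.result ↥κ X (hdim z).le J hJ L hL hLJ 1 (Coh.structureModule X)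
    (CurveRR.isFinLocFreeOfRank_one (TMul.isInvertible_structureModule (X := X)))
  have hL0 : CurveRR.h ↥κ L 0 = 1 := (hgood z).1
  have hL1 : CurveRR.h ↥κ L 1 = 0 := (hgood z).2
  have hO0 : CurveRR.h ↥κ (Coh.structureModule X) 0 = 1 :=
    (CurveRR.h_eq_of_iso (PicLoc.pullbackStructureIso ι).symm 0).trans (hO z).1
  have hO1 : CurveRR.h ↥κ (Coh.structureModule X) 1 = g :=
    (CurveRR.h_eq_of_iso (PicLoc.pullbackStructureIso ι).symm 1).trans (hO z).2
  have hq : CurveRR.h ↥κ (ClSub.quotMod J) 0 = g := by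
    rw [Curv2.deg, Curv2.deg, CurveRR.euler_eq_of_iso (TMul.leftUnitIso L), CurveRR.euler_eq (hdim z).le L,
      CurveRR.euler_eq (hdim z).le (Coh.structureModule X), hL0, hL1, hO0, hO1] at hdeg
    change Module.finrank ↥κ (Coh.HH X (ClSub.quotMod J) 0) = g
    push_cast at hdeg
    omega
  rw [DualGeneric.Sub.h0_quotMod_eq ↥κ J] at hq
  have sq := HilbSum.isPullback_comap p I (S.fromSpecResidueField z)
  let y : Spec (CommRingCat.of ↥κ) := IsLocalRing.closedPoint κ
  have hy : S.fromSpecResidueField z y = z := Scheme.fromSpecResidueField_apply _ _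
  have h1 : (J.subschemeι ≫ (X ↘ Spec (CommRingCat.of ↥κ))).finrank y = (I.subschemeι ≫ p).finrank z :=
    (Scheme.Hom.finrank_of_isPullback _ _ _ _ sq y).trans (congrArg _ hy)
  haveI : IsFinite (J.subschemeι ≫ (X ↘ Spec (CommRingCat.of ↥κ))) := hfin
  haveI : Flat (J.subschemeι ≫ (X ↘ Spec (CommRingCat.of ↥κ))) := MorphismProperty.of_isPullback sq hflat
  rw [← h1, finrank_eq_dim]
  exact hq

end Groth.Agent.PicCurve
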