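import Groth.Agent.PicCurve.AlbCoarse

/-!
Normalised classes on a curve times a pointed connected scheme, and maps to the Jacobian.
-/

set_option autoImplicit false
set_option backward.isDefEq.respectTransparency false
set_option backward.isDefEq.respectTransparency.types false
set_option linter.style.haveILetI false
set_option linter.unusedSectionVars false
set_option maxHeartbeats 1000000

universe u

open CategoryTheory CategoryTheory.Limits AlgebraicGeometry TopologicalSpace Opposite MonoidalCategory CartesianMonoidalCategory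
open PicF
open scoped MonObj
open Groth.Agent.W7Cube (pull pull_pull pull_cls)

attribute [local instance] Groth.Agent.W7Cube.law

noncomputable section

namespace Groth.Agent.PicCurve

theorem isTrivialCl_iff {Y : Scheme.{u}} (c : PicLoc.PicSet Y) : PicF.IsTrivialCl c.1 ↔ c = 1 :=
  ⟨fun h => Subtype.ext h, fun h => congrArg Subtype.val h⟩

variable {k : Type u} [Field k] {X : Scheme.{u}} (f : X ⟶ Spec (CommRingCat.of k)) [IsProper f]
  [SmoothOfRelativeDimension 1 f] [GeometricallyConnected f] [GeometricallyIrreducible f] [Smooth f] [IsIntegral X]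
  (hd : topologicalKrullDim X = 1) (σ : Spec (CommRingCat.of k) ⟶ X) (hσ : σ ≫ f = 𝟙 _)

include hd in
/-- A class trivial at one point of a connected base has degree zero everywhere. -/
theorem zero_of_pointed (T : Over (Spec (CommRingCat.of k))) [PreconnectedSpace ↥T.left]
    (e : 𝟙_ (Over (Spec (CommRingCat.of k))) ⟶ T) (c : PicLoc.PicSet (XT f T)) (hc : pull (XTmap f e) c = 1) :
    Zero f T c := fun t => by
  have hdim : ∀ z, topologicalKrullDim ↥(f.fiber z) = 1 := fun z => (dim_fiber_spec f z).trans hd
  rw [(isLocallyConstant_degC f T c).apply_eq_of_preconnectedSpace t (e.left (IsLocalRing.closedPoint k)),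
    ← degC_pull f e, hc]
  exact degC_one f hdim _ _

include hd in
/-- A normalised universal family with classifying map the identity has the universal class. -/
theorem univ_class_eq (J : Over (Spec (CommRingCat.of k))) (ψ : (ModFun.PicDeg f 0).Hom ⊤ J)
    (ξJ : PicLoc.PicSet (XT f J))
    (hψ : ∀ (T : Over (Spec (CommRingCat.of k))) (x : (XT f T).Modules) (hx : (ModFun.PicDeg f 0).ok T x)
        (hxi : PicF.IsInvertible x) (v : T ⟶ J),
        ψ.app T x trivial hx = v ↔ pull (XTmap f v) ξJ = rigify f σ hσ T (PicGrp.cls x hxi))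
    (Pu : (XT f J).Modules) (hPu : (ModFun.PicDeg f 0).ok J Pu) (hi : PicF.IsInvertible Pu)
    (hPn : Jac.IsNormAlong f σ hσ J Pu) (hid : ψ.app J Pu trivial hPu = 𝟙 J) :
    ξJ = PicGrp.cls Pu hi := by
  have h := (hψ J Pu hPu hi (𝟙 J)).1 hid
  rwa [XTmap_id, pull_id, rigify_of_mem f σ hσ ((isTrivialCl_iff (pull (secT f σ hσ J) (PicGrp.cls Pu hi))).1 hPn)] at h

end Groth.Agent.PicCurve
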