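import Groth.Agent.PicCurve.EffSum

/-!
An effective class with one section and no `H¹` determines its points.
-/

set_option autoImplicit false
set_option backward.isDefEq.respectTransparency false
set_option backward.isDefEq.respectTransparency.types false
set_option linter.style.haveILetI false
set_option linter.unusedSectionVars false
set_option maxHeartbeats 1000000

universe u

open CategoryTheory CategoryTheory.Limits AlgebraicGeometry TopologicalSpace
open PicF
open Groth.Agent.W7Cube (pull pull_pull pull_cls)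

attribute [local instance] Groth.Agent.W7Cube.law

noncomputable section

namespace Groth.Agent.PicCurve

variable (k : Type u) [Field k] [IsAlgClosed k] {X : Scheme.{u}} [X.Over (Spec (CommRingCat.of k))]
  [IsProper (X ↘ Spec (CommRingCat.of k))] [Smooth (X ↘ Spec (CommRingCat.of k))]
  [GeometricallyConnected (X ↘ Spec (CommRingCat.of k))] (hdim : topologicalKrullDim X = 1)

local notation "fX" => (X ↘ Spec (CommRingCat.of k))

/-- Membership in the support of a sum of graphs. -/
theorem mem_support_prod_secGraph [SmoothOfRelativeDimension 1 fX] (T : Over (Spec (CommRingCat.of k)))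
    (p : XT fX T) : ∀ {n : ℕ} (x : Fin n → {x : T.left ⟶ X // x ≫ fX = T.hom}),
    p ∈ (∏ i, HilbD.secGraph fX T (x i).1 (x i).2).support ↔
      ∃ i, p ∈ Set.range (HilbOne.sect fX T (x i).1 (x i).2)
  | 0, x => by
    rw [Finset.prod_of_isEmpty]
    refine ⟨fun h => ?_, fun ⟨i, _⟩ => i.elim0⟩
    rw [show (1 : (XT fX T).IdealSheafData) = ⊤ from rfl, Scheme.IdealSheafData.support_top] at h
    exact absurd h id
  | n + 1, x => by
    rw [Fin.prod_univ_succ, Scheme.IdealSheafData.support_mul, Fin.exists_fin_succ,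
      ← mem_support_prod_secGraph T p fun i => x i.succ]
    refine Iff.trans (Set.mem_union _ _ _) (or_congr ?_ Iff.rfl)
    rw [HilbOne.secGraph_eq]
    show p ∈ ((HilbOne.sect fX T (x 0).1 (x 0).2).ker.support : Set (XT fX T)) ↔ _
    rw [Scheme.Hom.support_ker, (HilbOne.sect fX T (x 0).1 (x 0).2).isClosedEmbedding.isClosed_range.closure_eq]

include hdim in
/-- The points of an effective class with one section and no `H¹` are determined. -/
theorem exists_eq_of_prod_eq {g : ℕ} (hg : Curv2.genus k X = g) {n : ℕ}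
    (τ τ' : Fin (n + 1) → {τ : Spec (CommRingCat.of k) ⟶ X // τ ≫ fX = 𝟙 _})
    (h : ∏ i, delta k (τ i) hdim = ∏ i, delta k (τ' i) hdim)
    (h0 : hC k (∏ i, delta k (τ i) hdim) 0 = 1) (h1 : hC k (∏ i, delta k (τ i) hdim) 1 = 0) (i : Fin (n + 1)) :
    ∃ j, τ' i = τ j := by
  haveI := CurveRR.isNoetherian_of_proper k X
  haveI := ClosedRep.GeomIntegral.geometricallyIntegral_of_smooth fX
  haveI : IsIntegral X := GeometricallyIntegral.isIntegral_of_subsingleton fX
  haveI := AlgEquivCurve.smoothOfRelativeDimension_one fX hdim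
  let T : Over (Spec (CommRingCat.of k)) := onePt k
  haveI : IsAffine T.left := inferInstanceAs (IsAffine (Spec (CommRingCat.of k)))
  let x : (Fin (n + 1) → {τ : Spec (CommRingCat.of k) ⟶ X // τ ≫ fX = 𝟙 _}) →
      Fin (n + 1) → {x : T.left ⟶ X // x ≫ fX = T.hom} := fun τ i =>
    ⟨T.hom ≫ (τ i).1, by rw [Category.assoc, (τ i).2, Category.comp_id]⟩
  let D : (Fin (n + 1) → {τ : Spec (CommRingCat.of k) ⟶ X // τ ≫ fX = 𝟙 _}) → HilbD.Obj fX (n + 1) T := fun τ =>
    ⟨∏ i, HilbD.secGraph fX T (x τ i).1 (x τ i).2, HilbSum.prod_secGraph_mem fX T _ (x τ)⟩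
  have hD : ∀ τ, divCl (D τ).1 (effCartier_obj fX T (D τ)) = pull (pullback.fst fX T.hom) (∏ i, delta k (τ i) hdim) :=
    fun τ => by
    rw [divCl_prod _ (fun i => effCartier_obj fX T (d := 1)
      ⟨_, HilbOne.secGraph_mem fX T (x τ i).1 (x τ i).2⟩), map_prod]
    refine Finset.prod_congr rfl fun i _ => ?_
    rw [← pull_toPt_ptCl k hdim (τ i) (x τ i).2, pull_fst_toPt]
    rfl
  have hgood : ∀ t, GoodC fX T (divCl (D τ).1 (effCartier_obj fX T (D τ))) t := fun t => by
    obtain ⟨L, hL, hLc⟩ := PicGrp.exists_eq_cls (∏ i, delta k (τ i) hdim)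
    haveI : Smooth (XTproj fX T) := SmoothOfRelativeDimension.smooth 1 _
    rw [hLc, hC_cls] at h0 h1
    rw [hD, hLc, pull_cls, goodC_cls, good_pull fX (IsPullback.of_hasPullback fX T.hom) hL t]
    exact ⟨(AbelMap.betti_field (TMul.isQCoh_of_isInvertible hL) _ 0).trans h0,
      (AbelMap.betti_field (TMul.isQCoh_of_isInvertible hL) _ 1).trans h1⟩
  have hdimf : ∀ z : Spec (CommRingCat.of k), topologicalKrullDim ↥(Scheme.Hom.fiber fX z) = 1 := fun z =>
    (dim_fiber_spec fX z).trans hdim
  have he : (D τ).1 = (D τ').1 := obj_eq fX hdimf T (D τ) (D τ') (by rw [hD, hD, h]) hgood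
  let t : T.left := IsLocalRing.closedPoint k
  have hmem : HilbOne.sect fX T (x τ' i).1 (x τ' i).2 t ∈ (D τ).1.support := by
    rw [he]
    exact (mem_support_prod_secGraph k T _ (x τ')).2 ⟨i, t, rfl⟩
  obtain ⟨j, t', ht'⟩ := (mem_support_prod_secGraph k T _ (x τ)).1 hmem
  refine ⟨j, Subtype.ext (ext_of_apply_closedPoint_eq fX (τ' i).2 (τ j).2 ?_)⟩
  haveI : Subsingleton ↥(Spec (CommRingCat.of k)) := inferInstanceAs (Subsingleton (PrimeSpectrum k))
  have e := congrArg (fun p => pullback.fst fX T.hom p) ht'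
  simp only [← Scheme.Hom.comp_apply, HilbOne.sect_fst, x] at e
  rw [show T.hom ≫ (τ j).1 = (τ j).1 from Category.id_comp _, show T.hom ≫ (τ' i).1 = (τ' i).1 from Category.id_comp _,
    Subsingleton.elim (α := ↥(Spec (CommRingCat.of k))) t' t] at e
  exact e.symm

end Groth.Agent.PicCurve
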