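import Groth.Agent.PicFam.Basic
import Groth.Agent.PicFam.Separated
import Groth.Agent.AbelMap.GenSec
import Groth.Agent.AbelMap.Section
import Groth.Agent.AbelMap.Degree
import Groth.Agent.DualGeneric.NegDeg
import Groth.Agent.CohQC.QuasiAffine
import Groth.Agent.Rigid.Smooth
import Groth.Agent.CohFinite.AmpleFinite
import Groth.Agent.S1025

/-!
Invertible modules with one section and no `H¹` on the fibres of a family of curves: the locus is open and,
near each of its points, there is a section that vanishes on no fibre.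
-/

set_option autoImplicit false
set_option backward.isDefEq.respectTransparency false
set_option backward.isDefEq.respectTransparency.types false
set_option linter.style.haveILetI false
set_option maxHeartbeats 2000000

universe u

open CategoryTheory CategoryTheory.Limits AlgebraicGeometry TopologicalSpace Opposite
open Groth.Agent.QC (res resO res_res res_self res_smul app_res)
open TMul (IsGen)

noncomputable section

namespace Groth.Agent.PicCurve

variable {C S : Scheme.{u}} (p : C ⟶ S)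

/-- One section and no first cohomology on the fibre over `t`. -/
def Good (L : C.Modules) (t : S) : Prop := PerfAux.betti p L t 0 = 1 ∧ PerfAux.betti p L t 1 = 0

theorem good_iso {L M : C.Modules} (e : L ≅ M) (t : S) : Good p L t ↔ Good p M t := by
  unfold Good
  rw [PicSmooth.betti_iso p e t 0, PicSmooth.betti_iso p e t 1]

variable [IsProper p] [Smooth p]

/-- Being good commutes with base change. -/
theorem good_pull {C' S' : Scheme.{u}} {g : S' ⟶ S} {g' : C' ⟶ C} {p' : C' ⟶ S'} (h : IsPullback g' p' p g)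
    {L : C.Modules} (hL : PicF.IsInvertible L) (t : S') :
    Good p' ((Scheme.Modules.pullback g').obj L) t ↔ Good p L (g t) := by
  unfold Good
  rw [PicSmooth.betti_of_isPullback h L (TMul.isQCoh_of_isInvertible hL) t 0,
    PicSmooth.betti_of_isPullback h L (TMul.isQCoh_of_isInvertible hL) t 1]

/-- Vanishing of the first Betti number is vanishing of the cohomology. -/
theorem subsingleton_fiberH {L : C.Modules} (hL : PicF.IsInvertible L) (t : S) (h : PerfAux.betti p L t 1 = 0) :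
    Subsingleton (CohIII.fiberH p L t 1) := by
  letI : (p.fiber t).Over (Spec (CommRingCat.of ↥(S.residueField t))) := ⟨p.fiberToSpecResidueField t⟩
  haveI : IsProper (p.fiber t ↘ Spec (CommRingCat.of ↥(S.residueField t))) :=
    inferInstanceAs (IsProper (pullback.snd p _))
  haveI := CurveRR.isNoetherian_of_proper (↥(S.residueField t)) (p.fiber t)
  have hcoh : Coh.IsCoh ((Scheme.Modules.pullback (p.fiberι t)).obj L) :=
    ⟨TMul.isQCoh_of_isInvertible (PicLoc.isInvertible_pullback _ hL),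
      TMul.isFT_of_isInvertible (PicLoc.isInvertible_pullback _ hL)⟩
  haveI : Module.Finite ↥(S.residueField t) (Coh.HH (p.fiber t) ((Scheme.Modules.pullback (p.fiberι t)).obj L) 1) :=
    CohFinite.finite_proper _ _ _ hcoh 1
  exact (Module.finrank_eq_zero_iff_of_free _ _).1 h

omit [IsProper p] [Smooth p] in
/-- A fibre with one section carries a nonzero one. -/
theorem exists_ne_zero (L : C.Modules) (t : S) (h : PerfAux.betti p L t 0 = 1) :
    ∃ v : Γ((Scheme.Modules.pullback (p.fiberι t)).obj L, ⊤), v ≠ 0 := by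
  letI : (p.fiber t).Over (Spec (CommRingCat.of ↥(S.residueField t))) := ⟨p.fiberToSpecResidueField t⟩
  obtain ⟨e, -⟩ := CohFinite.exists_zero_equiv (↥(S.residueField t)) ((Scheme.Modules.pullback (p.fiberι t)).obj L)
  by_contra! hall
  haveI : Subsingleton (Coh.HH (p.fiber t) ((Scheme.Modules.pullback (p.fiberι t)).obj L) 0) :=
    ⟨fun a b => e.injective ((hall (e a)).trans (hall (e b)).symm)⟩
  have h0 : PerfAux.betti p L t 0 = 0 := Module.finrank_zero_of_subsingleton
  omega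

/-- Sections of a fibre come from nearby sections, up to a unit. -/
theorem exists_section_near (L : C.Modules) (hL : PicF.IsInvertible L) (t : S) (h1 : PerfAux.betti p L t 1 = 0)
    (v : Γ((Scheme.Modules.pullback (p.fiberι t)).obj L, ⊤)) :
    ∃ (U : S.Opens) (h : (⊤ : (p.fiber t).Opens) ≤ p.fiberι t ⁻¹ᵁ (p ⁻¹ᵁ U)) (g : Γ(L, p ⁻¹ᵁ U))
      (a : Γ(p.fiber t, ⊤)), t ∈ U ∧ IsUnit a ∧
      ModDesc.pullSectLE (p.fiberι t) L (p ⁻¹ᵁ U) ⊤ h g = a • v := by
  have hF := W7Hull.isFP_of_isInvertible hL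
  have hfl := W7Hull.isFlatOver_of_isInvertible p hL
  have hq := FibDepth.isQCoh_of_isFP hF
  obtain ⟨W, hyW, hW⟩ := PicFam.exists_nhd_epi_of_vanish p L hL t (subsingleton_fiberH p hL t h1)
  obtain ⟨U, hU, hyU, hUW⟩ := exists_isAffineOpen_mem_and_subset (x := t) (U := W) hyW
  obtain ⟨m⟩ := W7Cech.nonempty_ModelNN p hq hF hfl hU
  have he : (CohIII.TFun m.L 0).PreservesEpimorphisms := hW U hU hUW m
  let g := S.fromSpecResidueField t
  let f' := p.fiberToSpecResidueField t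
  let ι := p.fiberι t
  have sq : IsPullback ι f' p g := IsPullback.of_hasPullback p g
  have hVU : (⊤ : (Spec (S.residueField t)).Opens) ≤ g ⁻¹ᵁ U := fun z _ => by
    change g z ∈ U
    rw [Scheme.fromSpecResidueField_apply]
    exact hyU
  have hbc := W7Cech.isBC_bc0Adj p hq hfl hU m he sq (isAffineOpen_top _) hVU
  let θ := CohBC.bc0Adj p g f' ι sq.w L
  let r := RelTilde.resθ g θ hVU
  have hle : (⊤ : (p.fiber t).Opens) ≤ ι ⁻¹ᵁ (p ⁻¹ᵁ U) := fun z _ => by
    change p (ι z) ∈ U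
    rw [← Scheme.Hom.comp_apply, sq.w, Scheme.Hom.comp_apply]
    exact hVU (show f' z ∈ (⊤ : (Spec (S.residueField t)).Opens) from trivial)
  let K := (Scheme.Modules.pushforward f').obj ((Scheme.Modules.pullback ι).obj L)
  let Sp : Submodule Γ(Spec (S.residueField t), ⊤) Γ(K, ⊤) := Submodule.span _ (Set.range r)
  have hS : Sp = ⊤ := by
    obtain ⟨φ, -, huniq⟩ := hbc (Γ(K, ⊤) ⧸ Sp) 0
    have h2 := huniq Sp.mkQ fun s => (Submodule.Quotient.mk_eq_zero Sp).2 (Submodule.subset_span ⟨s, rfl⟩)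
    have h3 := huniq 0 fun s => rfl
    exact eq_top_iff.2 fun x _ => (Submodule.Quotient.mk_eq_zero Sp).1 (LinearMap.congr_fun (h2.trans h3.symm) x)
  let β := (g.appLE U ⊤ hVU).hom
  let q := Scheme.ΓSpecIso (S.residueField t)
  have hq' : ∀ a, q.hom.hom (β a) = (S.evaluation U t hyU).hom a := fun a =>
    congr(($(W7Cech.appLE_fromSpecResidueField hU t hyU hVU)).hom a)
  have hqb : Function.Bijective q.hom.hom := ConcreteCategory.bijective_of_isIso q.hom
  have key : ∀ x ∈ Sp, ∃ a, (S.evaluation U t hyU).hom a ≠ 0 ∧ ∃ s, β a • x = r s := by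
    intro x hx
    induction hx using Submodule.span_induction with
    | mem x hx =>
      obtain ⟨s, rfl⟩ := hx
      exact ⟨1, by rw [map_one]; exact one_ne_zero, s, by rw [map_one, one_smul]⟩
    | zero => exact ⟨1, by rw [map_one]; exact one_ne_zero, 0, by rw [smul_zero, map_zero]⟩
    | add x z _ _ hx hz =>
      obtain ⟨a, ha, s, hs⟩ := hx
      obtain ⟨b, hb, w, hw⟩ := hz
      refine ⟨a * b, by rw [map_mul]; exact mul_ne_zero ha hb, b • s + a • w, ?_⟩
      rw [map_add, map_smulₛₗ, map_smulₛₗ, ← hs, ← hw, smul_smul, smul_smul, map_mul, mul_comm (β b), smul_add]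
    | smul c x _ hx =>
      obtain ⟨a, ha, s, hs⟩ := hx
      obtain ⟨b, d, hb, hd⟩ := W7Hull.exists_fraction hU t hyU (q.hom.hom c)
      refine ⟨a * b, by rw [map_mul]; exact mul_ne_zero ha hb, d • s, ?_⟩
      have hcb : c * β b = β d := hqb.1 (by rw [map_mul, hq', hq', hd])
      rw [map_smulₛₗ, ← hs, smul_smul, smul_smul, ← hcb, map_mul]
      congr 1
      ring
  obtain ⟨a, ha, s, hs⟩ := key (show Γ(K, ⊤) from v) (hS ▸ Submodule.mem_top)
  have hu : IsUnit (β a) := by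
    refine (isUnit_map_iff (RingEquiv.ofBijective q.hom.hom hqb) _).1 ?_
    exact IsUnit.mk0 _ (by rw [show RingEquiv.ofBijective q.hom.hom hqb (β a) = q.hom.hom (β a) from rfl, hq']; exact ha)
  refine ⟨U, hle, (show Γ(L, p ⁻¹ᵁ U) from s), (f'.app ⊤).hom (β a), hyU, hu.map (f'.app ⊤).hom, ?_⟩
  refine Eq.trans ?_ hs.symm
  exact (res_res _ _ _ _).symm

/-- Near a good point: a section that vanishes on no fibre. -/
theorem exists_nhd_section (L : C.Modules) (hL : PicF.IsInvertible L) (t : S) (ht : Good p L t) :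
    ∃ W : S.Opens, t ∈ W ∧ IsAffineOpen W ∧
      ∃ s : Coh.structureModule (p ⁻¹ᵁ W).toScheme ⟶ (Scheme.Modules.pullback (p ⁻¹ᵁ W).ι).obj L,
        ∀ z : ↥W, ∃ y, (p ∣_ W) y = z ∧ y ∈ CohB1.genLocus _ s := by
  obtain ⟨v, hv⟩ := exists_ne_zero p L t ht.1
  obtain ⟨U, hle, g, a, htU, ha, hg⟩ := exists_section_near p L hL t ht.2 v
  let O : C.Opens := sSup {V : C.Opens | ∃ h : V ≤ p ⁻¹ᵁ U, IsGen (res L h g)}
  have hO : ∃ z : C, p z = t ∧ z ∈ O := by
    haveI : GeometricallyReduced p := Rigid.geometricallyReduced_of_smooth p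
    haveI : IsReduced (p.fiber t) := inferInstance
    by_contra! hcon
    refine hv ?_
    have h0 : ModDesc.pullSectLE (p.fiberι t) L (p ⁻¹ᵁ U) ⊤ hle g = 0 := by
      refine QC.section_eq_of_locally fun x _ => ?_
      obtain ⟨A, e, hxA, he⟩ := TMul.exists_isGen hL (p.fiberι t x)
      let V := A ⊓ p ⁻¹ᵁ U
      have hxV : p.fiberι t x ∈ V := ⟨hxA, hle (show x ∈ (⊤ : (p.fiber t).Opens) from trivial)⟩
      have heV : IsGen (res L (inf_le_left : V ≤ A) e) := he.res inf_le_left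
      obtain ⟨c, hc⟩ := (heV V le_rfl).2 (res L (inf_le_right : V ≤ p ⁻¹ᵁ U) g)
      change c • res L le_rfl (res L (inf_le_left : V ≤ A) e) = _ at hc
      rw [QC.res_self] at hc
      let c' := ((p.fiberι t).appLE V (p.fiberι t ⁻¹ᵁ V) le_rfl).hom c
      have hc0 : c' = 0 := by
        refine (basicOpen_eq_bot_iff c').1 (le_bot_iff.1 fun w hw => ?_)
        have hwV : p.fiberι t w ∈ V := (p.fiber t).basicOpen_le c' hw
        have hwc : p.fiberι t w ∈ C.basicOpen c := by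
          have h := hw
          rw [show c' = ((p.fiberι t).app V).hom c from congr(($((p.fiberι t).app_eq_appLE)).hom c).symm,
            ← Scheme.preimage_basicOpen] at h
          exact h
        have hmem : p (p.fiberι t w) = t := by
          have h : p.fiberι t w ∈ Set.range (p.fiberι t) := ⟨w, rfl⟩
          rwa [Scheme.Hom.range_fiberι] at h
        refine (hcon _ hmem (Opens.mem_sSup.2 ⟨C.basicOpen c, ⟨(C.basicOpen_le c).trans inf_le_right, ?_⟩, hwc⟩)).elim
        rw [show res L ((C.basicOpen_le c).trans inf_le_right) g =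
          (C.presheaf.map (homOfLE (C.basicOpen_le c)).op).hom c •
            res L (C.basicOpen_le c) (res L inf_le_left e) by
          rw [← res_smul, hc, res_res]]
        exact W7Hull.isGen_smul (heV.res _) (RingedSpace.isUnit_res_basicOpen _ c)
      refine ⟨p.fiberι t ⁻¹ᵁ V, le_top, hxV, ?_⟩
      rw [ModDesc.res_pullSectLE _ L (inf_le_right : V ≤ p ⁻¹ᵁ U) (le_top : p.fiberι t ⁻¹ᵁ V ≤ ⊤) hle le_rfl,
        ← hc, ModDesc.pullSectLE_smul, map_zero]
      exact (congrArg (· • _) hc0).trans (zero_smul _ _)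
    rw [hg] at h0
    exact ha.smul_eq_zero.1 h0
  obtain ⟨z, hzt, hzO⟩ := hO
  have hOU : O ≤ p ⁻¹ᵁ U := sSup_le fun V ⟨h, _⟩ => h
  let W₀ : S.Opens := ⟨p '' (↑O : Set C), p.isOpenMap _ O.2⟩
  obtain ⟨W, hW, htW, hWW₀⟩ := exists_isAffineOpen_mem_and_subset (x := t) (U := W₀ ⊓ U) ⟨⟨z, hzO, hzt⟩, htU⟩
  let C' := (p ⁻¹ᵁ W).toScheme
  let ι := (p ⁻¹ᵁ W).ι
  have hWU : (⊤ : C'.Opens) ≤ ι ⁻¹ᵁ (p ⁻¹ᵁ U) := fun y _ => (hWW₀ y.2).2
  refine ⟨W, htW, hW, CohQC.secHom (ModDesc.pullSectLE ι L (p ⁻¹ᵁ U) ⊤ hWU g), fun w => ?_⟩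
  obtain ⟨y, hy, hyw⟩ := (hWW₀ w.2).1
  have hyW : y ∈ p ⁻¹ᵁ W := by
    change p y ∈ W
    rw [hyw]
    exact w.2
  refine ⟨⟨y, hyW⟩, Subtype.ext ((morphismRestrict_base_coe p W ⟨y, hyW⟩).trans hyw), ?_⟩
  obtain ⟨V, ⟨hVU, hVg⟩, hyV⟩ := Opens.mem_sSup.1 hy
  refine (TMul.mem_genLocus_iff _).2 ⟨ι ⁻¹ᵁ V, hyV, ?_⟩
  have e : TMul.val (CohQC.secHom (ModDesc.pullSectLE ι L (p ⁻¹ᵁ U) ⊤ hWU g)) (ι ⁻¹ᵁ V) =
      ProjMor.eta ι L V (res L hVU g) := by
    refine (CohQC.secHom_app_one _ _).trans ?_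
    rw [ModDesc.res_pullSectLE ι L hVU (le_top : ι ⁻¹ᵁ V ≤ ⊤) hWU le_rfl, ModDesc.pullSectLE_apply]
    exact res_self _ _ _
  rw [e]
  exact C1Cap.isGen_eta ι hVg

/-- The good locus is open. -/
theorem isOpen_good (L : C.Modules) (hL : PicF.IsInvertible L) : IsOpen {t : S | Good p L t} := by
  have hF := W7Hull.isFP_of_isInvertible hL
  have hfl := W7Hull.isFlatOver_of_isInvertible p hL
  refine isOpen_iff_forall_mem_open.2 fun t ht => ?_
  obtain ⟨W, htW, hW, s, hs⟩ := exists_nhd_section p L hL t ht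
  let U₁ : Set S := {z | PerfAux.betti p L z 0 < 2} ∩ {z | PerfAux.betti p L z 1 < 1}
  have hU₁ : IsOpen U₁ := (Groth.Agent.S1025.result p L hF hfl 0 2).inter (Groth.Agent.S1025.result p L hF hfl 1 1)
  refine ⟨U₁ ∩ W, fun z hz => ⟨?_, Nat.lt_one_iff.1 hz.1.2⟩, hU₁.inter W.2,
    ⟨⟨show PerfAux.betti p L t 0 < 2 by rw [ht.1]; omega, show PerfAux.betti p L t 1 < 1 by rw [ht.2]; omega⟩, htW⟩⟩
  obtain ⟨hz₁, hzW⟩ := hz
  let W' : S.Opens := W ⊓ ⟨U₁, hU₁⟩
  let q := p ∣_ W'
  haveI : IsProper q := IsZariskiLocalAtTarget.restrict (P := @IsProper) ‹_› W'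
  haveI : Smooth q := IsZariskiLocalAtTarget.restrict (P := @Smooth) ‹_› W'
  have sq : IsPullback (p ⁻¹ᵁ W').ι q p W'.ι := (isPullback_morphismRestrict p W').flip
  let E := (Scheme.Modules.pullback (p ⁻¹ᵁ W').ι).obj L
  have hE : PicF.IsInvertible E := PicLoc.isInvertible_pullback _ hL
  let j := C.homOfLE (show p ⁻¹ᵁ W' ≤ p ⁻¹ᵁ W from p.preimage_mono inf_le_left)
  let i : (Scheme.Modules.pullback j).obj ((Scheme.Modules.pullback (p ⁻¹ᵁ W).ι).obj L) ≅ E :=
    (Scheme.Modules.pullbackComp j (p ⁻¹ᵁ W).ι).app L ≪≫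
      (Scheme.Modules.pullbackCongr (C.homOfLE_ι _)).app L
  let s' : Coh.structureModule _ ⟶ E := AbelMap.pullSec j s ≫ i.hom
  have hne : ∀ w : ↥W', ∃ y, q y = w ∧ y ∈ CohB1.genLocus E s' := fun w => by
    obtain ⟨y, hy, hys⟩ := hs ⟨w.1, w.2.1⟩
    have hy' : p y.1 = w.1 := (morphismRestrict_base_coe p W y).symm.trans (congrArg Subtype.val hy)
    have hyW' : y.1 ∈ p ⁻¹ᵁ W' := by
      change p y.1 ∈ W'
      rw [hy']
      exact w.2
    refine ⟨⟨y.1, hyW'⟩, Subtype.ext ((morphismRestrict_base_coe p W' ⟨y.1, hyW'⟩).trans hy'), ?_⟩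
    rw [show CohB1.genLocus E s' = CohB1.genLocus _ (AbelMap.pullSec j s) from TMul.genLocus_comp _ i.hom]
    have h := TMul.genLocus_pullback j (PicLoc.isInvertible_pullback _ hL) s (PicLoc.pullbackStructureIso j).symm
    change (⟨y.1, hyW'⟩ : ↥(p ⁻¹ᵁ W')) ∈ CohB1.genLocus _
      ((PicLoc.pullbackStructureIso j).symm.hom ≫ (Scheme.Modules.pullback j).map s)
    rw [h]
    change j ⟨y.1, hyW'⟩ ∈ CohB1.genLocus _ s
    rwa [show j ⟨y.1, hyW'⟩ = y from Subtype.ext (C.homOfLE_apply _ _)]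
  have hr : ∀ w : ↥W', CohIII.fiberRank q E 0 w ≤ 1 := fun w => by
    rw [PicFam.fiberRank_eq_betti, PicSmooth.betti_of_isPullback sq L (TMul.isQCoh_of_isInvertible hL) w 0]
    exact Nat.lt_succ_iff.1 w.2.2.1
  have h1 := (AbelMap.spanAt_and_fiberRank q hE s' hne hr ⟨z, hzW, hz₁⟩ ⊤ trivial fun _ _ => trivial).2.1
  rw [PicFam.fiberRank_eq_betti, PicSmooth.betti_of_isPullback sq L (TMul.isQCoh_of_isInvertible hL) _ 0] at h1
  exact h1

end Groth.Agent.PicCurve
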