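import Groth.Agent.PicCurve.SymSets
import Groth.Agent.QuotProj.Model

/-!
An effective class with one section determines its points; a curve of genus at least two is not moved by a nonzero
translation of its classes.
-/

set_option autoImplicit false
set_option backward.isDefEq.respectTransparency false
set_option backward.isDefEq.respectTransparency.types false
set_option linter.style.haveILetI false
set_option linter.unusedSectionVars false
set_option maxHeartbeats 1000000

universe u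

open CategoryTheory CategoryTheory.Limits AlgebraicGeometry TopologicalSpace
open PicF
open Groth.Agent.W7Cube (pull pull_pull pull_cls)

attribute [local instance] Groth.Agent.W7Cube.law

noncomputable section

namespace Groth.Agent.PicCurve

variable (k : Type u) [Field k] [IsAlgClosed k] {X : Scheme.{u}} [X.Over (Spec (CommRingCat.of k))]
  [IsProper (X ↘ Spec (CommRingCat.of k))] [Smooth (X ↘ Spec (CommRingCat.of k))]
  [GeometricallyConnected (X ↘ Spec (CommRingCat.of k))] [IsIntegral X] (hdim : topologicalKrullDim X = 1)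

local notation "fX" => (X ↘ Spec (CommRingCat.of k))

/-- A nonempty open of the curve has a rational point avoiding finitely many given ones. -/
theorem exists_point_avoid (hdim : topologicalKrullDim X = 1) (U : X.Opens) (hU : (U : Set X).Nonempty) {n : ℕ}
    (F : Fin n → {τ : Spec (CommRingCat.of k) ⟶ X // τ ≫ fX = 𝟙 _}) :
    ∃ τ : {τ : Spec (CommRingCat.of k) ⟶ X // τ ≫ fX = 𝟙 _}, (∀ p, τ.1 p ∈ U) ∧ ∀ i, τ ≠ F i := by
  haveI : JacobsonSpace X := LocallyOfFiniteType.jacobsonSpace fX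
  let S : Set X := ⋃ i, {(pointEquivClosedPoint (K := k) fX (F i)).1}
  have hS : IsClosed S := isClosed_iUnion_of_finite fun i => (pointEquivClosedPoint (K := k) fX (F i)).2
  have hgen : genericPoint X ∉ S := fun h => by
    obtain ⟨i, hi⟩ := Set.mem_iUnion.1 h
    have hc : IsClosed ({genericPoint X} : Set X) := by
      rw [Set.mem_singleton_iff.1 hi]; exact (pointEquivClosedPoint (K := k) fX (F i)).2
    haveI : Subsingleton X := ⟨fun a b => by
      have h' : ∀ c : X, c = genericPoint X := fun c =>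
        hc.closure_subset ((genericPoint_spec X).specializes (Set.mem_univ c)).mem_closure
      rw [h' a, h' b]⟩
    have h0 := topologicalKrullDim_zero_of_discreteTopology X
    rw [hdim] at h0
    exact not_le.2 zero_lt_one h0
  have hne : ((U : Set X) ∩ Sᶜ).Nonempty :=
    ⟨genericPoint X, (genericPoint_spec X).mem_open_set_iff U.2 |>.2 (by simpa using hU), hgen⟩
  obtain ⟨z, hz, hzc⟩ := nonempty_inter_closedPoints hne (U.2.inter hS.isOpen_compl).isLocallyClosed
  refine ⟨(pointEquivClosedPoint (K := k) fX).symm ⟨z, hzc⟩, fun p => ?_, fun i h => hz.2 (Set.mem_iUnion.2 ⟨i, ?_⟩)⟩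
  · show pointOfClosedPoint fX z hzc p ∈ U
    rw [pointOfClosedPoint_apply]
    exact hz.1
  · rw [← h, Equiv.apply_symm_apply]
    rfl

include hdim

/-- Adding a general point lowers `h¹` by one. -/
theorem exists_open_hC_one (c : PicLoc.PicSet X) (hc : 1 ≤ hC k c 1) :
    ∃ U : X.Opens, (U : Set X).Nonempty ∧ ∀ τ : {τ : Spec (CommRingCat.of k) ⟶ X // τ ≫ fX = 𝟙 _},
      (∀ p, τ.1 p ∈ U) → hC k (c * delta k τ hdim) 1 + 1 = hC k c 1 := by
  obtain ⟨L, hL, rfl⟩ := PicGrp.exists_eq_cls c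
  rw [hC_cls] at hc
  obtain ⟨U, hU, hdrop⟩ := exists_open_h1_twist k hdim hL hc
  refine ⟨U, hU, fun τ hτ => ?_⟩
  obtain ⟨M, hM, hMc⟩ := PicGrp.exists_eq_cls (PicGrp.cls L hL * delta k τ hdim)
  have hI := isInvertible_point k hdim τ
  have hMI : Nonempty (CohB1.tensorMod M (ClSub.idealMod τ.1.ker) ≅ L) :=
    (PicGrp.cls_eq_cls_iff (TMul.isInvertible_tensorMod hM hI) hL).1 (by
      rw [show PicGrp.cls _ (TMul.isInvertible_tensorMod hM hI) = PicGrp.cls M hM * PicGrp.cls _ hI from rfl,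
        ← hMc, delta_inv k hdim τ hI, mul_inv_cancel_right])
  rw [hMc, hC_cls, hC_cls, (hdrop τ.1 τ.2 M hM hMI).1 hτ]
  omega

/-- The class of one point has one section. -/
theorem hC_delta {g : ℕ} (hg : Curv2.genus k X = g) (hg1 : 1 ≤ g)
    (τ : {τ : Spec (CommRingCat.of k) ⟶ X // τ ≫ fX = 𝟙 _}) : hC k (delta k τ hdim) 0 = 1 := by
  have h1 : 1 ≤ hC k (delta k τ hdim) 0 :=
    (hC_one_zero k (X := X)).symm.le.trans ((hC_le_mul_delta k hdim 1 τ).trans_eq (by rw [one_mul]))
  by_contra hne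
  have hall : ∀ ρ : {τ : Spec (CommRingCat.of k) ⟶ X // τ ≫ fX = 𝟙 _}, delta k ρ hdim = delta k τ hdim := fun ρ => by
    have h := hC_le_succ k hdim (delta k τ hdim) ρ
    obtain ⟨τ0, hτ0⟩ := exists_points_of_hC k hdim (r := 0) (delta k τ hdim * (delta k ρ hdim)⁻¹) (by
      rw [degP_mul k hdim, degP_inv' k hdim, degP_delta k hdim, degP_delta k hdim]; simp) (by omega)
    rw [Fin.prod_univ_zero, mul_inv_eq_one] at hτ0
    exact hτ0.symm
  have hb1 := hC_sub k hdim hg (1 : PicLoc.PicSet X)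
  rw [degP_one' k hdim, hC_one_zero] at hb1
  obtain ⟨U, hU, hdrop⟩ := exists_open_hC_one k hdim 1 (by omega)
  obtain ⟨ρ, hρ, -⟩ := exists_point_avoid k hdim U hU (Fin.elim0)
  have h2 := hdrop ρ hρ
  rw [one_mul, hall] at h2
  have h3 := hC_sub k hdim hg (delta k τ hdim)
  rw [degP_delta k hdim] at h3
  omega

/-- Adding general points, avoiding given ones, to a class with one section. -/
theorem exists_points_one {g : ℕ} (hg : Curv2.genus k X = g) (c : PicLoc.PicSet X) (h0 : hC k c 0 = 1) {n : ℕ}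
    (F : Fin n → {τ : Spec (CommRingCat.of k) ⟶ X // τ ≫ fX = 𝟙 _}) :
    ∀ s : ℕ, degP k c + s ≤ g → ∃ ρ : Fin s → {τ : Spec (CommRingCat.of k) ⟶ X // τ ≫ fX = 𝟙 _},
      hC k (c * ∏ i, delta k (ρ i) hdim) 0 = 1 ∧ ∀ i l, ρ i ≠ F l
  | 0, _ => ⟨Fin.elim0, by rw [Fin.prod_univ_zero, mul_one]; exact h0, fun i => i.elim0⟩
  | s + 1, hs => by
    obtain ⟨ρ, hρ, hav⟩ := exists_points_one hg c h0 F s (by omega)
    have hd : degP k (c * ∏ i, delta k (ρ i) hdim) = degP k c + s := by
      rw [degP_mul k hdim, degP_prod_delta k hdim]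
    have h1 := hC_sub k hdim hg (c * ∏ i, delta k (ρ i) hdim)
    rw [hd, hρ] at h1
    obtain ⟨U, hU, hdrop⟩ := exists_open_hC_one k hdim _ (by omega : 1 ≤ hC k (c * ∏ i, delta k (ρ i) hdim) 1)
    obtain ⟨t, ht, htF⟩ := exists_point_avoid k hdim U hU F
    refine ⟨Fin.snoc ρ t, ?_, fun i => Fin.lastCases (by simpa using htF) (fun i => by simpa using hav i) i⟩
    rw [Fin.prod_univ_castSucc]
    simp only [Fin.snoc_castSucc, Fin.snoc_last]
    rw [← mul_assoc]
    have h2 := hdrop t ht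
    have h3 := hC_sub k hdim hg (c * (∏ i, delta k (ρ i) hdim) * delta k t hdim)
    rw [degP_mul k hdim, degP_delta k hdim, hd] at h3
    omega

/-- The points of an effective class with one section are determined. -/
theorem exists_eq_of_hC_eq_one {g : ℕ} (hg : Curv2.genus k X = g) {n : ℕ} (hn : n + 1 ≤ g)
    (τ τ' : Fin (n + 1) → {τ : Spec (CommRingCat.of k) ⟶ X // τ ≫ fX = 𝟙 _})
    (h : ∏ i, delta k (τ i) hdim = ∏ i, delta k (τ' i) hdim)
    (h0 : hC k (∏ i, delta k (τ i) hdim) 0 = 1) (i : Fin (n + 1)) : ∃ l, τ' i = τ l := by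
  obtain ⟨s, rfl⟩ := Nat.exists_eq_add_of_le hn
  obtain ⟨ρ, hρ, hav⟩ := exists_points_one k hdim hg _ h0 τ' s (by rw [degP_prod_delta k hdim]; push_cast; omega)
  have hp : ∀ φ : Fin (n + 1) → {τ : Spec (CommRingCat.of k) ⟶ X // τ ≫ fX = 𝟙 _},
      ∏ i : Fin (s + (n + 1)), delta k (Fin.append ρ φ i) hdim =
        (∏ i, delta k (φ i) hdim) * ∏ i, delta k (ρ i) hdim := fun φ => by
    rw [mul_comm]
    rw [Fin.prod_univ_add]
    simp only [Fin.append_left, Fin.append_right]
  have hsub := hC_sub k hdim hg ((∏ i, delta k (τ i) hdim) * ∏ i, delta k (ρ i) hdim)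
  rw [degP_mul k hdim, degP_prod_delta k hdim, degP_prod_delta k hdim, hρ] at hsub
  let a : Fin (s + n + 1) → {τ : Spec (CommRingCat.of k) ⟶ X // τ ≫ fX = 𝟙 _} := Fin.append (m := s) (n := n + 1) ρ τ
  let b : Fin (s + n + 1) → {τ : Spec (CommRingCat.of k) ⟶ X // τ ≫ fX = 𝟙 _} := Fin.append (m := s) (n := n + 1) ρ τ'
  have ha : ∏ i, delta k (a i) hdim = (∏ i, delta k (τ i) hdim) * ∏ i, delta k (ρ i) hdim := hp τ
  obtain ⟨l, hl⟩ : ∃ l : Fin (s + (n + 1)),
      (Fin.append ρ τ') (Fin.natAdd s i) = Fin.append ρ τ l :=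
    exists_eq_of_prod_eq k hdim hg (n := s + n) a b
      (ha.trans ((congrArg (· * _) h).trans (hp τ').symm)) (by rw [ha, hρ])
      (by rw [ha]; push_cast at hsub; omega) (Fin.natAdd s i)
  rw [Fin.append_right] at hl
  induction l using Fin.addCases with
  | left l => rw [Fin.append_left] at hl; exact absurd hl.symm (hav l i)
  | right l => exact ⟨l, hl.trans (Fin.append_right _ _ _)⟩

/-- Points with the same class are equal, in positive genus. -/
theorem delta_injective {g : ℕ} (hg : Curv2.genus k X = g) (hg1 : 1 ≤ g)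
    (τ τ' : {τ : Spec (CommRingCat.of k) ⟶ X // τ ≫ fX = 𝟙 _}) (h : delta k τ hdim = delta k τ' hdim) : τ = τ' := by
  obtain ⟨-, hl⟩ := exists_eq_of_hC_eq_one k hdim hg (n := 0) (by omega) (fun _ => τ) (fun _ => τ') (by simpa using h)
    (by rw [Fin.prod_univ_one]; exact hC_delta k hdim hg hg1 τ) 0
  exact hl.symm

/-- No nonzero class translates the points of a curve of genus at least two to points. -/
theorem eq_one_of_translate {g : ℕ} (hg : Curv2.genus k X = g) (hg2 : 2 ≤ g) (K : PicLoc.PicSet X)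
    (hK : ∀ Q : {τ : Spec (CommRingCat.of k) ⟶ X // τ ≫ fX = 𝟙 _},
      ∃ Q' : {τ : Spec (CommRingCat.of k) ⟶ X // τ ≫ fX = 𝟙 _}, delta k Q hdim = delta k Q' hdim * K) : K = 1 := by
  by_contra hne
  obtain ⟨R, -, -⟩ := exists_point_avoid k hdim ⊤ ⟨genericPoint X, trivial⟩ Fin.elim0
  obtain ⟨R', hR⟩ := hK R
  have hsub := hC_sub k hdim hg (delta k R' hdim)
  rw [degP_delta k hdim, hC_delta k hdim hg (by omega)] at hsub
  obtain ⟨U, hU, hdrop⟩ := exists_open_hC_one k hdim (delta k R' hdim) (by omega)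
  obtain ⟨Q, hQ, hQR⟩ := exists_point_avoid k hdim U hU fun _ : Fin 1 => R
  obtain ⟨Q', hQ'⟩ := hK Q
  have h1 := hdrop Q hQ
  have hsub2 := hC_sub k hdim hg (delta k R' hdim * delta k Q hdim)
  rw [degP_mul k hdim, degP_delta k hdim, degP_delta k hdim] at hsub2
  have h0 : hC k (delta k R' hdim * delta k Q hdim) 0 = 1 := by omega
  obtain ⟨l, hl⟩ := exists_eq_of_hC_eq_one k hdim hg (n := 1) (by omega) ![Q', R] ![R', Q] (by
      simp only [Fin.prod_univ_succ, Fin.prod_univ_zero, Matrix.cons_val_zero, Matrix.cons_val_succ, Fin.succ_zero_eq_one, Matrix.cons_val_one, _root_.mul_one]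
      rw [hR, hQ']
      apply Additive.ofMul.injective; simp only [ofMul_mul]; module)
    (by
      simp only [Fin.prod_univ_succ, Fin.prod_univ_zero, Matrix.cons_val_zero, Matrix.cons_val_succ, Fin.succ_zero_eq_one, Matrix.cons_val_one, _root_.mul_one]
      refine (congrArg (fun e => hC k e 0) ?_).trans h0
      rw [hR, hQ']
      apply Additive.ofMul.injective; simp only [ofMul_mul]; module) 1
  fin_cases l <;> simp only [Fin.mk_one, Fin.zero_eta, Matrix.cons_val_zero, Matrix.cons_val_one] at hl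
  · subst hl
    exact hne (left_eq_mul.1 hQ')
  · exact hQR 0 hl

/-- Points of a curve pairing to a constant class: the class is a double point pencil. -/
theorem two_le_hC_of_pairing {g : ℕ} (hg : Curv2.genus k X = g) (hg2 : 2 ≤ g) (H : PicLoc.PicSet X)
    (hH : ∀ Q : {τ : Spec (CommRingCat.of k) ⟶ X // τ ≫ fX = 𝟙 _},
      ∃ Q' : {τ : Spec (CommRingCat.of k) ⟶ X // τ ≫ fX = 𝟙 _}, delta k Q hdim * delta k Q' hdim = H) :
    degP k H = 2 ∧ 2 ≤ hC k H 0 := by
  obtain ⟨A, -, -⟩ := exists_point_avoid k hdim ⊤ ⟨genericPoint X, trivial⟩ Fin.elim0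
  obtain ⟨B, hAB⟩ := hH A
  refine ⟨by rw [← hAB, degP_mul k hdim, degP_delta k hdim, degP_delta k hdim]; rfl, ?_⟩
  by_contra hlt
  have h1 : 1 ≤ hC k H 0 := by
    have h := one_le_hC_prod k hdim ![A, B]
    simpa only [Fin.prod_univ_two, Matrix.cons_val_zero, Matrix.cons_val_one, hAB] using h
  obtain ⟨Q, -, hQ⟩ := exists_point_avoid k hdim ⊤ ⟨genericPoint X, trivial⟩ ![A, B]
  obtain ⟨Q', hQ'⟩ := hH Q
  obtain ⟨l, hl⟩ := exists_eq_of_hC_eq_one k hdim hg (n := 1) (by omega) ![A, B] ![Q, Q']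
    (by simp only [Fin.prod_univ_succ, Fin.prod_univ_zero, Matrix.cons_val_zero, Matrix.cons_val_succ, Fin.succ_zero_eq_one, Matrix.cons_val_one, _root_.mul_one, hAB, hQ'])
    (by simp only [Fin.prod_univ_succ, Fin.prod_univ_zero, Matrix.cons_val_zero, Matrix.cons_val_succ, Fin.succ_zero_eq_one, Matrix.cons_val_one, _root_.mul_one, hAB]; omega) 0
  exact hQ l hl

omit hdim

/-- Cohomology along an isomorphism over the field. -/
theorem finrank_hh_pullback_iso {K : Type u} [Field K] {Z W : Scheme.{u}} [Z.Over (Spec (CommRingCat.of K))]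
    [W.Over (Spec (CommRingCat.of K))] [CompactSpace W] [W.IsSeparated] (e : Z ≅ W)
    (he : e.hom ≫ (W ↘ Spec (CommRingCat.of K)) = Z ↘ Spec (CommRingCat.of K)) (M : W.Modules)
    (hM : Coh.IsQCoh M) (i : ℕ) :
    Module.finrank K (Coh.HH Z ((Scheme.Modules.pullback e.hom).obj M) i) = Module.finrank K (Coh.HH W M i) := by
  obtain ⟨ι, hι, V, hV, hcov⟩ := W7Cech.exists_cover W
  haveI := hι
  have hid : Spec.map (CommRingCat.ofHom (algebraMap K K)) = 𝟙 (Spec (CommRingCat.of K)) := by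
    rw [show CommRingCat.ofHom (algebraMap K K) = 𝟙 (CommRingCat.of K) from rfl, Spec.map_id]
  haveI : IsIso (Spec.map (CommRingCat.ofHom (algebraMap K K))) := by rw [hid]; infer_instance
  have sq : IsPullback e.hom (Z ↘ Spec (CommRingCat.of K)) (W ↘ Spec (CommRingCat.of K))
      (Spec.map (CommRingCat.ofHom (algebraMap K K))) :=
    IsPullback.of_horiz_isIso ⟨by rw [hid, Category.comp_id]; exact he⟩
  obtain ⟨l⟩ := W7Cech.nonempty_hh_flat_bc K K V hV hcov e.hom sq M hM i
  rw [l.finrank_eq, Module.finrank_baseChange]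

end Groth.Agent.PicCurve
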