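import Groth.Agent.CurveRR.SmoothPt
import Mathlib.AlgebraicGeometry.AlgClosed.Basic
import Mathlib.FieldTheory.IsAlgClosed.AlgebraicClosure

/-!
A curve has any finite number of distinct points over a suitable finite extension of its field.
-/

set_option autoImplicit false
set_option backward.isDefEq.respectTransparency false
set_option backward.isDefEq.respectTransparency.types false
set_option linter.style.haveILetI false

universe u

open CategoryTheory CategoryTheory.Limits AlgebraicGeometry TopologicalSpace

noncomputable section

namespace Groth.Agent.PicCurve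

variable {k : Type u} [Field k] {X : Scheme.{u}} (f : X ⟶ Spec (CommRingCat.of k)) [LocallyOfFiniteType f]
  [IsIntegral X] (hdim : topologicalKrullDim X = 1)

include f hdim in
/-- A curve has infinitely many closed points. -/
theorem infinite_closedPoints : (closedPoints X : Set X).Infinite := fun hfin => by
  haveI : JacobsonSpace X := LocallyOfFiniteType.jacobsonSpace f
  letI : X.Over (Spec (CommRingCat.of k)) := ⟨f⟩
  haveI : LocallyOfFiniteType (X ↘ Spec (CommRingCat.of k)) := ‹_›
  have hc : IsClosed (closedPoints X : Set X) := by
    rw [← Set.biUnion_of_singleton (closedPoints X)]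
    exact hfin.isClosed_biUnion fun x hx => hx
  have h := JacobsonSpace.closure_inter_closedPoints (X := X) (Z := Set.univ) isClosed_univ
  rw [Set.univ_inter, hc.closure_eq] at h
  have hη : IsClosed ({genericPoint X} : Set X) := by
    have : genericPoint X ∈ closedPoints X := by rw [h]; trivial
    exact this
  haveI : Subsingleton X := ⟨fun a b =>
    ((genericPoint_specializes a).mem_closed hη rfl : a = genericPoint X).trans
      ((genericPoint_specializes b).mem_closed hη rfl : b = genericPoint X).symm⟩
  have h3 := topologicalKrullDim_zero_of_discreteTopology X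
  rw [hdim] at h3
  exact absurd h3 (by norm_num)

include f hdim in
/-- Distinct points over a finite extension. -/
theorem exists_points (N : ℕ) : ∃ (k' : Type u) (_ : Field k') (_ : Algebra k k') (_ : Module.Finite k k')
    (τ : Fin N → (Spec (CommRingCat.of k') ⟶ X)), Function.Injective τ ∧
      ∀ i, τ i ≫ f = Spec.map (CommRingCat.ofHom (algebraMap k k')) := by
  obtain ⟨s, hs, hcard⟩ := (infinite_closedPoints f hdim).exists_subset_card_eq N
  let x : Fin N → X := fun i => (s.equivFinOfCardEq hcard).symm i
  have hx : ∀ i, IsClosed ({x i} : Set X) := fun i => hs ((s.equivFinOfCardEq hcard).symm i).2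
  have hxi : Function.Injective x := Subtype.val_injective.comp (Equiv.injective _)
  let φ : ∀ i, CommRingCat.of k ⟶ X.residueField (x i) := fun i => Spec.preimage (X.fromSpecResidueField (x i) ≫ f)
  have hφ : ∀ i, Spec.map (φ i) = X.fromSpecResidueField (x i) ≫ f := fun i => Spec.map_preimage _
  letI : ∀ i, Algebra k (X.residueField (x i)) := fun i => (φ i).hom.toAlgebra
  have hfin : ∀ i, Module.Finite k (X.residueField (x i)) := fun i => by
    haveI : IsFinite (X.fromSpecResidueField (x i) ≫ f) := by
      have h := hx i
      rw [isClosed_singleton_iff_isClosedImmersion] at h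
      rw [isFinite_iff_locallyOfFiniteType_of_jacobsonSpace]
      infer_instance
    rw [← RingHom.finite_algebraMap]
    exact (IsFinite.SpecMap_iff _).1 (by rw [hφ]; infer_instance : IsFinite (Spec.map (φ i)))
  let L := AlgebraicClosure k
  haveI : ∀ i, Algebra.IsAlgebraic k (X.residueField (x i)) := fun i => by
    haveI := hfin i; exact Algebra.IsAlgebraic.of_finite k _
  let ι : ∀ i, X.residueField (x i) →ₐ[k] L := fun i => IsAlgClosed.lift
  let F : IntermediateField k L := ⨆ i, (ι i).fieldRange
  haveI : ∀ i, FiniteDimensional k (ι i).fieldRange := fun i => by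
    haveI := hfin i
    exact Module.Finite.equiv (AlgEquiv.ofInjectiveField (ι i)).toLinearEquiv
  haveI : FiniteDimensional k F := IntermediateField.finiteDimensional_iSup_of_finite
  let j : ∀ i, X.residueField (x i) →ₐ[k] F := fun i =>
    (IntermediateField.inclusion (le_iSup (fun i => (ι i).fieldRange) i)).comp (ι i).rangeRestrict
  refine ⟨F, inferInstance, inferInstance, inferInstance,
    fun i => Spec.map (CommRingCat.ofHom (j i).toRingHom) ≫ X.fromSpecResidueField (x i), fun a b h => hxi ?_, fun i => ?_⟩
  · have := congrArg (fun q => q (IsLocalRing.closedPoint ↥F)) h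
    simp only [Scheme.Hom.comp_apply] at this
    erw [Scheme.fromSpecResidueField_apply, Scheme.fromSpecResidueField_apply] at this
    exact this
  · rw [Category.assoc, ← hφ, ← Spec.map_comp]
    congr 1
    exact CommRingCat.hom_ext (j i).comp_algebraMap

end Groth.Agent.PicCurve
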