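import Groth.Agent.CurveOmega.GeneralDual
import Groth.Agent.PicCurve.Count
import Groth.Agent.W7Cover.GeomConn
import Groth.Agent.SymAlg.InvDual
import Groth.Agent.S18366
import Groth.Agent.PicCurve.Cover

/-!
`h¹` at rational points of a curve, and rational points over separably closed fields.
-/

set_option autoImplicit false
set_option backward.isDefEq.respectTransparency false
set_option backward.isDefEq.respectTransparency.types false
set_option linter.style.haveILetI false
set_option linter.unusedSectionVars false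
set_option maxHeartbeats 1000000

universe u

open CategoryTheory CategoryTheory.Limits AlgebraicGeometry TopologicalSpace
open TMul (homOf)

attribute [local instance] Groth.Agent.W7Cube.law

noncomputable section

namespace Groth.Agent.PicCurve

variable (k : Type u) [Field k] {X : Scheme.{u}} [X.Over (Spec (CommRingCat.of k))]
  [IsProper (X ↘ Spec (CommRingCat.of k))] [Smooth (X ↘ Spec (CommRingCat.of k))]
  [GeometricallyConnected (X ↘ Spec (CommRingCat.of k))] (hdim : topologicalKrullDim X = 1)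

include hdim in
/-- `h¹(L(Q))` drops from `h¹(L)` exactly off the base locus of `Ω ⊗ L⁻¹`. -/
theorem exists_open_h1_twist {L : X.Modules} (hL : PicF.IsInvertible L) (hL1 : 0 < CurveRR.h k L 1) :
    ∃ U : X.Opens, (U : Set X).Nonempty ∧
      ∀ (σ : Spec (CommRingCat.of k) ⟶ X), σ ≫ (X ↘ Spec (CommRingCat.of k)) = 𝟙 _ → ∀ (M : X.Modules),
        PicF.IsInvertible M → Nonempty (CohB1.tensorMod M (ClSub.idealMod σ.ker) ≅ L) →
        ((∀ p, σ p ∈ U) → CurveRR.h k M 1 = CurveRR.h k L 1 - 1) ∧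
        ((∀ p, σ p ∉ U) → CurveRR.h k M 1 = CurveRR.h k L 1) := by
  haveI := CurveRR.isNoetherian_of_proper k X
  haveI := ClosedRep.GeomIntegral.geometricallyIntegral_of_smooth (X ↘ Spec (CommRingCat.of k))
  haveI : IsIntegral X := GeometricallyIntegral.isIntegral_of_subsingleton (X ↘ Spec (CommRingCat.of k))
  have h0 : CurveRR.h k (Coh.structureModule X) 0 = 1 := W7Cover.h0_of_geometricallyConnected
  obtain ⟨Linv, hLinv, ⟨eL⟩⟩ := SymAlg.exists_inverse hL
  let N := CohB1.tensorMod (Omega.sheaf (X ↘ Spec (CommRingCat.of k))) Linv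
  have hN : PicF.IsInvertible N := TMul.isInvertible_tensorMod (CurveOmega.isInvertible_omega k X hdim h0) hLinv
  have hLN : CurveRR.h k L 1 = CurveRR.h k N 0 := CurveOmega.h1_eq' k X hdim h0 hL eL
  refine ⟨⨆ t : Γ(N, ⊤), CohB1.genLocus N (homOf t), ?_, fun σ hσ M hM hML => ?_⟩
  · obtain ⟨t, ht⟩ : ∃ t : Γ(N, ⊤), t ≠ 0 := by
      by_contra! hh
      letI := CurveRR.secMod k N ⊤
      haveI : Subsingleton Γ(N, ⊤) := ⟨fun a b => (hh a).trans (hh b).symm⟩
      exact hL1.ne' (by rw [hLN, ← CurveRR.finrank_sec]; exact Module.finrank_zero_of_subsingleton)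
    exact ⟨genericPoint X, Opens.mem_iSup.2 ⟨t, CurveRR.generic_mem_genLocus hN ht⟩⟩
  · obtain ⟨eM⟩ := hML
    haveI : IsClosedImmersion (σ ≫ (X ↘ Spec (CommRingCat.of k))) := by rw [hσ]; infer_instance
    haveI : IsClosedImmersion σ := IsClosedImmersion.of_comp σ (X ↘ Spec (CommRingCat.of k))
    let Q := σ (IsLocalRing.closedPoint k)
    haveI : Subsingleton ↥(Spec (CommRingCat.of k)) := inferInstanceAs (Subsingleton (PrimeSpectrum k))
    have hsQ : ∀ p, σ p = Q := fun p => congrArg σ (Subsingleton.elim p _)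
    have hQ : IsClosed ({Q} : Set X) := (Set.range_eq_singleton_iff.2 hsQ) ▸ σ.isClosedEmbedding.isClosed_range
    have hker := CurveRR.ker_section (X ↘ Spec (CommRingCat.of k)) _ hσ hQ hsQ
    let I := Scheme.IdealSheafData.vanishingIdeal ⟨{Q}, hQ⟩
    have eI : ClSub.idealMod σ.ker ≅ ClSub.idealMod I := eqToIso (congrArg ClSub.idealMod hker)
    let M' := CohB1.tensorMod (ClSub.idealMod σ.ker) Linv
    have eMM' : CohB1.tensorMod M M' ≅ Coh.structureModule X :=
      (TMul.assocIso M (ClSub.idealMod σ.ker) Linv).symm ≪≫ PicGrp.tensorModIso eM (Iso.refl _) ≪≫ eL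
    have hM1 : CurveRR.h k M 1 = CurveRR.h k (CohB1.tensorMod (ClSub.idealMod I) N) 0 := by
      rw [CurveOmega.h1_eq' k X hdim h0 hM eMM']
      exact CurveRR.h_eq_of_iso ((TMul.assocIso _ _ _).symm ≪≫
        PicGrp.tensorModIso (TMul.commIso _ _ ≪≫ PicGrp.tensorModIso eI (Iso.refl _)) (Iso.refl _) ≪≫
        TMul.assocIso _ _ _) 0
    obtain ⟨h₁, h₂, h₃⟩ : CurveRR.h k (CohB1.tensorMod (ClSub.idealMod I) N) 0 ≤ CurveRR.h k N 0 ∧
        CurveRR.h k N 0 ≤ CurveRR.h k (CohB1.tensorMod (ClSub.idealMod I) N) 0 + 1 ∧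
        (CurveRR.h k (CohB1.tensorMod (ClSub.idealMod I) N) 0 + 1 = CurveRR.h k N 0 ↔
          ∃ t : Γ(N, ⊤), Q ∈ CohB1.genLocus N (homOf t)) := CurveRR.h0_ratPointIdeal (k := k) hQ σ hσ hsQ hN
    refine ⟨fun hU => ?_, fun hU => ?_⟩
    · have := h₃.2 (Opens.mem_iSup.1 (hsQ (IsLocalRing.closedPoint k) ▸ hU _))
      omega
    · have : ¬ (CurveRR.h k (CohB1.tensorMod (ClSub.idealMod I) N) 0 + 1 = CurveRR.h k N 0) := fun he =>
        hU (IsLocalRing.closedPoint k) (Opens.mem_iSup.2 (h₃.1 he))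
      omega

include hdim in
/-- A curve over a separably closed field has arbitrarily many rational points. -/
theorem exists_rat_points [IsSepClosed k] (N : ℕ) :
    ∃ τ : Fin N → (Spec (CommRingCat.of k) ⟶ X), Function.Injective τ ∧
      ∀ i, τ i ≫ (X ↘ Spec (CommRingCat.of k)) = 𝟙 _ := by
  haveI := CurveRR.isNoetherian_of_proper k X
  haveI := ClosedRep.GeomIntegral.geometricallyIntegral_of_smooth (X ↘ Spec (CommRingCat.of k))
  haveI : IsIntegral X := GeometricallyIntegral.isIntegral_of_subsingleton (X ↘ Spec (CommRingCat.of k))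
  induction N with
  | zero => exact ⟨Fin.elim0, fun i => i.elim0, fun i => i.elim0⟩
  | succ n ih =>
    obtain ⟨τ, hinj, hτ⟩ := ih
    haveI : ∀ i, IsClosedImmersion (τ i) := fun i => by
      haveI : IsClosedImmersion (τ i ≫ (X ↘ Spec (CommRingCat.of k))) := by rw [hτ]; infer_instance
      exact IsClosedImmersion.of_comp (τ i) (X ↘ Spec (CommRingCat.of k))
    let O : X.Opens := ⟨(⋃ i, Set.range (τ i))ᶜ,
      (isClosed_iUnion_of_finite fun i => (τ i).isClosedEmbedding.isClosed_range).isOpen_compl⟩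
    have hne : Nonempty O := by
      refine ⟨⟨genericPoint X, ?_⟩⟩
      simp only [O, Opens.mem_mk, Set.mem_compl_iff, Set.mem_iUnion, not_exists]
      rintro i ⟨p, hp⟩
      refine CurveRR.genericPoint_ne_of_closed (k := k) hdim (P := genericPoint X) ?_ rfl
      haveI : Subsingleton ↥(Spec (CommRingCat.of k)) := inferInstanceAs (Subsingleton (PrimeSpectrum k))
      rw [← hp, ← (Set.range_eq_singleton_iff.2 fun q => congrArg (τ i) (Subsingleton.elim q p))]
      exact (τ i).isClosedEmbedding.isClosed_range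
    haveI : Nonempty ↥O.toScheme := hne
    haveI : QuasiCompact O.ι := inferInstance
    haveI : GeometricallyReduced (O.ι ≫ (X ↘ Spec (CommRingCat.of k))) := Rigid.geometricallyReduced_of_smooth _
    obtain ⟨s, hs⟩ := Groth.Agent.S18366.result k (O.ι ≫ (X ↘ Spec (CommRingCat.of k)))
    refine ⟨Fin.snoc τ (s ≫ O.ι), Fin.snoc_injective_iff.2 ⟨hinj, ?_⟩, fun i => ?_⟩
    · rintro ⟨i, hi⟩
      have h := (s (IsLocalRing.closedPoint k)).2
      simp only [O, Opens.mem_mk, Set.mem_compl_iff, Set.mem_iUnion, not_exists] at h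
      exact h i ⟨IsLocalRing.closedPoint k, by rw [hi]; rfl⟩
    · refine Fin.lastCases ?_ (fun j => ?_) i
      · rw [Fin.snoc_last, Category.assoc, hs]
      · rw [Fin.snoc_castSucc, hτ]

/-- Tensoring with one more ideal. -/
theorem nonempty_tensorList_snoc {n : ℕ} (F : Fin n → X.Modules) (A : X.Modules) :
    Nonempty (FGA.tensorList (List.ofFn (Fin.cons A F)) ≅ CohB1.tensorMod A (FGA.tensorList (List.ofFn F))) := by
  rw [List.ofFn_cons]
  exact ⟨Iso.refl _⟩

include hdim in
/-- Over a separably closed field, degree `r > 2g` classes have `r - g` points cutting `h⁰` to one. -/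
theorem exists_points_h0_one [IsSepClosed k] (g : ℕ) (hg : Curv2.genus k X = g) (r : ℕ) (hr : 2 * g < r)
    {L : X.Modules} (hL : PicF.IsInvertible L) (hdeg : Curv2.deg k X L 1 = (r : ℤ)) :
    ∃ σ : Fin (r - g) → (Spec (CommRingCat.of k) ⟶ X), (∀ t, σ t ≫ (X ↘ Spec (CommRingCat.of k)) = 𝟙 _) ∧
      CurveRR.h k (CohB1.tensorMod L (FGA.tensorList (List.ofFn fun t => ClSub.idealMod (σ t).ker))) 0 = 1 := by
  haveI := CurveRR.isNoetherian_of_proper k X
  haveI := ClosedRep.GeomIntegral.geometricallyIntegral_of_smooth (X ↘ Spec (CommRingCat.of k))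
  haveI : IsIntegral X := GeometricallyIntegral.isIntegral_of_subsingleton (X ↘ Spec (CommRingCat.of k))
  haveI := AlgEquivCurve.smoothOfRelativeDimension_one (X ↘ Spec (CommRingCat.of k)) hdim
  have h0 : CurveRR.h k (Coh.structureModule X) 0 = 1 := W7Cover.h0_of_geometricallyConnected
  obtain ⟨τ, hinj, hτ⟩ := exists_rat_points k (X := X) hdim (r + 1)
  have hI : ∀ i, BlowUp.IsEffCartierIdeal (τ i).ker := fun i =>
    effCartier_rat (X ↘ Spec (CommRingCat.of k)) ⟨‹_›, ‹_›, ‹_›, hdim⟩ (τ i) (hτ i)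
  have hh := CurveRR.h0_eq_of_deg (k := k) hdim.le h0 hL (by omega)
  have hv := CurveRR.subsingleton_h1 (k := k) hdim.le h0 hL (by omega)
  have key : ∀ n : ℕ, n ≤ r - g → ∃ σ : Fin n → (Spec (CommRingCat.of k) ⟶ X),
      (∀ t, σ t ≫ (X ↘ Spec (CommRingCat.of k)) = 𝟙 _) ∧ ∃ (M : X.Modules) (hM : PicF.IsInvertible M),
        Nonempty (M ≅ CohB1.tensorMod L (FGA.tensorList (List.ofFn fun t => ClSub.idealMod (σ t).ker))) ∧
        degP k (PicGrp.cls M hM) = (r : ℤ) - n ∧ CurveRR.h k M 0 + n = CurveRR.h k L 0 ∧ CurveRR.h k M 1 = 0 := by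
    intro n
    induction n with
    | zero =>
      refine fun _ => ⟨Fin.elim0, fun t => t.elim0, L, hL, ?_, by rw [degP_cls, hdeg]; simp, rfl,
        CurveRR.h_eq_zero hv⟩
      rw [List.ofFn_zero]
      exact ⟨(TMul.commIso L (Coh.structureModule X) ≪≫ TMul.leftUnitIso L).symm⟩
    | succ n ih =>
      intro hn
      obtain ⟨σ, hσ, M, hM, ⟨e⟩, hd, h0', h1⟩ := ih (by omega)
      obtain ⟨i, M', hM', hc', h1', h0''⟩ := exists_step_points k hdim τ hτ hI hinj _ hM rfl (by omega) h1 (by omega)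
      have hd' : degP k (PicGrp.cls M' hM') = (r : ℤ) - (n + 1 : ℕ) := by
        rw [← hc', degP_mul k hdim, degP_inv k hdim, degP_point k hdim τ hτ hI, hd]
        push_cast
        ring
      refine ⟨Fin.cons (τ i) σ, Fin.cases (hτ i) hσ, M', hM', ?_, hd', by omega, h1'⟩
      have hIi := (Groth.Agent.S8914.result _).2 (hI i)
      have hc'' : PicGrp.cls M hM * PicGrp.cls (ClSub.idealMod (τ i).ker) hIi = PicGrp.cls M' hM' :=
        (congrArg (PicGrp.cls M hM * ·) (inv_inv (PicGrp.cls (ClSub.idealMod (τ i).ker) hIi))).symm.trans hc'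
      obtain ⟨a⟩ := (PicGrp.cls_eq_cls_iff hM' (TMul.isInvertible_tensorMod hM hIi)).1 hc''.symm
      have hcons : (fun t => ClSub.idealMod ((Fin.cons (τ i) σ : Fin (n + 1) → _) t).ker) =
          Fin.cons (ClSub.idealMod (τ i).ker) (fun t => ClSub.idealMod (σ t).ker) :=
        funext (Fin.cases rfl fun _ => rfl)
      obtain ⟨b⟩ := nonempty_tensorList_snoc (fun t => ClSub.idealMod (σ t).ker) (ClSub.idealMod (τ i).ker)
      rw [hcons]
      exact ⟨a ≪≫ PicGrp.tensorModIso e (Iso.refl _) ≪≫ TMul.assocIso _ _ _ ≪≫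
        PicGrp.tensorModIso (Iso.refl L) (TMul.commIso _ _ ≪≫ b.symm)⟩
  obtain ⟨σ, hσ, M, hM, ⟨e⟩, -, h0', -⟩ := key (r - g) le_rfl
  refine ⟨σ, hσ, ?_⟩
  rw [← CurveRR.h_eq_of_iso e 0]
  omega

end Groth.Agent.PicCurve
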