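import Groth.Agent.PicCurve.AlbCoarse
import Groth.Agent.PicCurve.EffUnique
import Groth.Agent.Chev.CentCover

/-!
Rational points of the Jacobian of a curve over an algebraically closed field as classes, and the images of the powers
of the curve.
-/

set_option autoImplicit false
set_option backward.isDefEq.respectTransparency false
set_option backward.isDefEq.respectTransparency.types false
set_option linter.style.haveILetI false
set_option linter.unusedSectionVars false
set_option maxHeartbeats 1000000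

universe u

open CategoryTheory CategoryTheory.Limits AlgebraicGeometry TopologicalSpace MonoidalCategory CartesianMonoidalCategory
open PicF
open scoped MonObj
open Groth.Agent.W7Cube (pull pull_pull pull_cls)
open Groth.Agent.SubGen (rpt exists_rpt rpt_mem_closedPoints map_rpt)

attribute [local instance] Groth.Agent.W7Cube.law

noncomputable section

namespace Groth.Agent.PicCurve

variable {k : Type u} [Field k] [IsAlgClosed k] {C : Scheme.{u}} [C.Over (Spec (CommRingCat.of k))]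
  [IsProper (C ↘ Spec (CommRingCat.of k))] [Smooth (C ↘ Spec (CommRingCat.of k))]
  [GeometricallyConnected (C ↘ Spec (CommRingCat.of k))] [GeometricallyIrreducible (C ↘ Spec (CommRingCat.of k))]
  [SmoothOfRelativeDimension 1 (C ↘ Spec (CommRingCat.of k))] [IsIntegral C]

/-- The class data of a Jacobian with its Abel map. -/
structure JacData (σ : {τ : Spec (CommRingCat.of k) ⟶ C // τ ≫ (C ↘ Spec (CommRingCat.of k)) = 𝟙 _}) (J : Over (Spec (CommRingCat.of k)))
    [GrpObj J] (j : Over.mk (C ↘ Spec (CommRingCat.of k)) ⟶ J) where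
  ξ : PicLoc.PicSet (XT (C ↘ Spec (CommRingCat.of k)) J)
  proper : IsProper J.hom
  mem : pull (secT (C ↘ Spec (CommRingCat.of k)) σ.1 σ.2 J) ξ = 1
  zero : Zero (C ↘ Spec (CommRingCat.of k)) J ξ
  classifies : Classifies (C ↘ Spec (CommRingCat.of k)) σ.1 σ.2 (Zero (C ↘ Spec (CommRingCat.of k))) J ξ
  mul : ∀ (T : Over (Spec (CommRingCat.of k))) (p q : T ⟶ J),
    pull (XTmap (C ↘ Spec (CommRingCat.of k)) (lift p q ≫ μ[J])) ξ = pull (XTmap (C ↘ Spec (CommRingCat.of k)) p) ξ * pull (XTmap (C ↘ Spec (CommRingCat.of k)) q) ξ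
  abel : pull (XTmap (C ↘ Spec (CommRingCat.of k)) j) ξ = abelCl (C ↘ Spec (CommRingCat.of k)) σ.1 σ.2 (Over.mk (C ↘ Spec (CommRingCat.of k))) (𝟙 C) (Category.id_comp (C ↘ Spec (CommRingCat.of k)))

variable {σ : {τ : Spec (CommRingCat.of k) ⟶ C // τ ≫ (C ↘ Spec (CommRingCat.of k)) = 𝟙 _}} {J : Over (Spec (CommRingCat.of k))} [GrpObj J]
  {j : Over.mk (C ↘ Spec (CommRingCat.of k)) ⟶ J} (hd : topologicalKrullDim C = 1) (D : JacData σ J j)

/-- The class of a rational point of the Jacobian. -/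
def JacData.cl : ((𝟙_ (Over (Spec (CommRingCat.of k)))) ⟶ J) →* PicLoc.PicSet C :=
  MonoidHom.mk' (fun x => pull (toPt k) (clsHom (C ↘ Spec (CommRingCat.of k)) D.mul (𝟙_ (Over (Spec (CommRingCat.of k)))) x)) fun x y => by rw [map_mul, map_mul]

theorem JacData.cl_apply (x : (𝟙_ (Over (Spec (CommRingCat.of k)))) ⟶ J) : D.cl x = pull (toPt k) (pull (XTmap (C ↘ Spec (CommRingCat.of k)) x) D.ξ) := rfl

include hd

theorem JacData.deg_cl (x : (𝟙_ (Over (Spec (CommRingCat.of k)))) ⟶ J) : degP k (D.cl x) = 0 := by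
  rw [D.cl_apply, ← degC_toPt k hd _ (IsLocalRing.closedPoint k : (onePt k).left)]
  exact (degC_pull (C ↘ Spec (CommRingCat.of k)) x D.ξ _).trans (D.zero _)

theorem JacData.cl_injective : Function.Injective D.cl := fun x y h => by
  have hdim : ∀ z : Spec (CommRingCat.of k), topologicalKrullDim ↥(Scheme.Hom.fiber (C ↘ Spec (CommRingCat.of k)) z) = 1 :=
    fun z => (dim_fiber_spec (C ↘ Spec (CommRingCat.of k)) z).trans hd
  obtain ⟨u, -, hu⟩ := D.classifies (onePt k) (pull (XTmap (C ↘ Spec (CommRingCat.of k)) x) D.ξ) (pull_secT x D.mem)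
    (fun t => (degC_pull (C ↘ Spec (CommRingCat.of k)) x D.ξ t).trans (D.zero _))
  refine (hu _ rfl).trans (hu _ ?_).symm
  dsimp only
  rw [D.cl_apply, D.cl_apply] at h
  have h' := congrArg (pull (pullback.fst (C ↘ Spec (CommRingCat.of k)) (onePt k).hom)) h
  rwa [pull_fst_toPt, pull_fst_toPt, eq_comm] at h'

theorem JacData.exists_cl (c : PicLoc.PicSet C) (hc : degP k c = 0) : ∃ x : (𝟙_ (Over (Spec (CommRingCat.of k)))) ⟶ J, D.cl x = c := by
  obtain ⟨x, hx, -⟩ := D.classifies (onePt k) (rigify (C ↘ Spec (CommRingCat.of k)) σ.1 σ.2 _ (pull (pullback.fst (C ↘ Spec (CommRingCat.of k)) (onePt k).hom) c))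
    (rigify_mem (C ↘ Spec (CommRingCat.of k)) σ.1 σ.2 _ _) (fun t => by
      rw [degC_rigify (C ↘ Spec (CommRingCat.of k)) (fun z => (dim_fiber_spec (C ↘ Spec (CommRingCat.of k)) z).trans hd), degC_toPt k hd, pull_toPt_fst, hc])
  refine ⟨x, ?_⟩
  rw [D.cl_apply]
  exact (congrArg (pull (toPt k)) hx).trans (by rw [pull_toPt_rigify, pull_toPt_fst])

/-- The class of a point of the curve under the Abel map. -/
theorem JacData.cl_abel (τ : {τ : Spec (CommRingCat.of k) ⟶ C // τ ≫ (C ↘ Spec (CommRingCat.of k)) = 𝟙 _}) :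
    D.cl ((Over.homMk τ.1 τ.2 : (𝟙_ (Over (Spec (CommRingCat.of k)))) ⟶ Over.mk (C ↘ Spec (CommRingCat.of k))) ≫ j) = delta k τ hd * (delta k σ hd)⁻¹ := by
  have hh : ∀ ρ : {τ : Spec (CommRingCat.of k) ⟶ C // τ ≫ (C ↘ Spec (CommRingCat.of k)) = 𝟙 _}, ((onePt k).hom ≫ ρ.1) ≫ (C ↘ Spec (CommRingCat.of k)) = (onePt k).hom :=
    fun ρ => by rw [Category.assoc, ρ.2, Category.comp_id]
  let t : onePt k ⟶ Over.mk (C ↘ Spec (CommRingCat.of k)) := Over.homMk τ.1 τ.2
  show pull (toPt k) (pull (XTmap (C ↘ Spec (CommRingCat.of k)) (t ≫ j)) D.ξ) = _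
  rw [← S12404.XTmap_comp, ← pull_pull, D.abel, pull_abelCl, abelCl, pull_toPt_rigify, map_mul, map_inv,
    ptCl_congr (C ↘ Spec (CommRingCat.of k)) (onePt k) (show t.left ≫ 𝟙 C = (onePt k).hom ≫ τ.1 from
      (Category.comp_id _).trans (Category.id_comp _).symm) _ (hh τ), pull_toPt_ptCl k hd τ (hh τ),
    show baseCl (C ↘ Spec (CommRingCat.of k)) σ.1 σ.2 (onePt k) = ptCl (C ↘ Spec (CommRingCat.of k)) (onePt k) ((onePt k).hom ≫ σ.1) (hh σ) from rfl,
    pull_toPt_ptCl k hd σ (hh σ)]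

omit hd

variable (j) in
/-- The sum map on a power of the curve. -/
abbrev sumMap (r : ℕ) : Over.mk (WidePullback.base fun (_ : Fin r) => (C ↘ Spec (CommRingCat.of k))) ⟶ J :=
  (List.ofFn fun i : Fin r =>
    (Over.homMk (WidePullback.π (fun (_ : Fin r) => (C ↘ Spec (CommRingCat.of k))) i) (WidePullback.π_arrow (fun (_ : Fin r) => (C ↘ Spec (CommRingCat.of k))) i) :
      Over.mk (WidePullback.base fun (_ : Fin r) => (C ↘ Spec (CommRingCat.of k))) ⟶ Over.mk (C ↘ Spec (CommRingCat.of k))) ≫ j).prod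

variable (j) in
/-- The translate of the image of a power of the curve. -/
abbrev symSet (r : ℕ) (a : (𝟙_ (Over (Spec (CommRingCat.of k)))) ⟶ J) : Set J.left := (Jac.transl J a).left.base '' Set.range (sumMap j r).left.base

theorem rp_transl (z a : (𝟙_ (Over (Spec (CommRingCat.of k)))) ⟶ J) : z ≫ Jac.transl J a = z * a := by
  rw [Jac.transl, MonObj.comp_mul, Category.comp_id, ← Category.assoc, toUnit_unique (z ≫ toUnit J) (𝟙 _),
    Category.id_comp]

theorem transl_comp (a b : (𝟙_ (Over (Spec (CommRingCat.of k)))) ⟶ J) : Jac.transl J a ≫ Jac.transl J b = Jac.transl J (a * b) := by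
  rw [Jac.transl, Jac.transl, MonObj.comp_mul, Category.comp_id, ← Category.assoc,
    toUnit_unique ((𝟙 J * (toUnit J ≫ a)) ≫ toUnit J) (toUnit J), mul_assoc, ← MonObj.comp_mul]
  rfl

theorem transl_one : Jac.transl J (1 : (𝟙_ (Over (Spec (CommRingCat.of k)))) ⟶ J) = 𝟙 J := by
  rw [Jac.transl, MonObj.comp_one, mul_one]

theorem inv_inv_hom : (𝟙 J : J ⟶ J)⁻¹ ≫ (𝟙 J : J ⟶ J)⁻¹ = 𝟙 J := by
  rw [GrpObj.comp_inv, Category.comp_id, inv_inv]

/-- The image under an isomorphism is the preimage under its inverse. -/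
theorem rpt_mem_image_iff {h h' : J ⟶ J} (e : h ≫ h' = 𝟙 J) (e' : h' ≫ h = 𝟙 J) (Z : Set J.left) (x : (𝟙_ (Over (Spec (CommRingCat.of k)))) ⟶ J) :
    rpt x ∈ h.left.base '' Z ↔ rpt (x ≫ h') ∈ Z := by
  constructor
  · rintro ⟨z, hz, hzx⟩
    rw [← map_rpt, ← hzx]
    show h'.left (h.left z) ∈ Z
    rw [← Scheme.Hom.comp_apply, ← Over.comp_left, e]
    exact hz
  · intro hx
    refine ⟨_, hx, ?_⟩
    show h.left (rpt (x ≫ h')) = rpt x
    rw [map_rpt, Category.assoc, e', Category.comp_id]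

theorem mem_transl_image (a : (𝟙_ (Over (Spec (CommRingCat.of k)))) ⟶ J) (Z : Set J.left) (x : (𝟙_ (Over (Spec (CommRingCat.of k)))) ⟶ J) :
    rpt x ∈ (Jac.transl J a).left.base '' Z ↔ rpt (x * a⁻¹) ∈ Z := by
  rw [rpt_mem_image_iff (h' := Jac.transl J a⁻¹) (by rw [transl_comp, mul_inv_cancel, transl_one])
    (by rw [transl_comp, inv_mul_cancel, transl_one]), rp_transl]

theorem mem_inv_image (Z : Set J.left) (x : (𝟙_ (Over (Spec (CommRingCat.of k)))) ⟶ J) : rpt x ∈ ((𝟙 J)⁻¹).left.base '' Z ↔ rpt x⁻¹ ∈ Z := by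
  rw [rpt_mem_image_iff inv_inv_hom inv_inv_hom, GrpObj.comp_inv, Category.comp_id]

variable [IsCommMonObj J]

include D hd in
/-- **Membership of a rational point in a translate of the image of a power of the curve.** -/
theorem JacData.mem_symSet (r : ℕ) (a x : (𝟙_ (Over (Spec (CommRingCat.of k)))) ⟶ J) :
    rpt x ∈ symSet j r a ↔ 1 ≤ hC k (D.cl x * (D.cl a)⁻¹ * delta k σ hd ^ r) 0 := by
  haveI := D.proper
  haveI : IsProper (WidePullback.base fun (_ : Fin r) => (C ↘ Spec (CommRingCat.of k))) :=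
    SymCurve.prop_fibPow_base @IsProper (fun φ _ => inferInstance) (C ↘ Spec (CommRingCat.of k)) inferInstance r
  haveI : LocallyOfFiniteType (Over.mk (WidePullback.base fun (_ : Fin r) => (C ↘ Spec (CommRingCat.of k)))).hom :=
    inferInstanceAs (LocallyOfFiniteType (WidePullback.base fun (_ : Fin r) => (C ↘ Spec (CommRingCat.of k))))
  let π : Fin r → (Over.mk (WidePullback.base fun (_ : Fin r) => (C ↘ Spec (CommRingCat.of k))) ⟶ Over.mk (C ↘ Spec (CommRingCat.of k))) := fun i =>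
    Over.homMk (WidePullback.π (fun (_ : Fin r) => (C ↘ Spec (CommRingCat.of k))) i) (WidePullback.π_arrow (fun (_ : Fin r) => (C ↘ Spec (CommRingCat.of k))) i)
  have hval : ∀ z : (𝟙_ (Over (Spec (CommRingCat.of k)))) ⟶ Over.mk (WidePullback.base fun (_ : Fin r) => (C ↘ Spec (CommRingCat.of k))),
      D.cl (z ≫ sumMap j r) = (∏ i, delta k (⟨(z ≫ π i).left, Over.w (z ≫ π i)⟩ :
        {τ : Spec (CommRingCat.of k) ⟶ C // τ ≫ (C ↘ Spec (CommRingCat.of k)) = 𝟙 _}) hd) * (delta k σ hd ^ r)⁻¹ := fun z => by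
    let pre : (Over.mk (WidePullback.base fun (_ : Fin r) => (C ↘ Spec (CommRingCat.of k))) ⟶ J) →* ((𝟙_ (Over (Spec (CommRingCat.of k)))) ⟶ J) :=
      MonoidHom.mk' (fun p => z ≫ p) (MonObj.comp_mul z)
    show D.cl (pre ((List.ofFn fun i => π i ≫ j).prod)) = _
    rw [List.prod_ofFn, map_prod, map_prod, ← Fin.prod_const, ← Finset.prod_inv_distrib, ← Finset.prod_mul_distrib]
    refine Finset.prod_congr rfl fun i _ => ?_
    rw [← D.cl_abel hd]
    rfl
  rw [mem_transl_image, mul_comm (D.cl x) (D.cl a)⁻¹, ← map_inv, ← map_mul, mul_comm a⁻¹ x]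
  constructor
  · intro h
    obtain ⟨z, hz⟩ := Chev.Borel.exists_rp_of_mem_range (sumMap j r) _ h
    rw [← hz, hval, inv_mul_cancel_right]
    exact one_le_hC_prod k hd _
  · intro h
    obtain ⟨τ, hτ⟩ := exists_points_of_hC k hd (r := r) _ (by
      rw [degP_mul k hd, D.deg_cl hd, ← Fin.prod_const, degP_prod k hd,
        Finset.sum_congr rfl fun i _ => degP_delta k hd σ]
      simp) h
    let z : (𝟙_ (Over (Spec (CommRingCat.of k)))) ⟶ Over.mk (WidePullback.base fun (_ : Fin r) => (C ↘ Spec (CommRingCat.of k))) :=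
      tupleHom (C ↘ Spec (CommRingCat.of k)) r fun i => Over.homMk (τ i).1 (τ i).2
    have hz : z ≫ sumMap j r = x * a⁻¹ := D.cl_injective hd (by
      rw [hval, eq_comm, eq_mul_inv_iff_mul_eq, hτ]
      refine Finset.prod_congr rfl fun i _ => ?_
      congr 1
      exact Subtype.ext (congrArg CommaMorphism.left
        (tupleHom_proj (C ↘ Spec (CommRingCat.of k)) r (fun i => (Over.homMk (τ i).1 (τ i).2 : (𝟙_ (Over (Spec (CommRingCat.of k)))) ⟶ Over.mk (C ↘ Spec (CommRingCat.of k)))) i)).symm)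
    rw [← hz, ← map_rpt]
    exact Set.mem_range_self _

include D in
theorem JacData.isClosed_symSet (r : ℕ) (a : (𝟙_ (Over (Spec (CommRingCat.of k)))) ⟶ J) : IsClosed (symSet j r a) := by
  haveI := D.proper
  haveI : IsProper (WidePullback.base fun (_ : Fin r) => (C ↘ Spec (CommRingCat.of k))) :=
    SymCurve.prop_fibPow_base @IsProper (fun φ _ => inferInstance) (C ↘ Spec (CommRingCat.of k)) inferInstance r
  let h := sumMap j r ≫ Jac.transl J a
  haveI : IsProper (h.left ≫ J.hom) := by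
    rw [Over.w h]; exact inferInstanceAs (IsProper (WidePullback.base fun (_ : Fin r) => (C ↘ Spec (CommRingCat.of k))))
  haveI : IsProper h.left := IsProper.of_comp h.left J.hom
  have hr := h.left.isClosedMap.isClosed_range
  rwa [show Set.range h.left = symSet j r a by
    simp only [h, symSet, Over.comp_left, Scheme.Hom.comp_base, TopCat.coe_comp, Set.range_comp]] at hr

/-- Closed sets are equal when they have the same rational points. -/
theorem eq_of_rpt {Y : Over (Spec (CommRingCat.of k))} [LocallyOfFiniteType Y.hom] {A B : Set Y.left}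
    (hA : IsClosed A) (hB : IsClosed B) (h : ∀ x : (𝟙_ (Over (Spec (CommRingCat.of k)))) ⟶ Y, rpt x ∈ A ↔ rpt x ∈ B) : A = B := by
  haveI : JacobsonSpace Y.left := LocallyOfFiniteType.jacobsonSpace Y.hom
  rw [← closure_inter_closedPoints hA, ← closure_inter_closedPoints hB]
  congr 1
  ext y
  refine and_congr_left fun hy => ?_
  obtain ⟨x, rfl⟩ := exists_rpt hy
  exact h x

/-- Containment of closed sets on rational points. -/
theorem subset_of_rpt {Y : Over (Spec (CommRingCat.of k))} [LocallyOfFiniteType Y.hom] {A B : Set Y.left}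
    (hA : IsClosed A) (hB : IsClosed B) (h : ∀ x : (𝟙_ (Over (Spec (CommRingCat.of k)))) ⟶ Y, rpt x ∈ A → rpt x ∈ B) : A ⊆ B := by
  haveI : JacobsonSpace Y.left := LocallyOfFiniteType.jacobsonSpace Y.hom
  rw [← closure_inter_closedPoints hA]
  refine closure_minimal (fun y hy => ?_) hB
  obtain ⟨x, rfl⟩ := exists_rpt hy.2
  exact h x hy.1

theorem forall_mem_iff_rpt {Y : Over (Spec (CommRingCat.of k))} (x : (𝟙_ (Over (Spec (CommRingCat.of k)))) ⟶ Y) (Z : Set Y.left) :
    (∀ p, x.left.base p ∈ Z) ↔ rpt x ∈ Z :=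
  ⟨fun h => h _, fun h p => by
    show x.left p ∈ Z
    rwa [SubGen.apply_eq_rpt]⟩

include hd in
/-- The class data of a coarse Jacobian. -/
theorem exists_jacData (hg : 0 < Curv2.genus k C) (ψ : (ModFun.PicDeg (C ↘ Spec (CommRingCat.of k)) 0).Hom ⊤ J) (hJ : Jac.IsJacobian (C ↘ Spec (CommRingCat.of k)) ⊤ J ψ)
    (hj : Jac.IsAbelJacobiAt (C ↘ Spec (CommRingCat.of k)) σ.1 ψ j) : ∃ D : JacData σ J j,
    ∀ (x : (XT (C ↘ Spec (CommRingCat.of k)) (𝟙_ (Over (Spec (CommRingCat.of k))))).Modules) (hx : (ModFun.PicDeg (C ↘ Spec (CommRingCat.of k)) 0).ok (𝟙_ (Over (Spec (CommRingCat.of k)))) x) (hxi : PicF.IsInvertible x),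
      D.cl (ψ.app (𝟙_ (Over (Spec (CommRingCat.of k)))) x trivial hx) = pull (toPt k) (PicGrp.cls x hxi) := by
  obtain ⟨ξ, hp, -, -, h1, h0, hc, hmul, hψ⟩ := exists_jacobian_class (C ↘ Spec (CommRingCat.of k)) hd σ.1 σ.2 hg J ψ hJ
  refine ⟨⟨ξ, hp, h1, h0, hc, hmul, abel_class (C ↘ Spec (CommRingCat.of k)) hd σ.1 σ.2 J ψ ξ hψ j hj⟩, fun x hx hxi => ?_⟩
  rw [JacData.cl_apply]
  exact (congrArg (pull (toPt k)) ((hψ (𝟙_ (Over (Spec (CommRingCat.of k)))) x hx hxi _).1 rfl)).trans (pull_toPt_rigify k σ.1 σ.2 _)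

include hd in
/-- The class of the canonical point. -/
theorem pull_toPt_kappa {n : ℕ} (Kf : (XT (C ↘ Spec (CommRingCat.of k)) (𝟙_ (Over (Spec (CommRingCat.of k))))).Modules)
    (hi : PicF.IsInvertible Kf)
    (hKf : Nonempty (Kf ≅ (Scheme.Modules.pullback (pullback.fst (C ↘ Spec (CommRingCat.of k))
      (𝟙_ (Over (Spec (CommRingCat.of k)))).hom)).obj
      (CohB1.tensorMod (Omega.sheaf (C ↘ Spec (CommRingCat.of k))) (CohB1.tensorPow (ClSub.idealMod σ.1.ker) n)))) :
    pull (toPt k) (PicGrp.cls Kf hi) = canonCl k hd * (delta k σ hd ^ n)⁻¹ := by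
  obtain ⟨e⟩ := hKf
  have hI := isInvertible_point k hd σ
  haveI := CurveRR.isNoetherian_of_proper k C
  have hΩ : PicF.IsInvertible (Omega.sheaf (C ↘ Spec (CommRingCat.of k))) :=
    CurveOmega.isInvertible_omega k C hd W7Cover.h0_of_geometricallyConnected
  have hM := TMul.isInvertible_tensorMod hΩ (isInvertible_tensorPow hI n)
  rw [(PicGrp.cls_eq_cls_iff hi (PicLoc.isInvertible_pullback _ hM)).2 ⟨e⟩, ← pull_cls]
  refine (pull_toPt_fst k (PicGrp.cls _ hM)).trans ?_
  rw [show PicGrp.cls _ hM = canonCl k hd * PicGrp.cls _ (isInvertible_tensorPow hI n) from rfl, cls_tensorPow hI,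
    delta_inv k hd σ hI, inv_pow]

end Groth.Agent.PicCurve
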