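import Groth.Agent.PicCurve.SymPoints

/-!
Inclusions between the translates of the images of the powers of a curve in its Jacobian.
-/

set_option autoImplicit false
set_option backward.isDefEq.respectTransparency false
set_option backward.isDefEq.respectTransparency.types false
set_option linter.style.haveILetI false
set_option linter.unusedSectionVars false
set_option maxHeartbeats 1000000

universe u

open CategoryTheory CategoryTheory.Limits AlgebraicGeometry TopologicalSpace MonoidalCategory CartesianMonoidalCategory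
open PicF
open scoped MonObj
open Groth.Agent.W7Cube (pull pull_pull pull_cls)
open Groth.Agent.SubGen (rpt exists_rpt rpt_mem_closedPoints map_rpt)

attribute [local instance] Groth.Agent.W7Cube.law

noncomputable section

namespace Groth.Agent.PicCurve

section Classes

variable (k : Type u) [Field k] [IsAlgClosed k] {X : Scheme.{u}} [X.Over (Spec (CommRingCat.of k))]
  [IsProper (X ↘ Spec (CommRingCat.of k))] [Smooth (X ↘ Spec (CommRingCat.of k))]
  [GeometricallyConnected (X ↘ Spec (CommRingCat.of k))] [IsIntegral X] (hdim : topologicalKrullDim X = 1)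

include hdim

theorem degP_one' : degP k (1 : PicLoc.PicSet X) = 0 := by
  have h := degP_mul k hdim (1 : PicLoc.PicSet X) 1
  rw [mul_one] at h
  omega

theorem degP_inv' (c : PicLoc.PicSet X) : degP k c⁻¹ = -degP k c := by
  have h := degP_mul k hdim c c⁻¹
  rw [mul_inv_cancel, degP_one' k hdim] at h
  omega

theorem degP_delta_pow (τ : {τ : Spec (CommRingCat.of k) ⟶ X // τ ≫ (X ↘ Spec (CommRingCat.of k)) = 𝟙 _}) (n : ℕ) :
    degP k (delta k τ hdim ^ n) = n := by
  rw [← Fin.prod_const, degP_prod k hdim, Finset.sum_congr rfl fun i _ => degP_delta k hdim τ]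
  simp

theorem degP_prod_delta {n : ℕ} (τ : Fin n → {τ : Spec (CommRingCat.of k) ⟶ X // τ ≫ (X ↘ Spec (CommRingCat.of k)) = 𝟙 _}) :
    degP k (∏ i, delta k (τ i) hdim) = n := by
  rw [degP_prod k hdim, Finset.sum_congr rfl fun i _ => degP_delta k hdim (τ i)]
  simp

/-- A product of effective classes is effective. -/
theorem one_le_hC_mul (a b : PicLoc.PicSet X) {r : ℕ} (hb : degP k b = r) (ha : 1 ≤ hC k a 0) (hb0 : 1 ≤ hC k b 0) :
    1 ≤ hC k (a * b) 0 := by
  obtain ⟨τ, rfl⟩ := exists_points_of_hC k hdim b hb hb0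
  exact ha.trans (hC_le_mul_prod k hdim a τ)

/-- Removing a point lowers the number of sections by at most one. -/
theorem hC_le_succ (c : PicLoc.PicSet X) (τ : {τ : Spec (CommRingCat.of k) ⟶ X // τ ≫ (X ↘ Spec (CommRingCat.of k)) = 𝟙 _}) :
    hC k c 0 ≤ hC k (c * (delta k τ hdim)⁻¹) 0 + 1 := by
  have h1 := hC_sub k hdim rfl c
  have h2 := hC_sub k hdim rfl (c * (delta k τ hdim)⁻¹)
  rw [degP_mul k hdim, degP_inv' k hdim, degP_delta k hdim] at h2
  have h3 : hC k c 1 ≤ hC k (c * (delta k τ hdim)⁻¹) 1 := by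
    rw [hC_one k hdim, hC_one k hdim]
    refine (hC_le_mul_delta k hdim _ τ).trans_eq (congrArg (fun e => hC k e 0) ?_)
    rw [mul_inv_rev, inv_inv, mul_comm (delta k τ hdim) c⁻¹, mul_assoc]
  omega

end Classes

variable {k : Type u} [Field k] [IsAlgClosed k] {C : Scheme.{u}} [C.Over (Spec (CommRingCat.of k))]
  [IsProper (C ↘ Spec (CommRingCat.of k))] [Smooth (C ↘ Spec (CommRingCat.of k))]
  [GeometricallyConnected (C ↘ Spec (CommRingCat.of k))] [GeometricallyIrreducible (C ↘ Spec (CommRingCat.of k))]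
  [SmoothOfRelativeDimension 1 (C ↘ Spec (CommRingCat.of k))] [IsIntegral C]
  {σ : {τ : Spec (CommRingCat.of k) ⟶ C // τ ≫ (C ↘ Spec (CommRingCat.of k)) = 𝟙 _}} {J : Over (Spec (CommRingCat.of k))} [GrpObj J]
  {j : Over.mk (C ↘ Spec (CommRingCat.of k)) ⟶ J}

/-- The image of a closed set under an automorphism is closed. -/
theorem isClosed_image_hom {h h' : J ⟶ J} (e : h ≫ h' = 𝟙 J) (e' : h' ≫ h = 𝟙 J) {Z : Set J.left} (hZ : IsClosed Z) :
    IsClosed (h.left.base '' Z) := by
  have : h.left.base '' Z = h'.left.base ⁻¹' Z := by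
    ext z
    constructor
    · rintro ⟨y, hy, rfl⟩
      show h'.left (h.left y) ∈ Z
      rw [← Scheme.Hom.comp_apply, ← Over.comp_left, e]
      exact hy
    · intro hz
      refine ⟨_, hz, ?_⟩
      show h.left (h'.left z) = z
      rw [← Scheme.Hom.comp_apply, ← Over.comp_left, e']
      rfl
  rw [this]
  exact hZ.preimage h'.left.base.hom.continuous

theorem isClosed_inv_image {Z : Set J.left} (hZ : IsClosed Z) : IsClosed (((𝟙 J)⁻¹).left.base '' Z) :=
  isClosed_image_hom inv_inv_hom inv_inv_hom hZ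

variable [IsCommMonObj J]

theorem isClosed_transl_image (a : (𝟙_ (Over (Spec (CommRingCat.of k)))) ⟶ J) {Z : Set J.left} (hZ : IsClosed Z) :
    IsClosed ((Jac.transl J a).left.base '' Z) :=
  isClosed_image_hom (h' := Jac.transl J a⁻¹) (by rw [transl_comp, mul_inv_cancel, transl_one])
    (by rw [transl_comp, inv_mul_cancel, transl_one]) hZ

theorem symSet_one (r : ℕ) : symSet j r 1 = Set.range (sumMap j r).left.base := by
  rw [symSet, transl_one]
  exact Set.image_id _

variable (hd : topologicalKrullDim C = 1) (D : JacData σ J j)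

include D hd in
theorem JacData.mem_range (r : ℕ) (x : (𝟙_ (Over (Spec (CommRingCat.of k)))) ⟶ J) :
    rpt x ∈ Set.range (sumMap j r).left.base ↔ 1 ≤ hC k (D.cl x * delta k σ hd ^ r) 0 := by
  rw [← symSet_one, D.mem_symSet hd, map_one, inv_one, mul_one]

include D hd in
theorem JacData.deg_shift (r : ℕ) (a x : (𝟙_ (Over (Spec (CommRingCat.of k)))) ⟶ J) :
    degP k (D.cl x * (D.cl a)⁻¹ * delta k σ hd ^ r) = r := by
  rw [degP_mul k hd, degP_mul k hd, degP_inv' k hd, D.deg_cl hd, D.deg_cl hd, degP_delta_pow k hd]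
  omega

include D hd in
theorem JacData.deg_shift_one (r : ℕ) (x : (𝟙_ (Over (Spec (CommRingCat.of k)))) ⟶ J) :
    degP k (D.cl x * delta k σ hd ^ r) = r := by
  rw [degP_mul k hd, D.deg_cl hd, degP_delta_pow k hd]
  omega

include D hd in
/-- `W^r_a ⊆ W^{r+m}_b` if and only if `a ∈ W^m_b`, below degree `g`. -/
theorem JacData.symSet_subset_iff {g : ℕ} (hg : Curv2.genus k C = g) (r m : ℕ) (hrm : r + m < g)
    (a b : (𝟙_ (Over (Spec (CommRingCat.of k)))) ⟶ J) :
    symSet j r a ⊆ symSet j (r + m) b ↔ rpt a ∈ symSet j m b := by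
  haveI := D.proper
  constructor
  · intro hsub
    by_contra ha
    rw [D.mem_symSet hd] at ha
    obtain ⟨τ, hτ⟩ := exists_points_hC_zero k hd hg _ (Nat.lt_one_iff.1 (not_le.1 ha)) r (by
      rw [D.deg_shift hd]; omega)
    obtain ⟨x, hx⟩ := D.exists_cl hd (D.cl a * (∏ i, delta k (τ i) hd) * (delta k σ hd ^ r)⁻¹) (by
      rw [degP_mul k hd, degP_mul k hd, degP_inv' k hd, D.deg_cl hd, degP_prod_delta k hd, degP_delta_pow k hd]
      omega)
    have h1 : rpt x ∈ symSet j r a := by
      rw [D.mem_symSet hd, hx]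
      refine (one_le_hC_prod k hd τ).trans_eq (congrArg (fun e => hC k e 0) ?_)
      apply Additive.ofMul.injective; simp only [ofMul_mul, ofMul_inv, ofMul_pow]; module
    have h2 := (D.mem_symSet hd (r + m) b x).1 (hsub h1)
    rw [hx] at h2
    refine absurd hτ (Nat.one_le_iff_ne_zero.1 (h2.trans_eq (congrArg (fun e => hC k e 0) ?_)))
    apply Additive.ofMul.injective; simp only [ofMul_mul, ofMul_inv, ofMul_pow]; module
  · intro ha
    rw [D.mem_symSet hd] at ha
    refine subset_of_rpt (D.isClosed_symSet r a) (D.isClosed_symSet (r + m) b) fun x hx => ?_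
    rw [D.mem_symSet hd] at hx ⊢
    refine (one_le_hC_mul k hd _ _ (D.deg_shift hd m b a) hx ha).trans_eq (congrArg (fun e => hC k e 0) ?_)
    apply Additive.ofMul.injective; simp only [ofMul_mul, ofMul_inv, ofMul_pow]; module

include D hd in
/-- `W^m` is the intersection of the translates of `W^{r+m}` by the inverses of the points of `W^r`. -/
theorem JacData.range_eq_iInter {g : ℕ} (hg : Curv2.genus k C = g) (r m : ℕ) (hrm : r + m < g) :
    Set.range (sumMap j m).left.base = ⋂ (a : (𝟙_ (Over (Spec (CommRingCat.of k)))) ⟶ J)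
      (_ : ∀ p, a.left.base p ∈ Set.range (sumMap j r).left.base), symSet j (r + m) a⁻¹ := by
  haveI := D.proper
  refine eq_of_rpt (symSet_one (j := j) m ▸ D.isClosed_symSet m 1)
    (isClosed_iInter fun a => isClosed_iInter fun _ => D.isClosed_symSet (r + m) a⁻¹) fun x => ?_
  simp only [Set.mem_iInter]
  rw [D.mem_range hd]
  constructor
  · intro hx a ha
    rw [forall_mem_iff_rpt, D.mem_range hd] at ha
    rw [D.mem_symSet hd, map_inv]
    refine (one_le_hC_mul k hd _ _ (D.deg_shift_one hd r a) hx ha).trans_eq (congrArg (fun e => hC k e 0) ?_)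
    apply Additive.ofMul.injective; simp only [ofMul_mul, ofMul_inv, ofMul_pow]; module
  · intro h
    by_contra hx
    obtain ⟨τ, hτ⟩ := exists_points_hC_zero k hd hg _ (Nat.lt_one_iff.1 (not_le.1 hx)) r (by
      rw [D.deg_shift_one hd]; omega)
    obtain ⟨a, ha⟩ := D.exists_cl hd ((∏ i, delta k (τ i) hd) * (delta k σ hd ^ r)⁻¹) (by
      rw [degP_mul k hd, degP_inv' k hd, degP_prod_delta k hd, degP_delta_pow k hd]
      omega)
    have h2 := h a ((forall_mem_iff_rpt _ _).2 ((D.mem_range hd r a).2 (by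
      rw [ha, inv_mul_cancel_right]
      exact one_le_hC_prod k hd τ)))
    rw [D.mem_symSet hd, map_inv, ha] at h2
    refine absurd hτ (Nat.one_le_iff_ne_zero.1 (h2.trans_eq (congrArg (fun e => hC k e 0) ?_)))
    apply Additive.ofMul.injective; simp only [ofMul_mul, ofMul_inv, ofMul_pow]; module

include D hd in
/-- The reflection of a translate of `W^{g-1}` is a translate of `W^{g-1}`. -/
theorem JacData.reflect_symSet {g : ℕ} (hg : Curv2.genus k C = g) (hg1 : 1 ≤ g)
    (κ a : (𝟙_ (Over (Spec (CommRingCat.of k)))) ⟶ J) (hκ : D.cl κ = canonCl k hd * (delta k σ hd ^ (2 * g - 2))⁻¹) :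
    (Jac.transl J κ).left.base '' (((𝟙 J)⁻¹).left.base '' symSet j (g - 1) a) = symSet j (g - 1) a⁻¹ := by
  haveI := D.proper
  refine eq_of_rpt (isClosed_transl_image κ (isClosed_inv_image (D.isClosed_symSet (g - 1) a)))
    (D.isClosed_symSet _ _) fun x => ?_
  rw [mem_transl_image, mem_inv_image, D.mem_symSet hd, D.mem_symSet hd, map_inv, map_inv, map_mul, map_inv, hκ]
  obtain ⟨m, rfl⟩ : ∃ m, g = m + 1 := ⟨g - 1, by omega⟩
  simp only [Nat.add_sub_cancel, show 2 * (m + 1) - 2 = 2 * m by omega]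
  let c := D.cl x * ((D.cl a)⁻¹)⁻¹ * delta k σ hd ^ m
  have h1 : hC k c 1 = hC k c 0 := by
    have hs := hC_sub k hd hg c
    have hdg : degP k c = m := by
      show degP k (D.cl x * ((D.cl a)⁻¹)⁻¹ * delta k σ hd ^ m) = m
      rw [← map_inv]
      exact D.deg_shift hd m a⁻¹ x
    push_cast at hs
    omega
  show 1 ≤ _ ↔ 1 ≤ hC k c 0
  rw [← h1, hC_one k hd c]
  refine iff_of_eq (congrArg (fun e => 1 ≤ hC k e 0) ?_)
  apply Additive.ofMul.injective; simp only [c, ofMul_mul, ofMul_inv, ofMul_pow]; module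

include D hd in
/-- The intersection of `W^{r+1}_a` with a translate of the theta divisor. -/
theorem JacData.inter_eq_union {g : ℕ} (hg : Curv2.genus k C = g) (r e : ℕ) (hre : r + e + 2 = g)
    (κ a b x y : (𝟙_ (Over (Spec (CommRingCat.of k)))) ⟶ J)
    (hκ : D.cl κ = canonCl k hd * (delta k σ hd ^ (2 * g - 2))⁻¹)
    (hx : rpt x ∈ Set.range (sumMap j 1).left.base) (hy : rpt y ∈ Set.range (sumMap j (e + 1)).left.base)
    (hab : a * x = b * y) (hnot : ¬ symSet j (r + 1) a ⊆ symSet j (g - 1) b) :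
    symSet j (r + 1) a ∩ symSet j (g - 1) b = symSet j r (a * x) ∪
      (symSet j (r + 1) a ∩ (Jac.transl J κ).left.base '' (((𝟙 J)⁻¹).left.base '' symSet j (g - 2) (y * a⁻¹))) := by
  haveI := D.proper
  obtain rfl : g = r + e + 2 := hre.symm
  simp only [show r + e + 2 - 1 = r + 1 + e by omega, show r + e + 2 - 2 = r + e by omega,
    show 2 * (r + e + 2) - 2 = 2 * r + 2 * e + 2 by omega] at hnot hκ ⊢
  rw [D.mem_range hd, pow_one] at hx
  rw [D.mem_range hd] at hy
  obtain ⟨τQ, hQ⟩ := exists_points_of_hC k hd (r := 1) _ (by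
    have h := D.deg_shift_one hd 1 x
    rwa [pow_one] at h) hx
  rw [Fin.prod_univ_one] at hQ
  set E := D.cl y * delta k σ hd ^ (e + 1) with hE
  have hb : b = a * x * y⁻¹ := by rw [hab, mul_inv_cancel_right]
  have hbx : ∀ z : (𝟙_ (Over (Spec (CommRingCat.of k)))) ⟶ J, D.cl z * (D.cl b)⁻¹ * delta k σ hd ^ (r + 1 + e) =
      D.cl z * (D.cl a)⁻¹ * delta k σ hd ^ (r + 1) * E * (delta k (τQ 0) hd)⁻¹ := fun z => by
    rw [hb, map_mul, map_mul, map_inv, ← hQ, hE]
    apply Additive.ofMul.injective; simp only [ofMul_mul, ofMul_inv, ofMul_pow]; module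
  refine eq_of_rpt ((D.isClosed_symSet _ a).inter (D.isClosed_symSet _ b))
    ((D.isClosed_symSet r _).union ((D.isClosed_symSet _ a).inter
      (isClosed_transl_image κ (isClosed_inv_image (D.isClosed_symSet (r + e) _))))) fun z => ?_
  simp only [Set.mem_inter_iff, Set.mem_union, mem_transl_image κ, mem_inv_image, D.mem_symSet hd, hbx]
  set Dz := D.cl z * (D.cl a)⁻¹ * delta k σ hd ^ (r + 1) with hDz
  have hdD : degP k Dz = (r + 1 : ℕ) := D.deg_shift hd (r + 1) a z
  have hdE : degP k E = (e + 1 : ℕ) := D.deg_shift_one hd (e + 1) y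
  have hdDE : degP k (Dz * E) = (r + e + 2 : ℕ) := by
    rw [degP_mul k hd, hdD, hdE]; omega
  have hL : D.cl z * (D.cl (a * x))⁻¹ * delta k σ hd ^ r = Dz * (delta k (τQ 0) hd)⁻¹ := by
    rw [map_mul, ← hQ, hDz]
    apply Additive.ofMul.injective; simp only [ofMul_mul, ofMul_inv, ofMul_pow]; module
  have hR : D.cl (z * κ⁻¹)⁻¹ * (D.cl (y * a⁻¹))⁻¹ * delta k σ hd ^ (r + e) = canonCl k hd * (Dz * E)⁻¹ := by
    rw [map_inv, map_mul, map_mul, map_inv, map_inv, hκ, hE, hDz]
    apply Additive.ofMul.injective; simp only [ofMul_mul, ofMul_inv, ofMul_pow]; module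
  rw [hL, hR, ← hC_one k hd]
  have hsub := hC_sub k hd hg (Dz * E)
  rw [hdDE] at hsub
  constructor
  · rintro ⟨hD, hF⟩
    by_cases h2 : 1 ≤ hC k (Dz * E) 1
    · exact Or.inr ⟨hD, h2⟩
    · obtain ⟨τD, hτD⟩ := exists_points_of_hC k hd Dz hdD hD
      obtain ⟨τE, hτE⟩ := exists_points_of_hC k hd E hdE hy
      obtain ⟨τF, hτF⟩ := exists_points_of_hC k hd (r := r + 1 + e) _ (by
        rw [degP_mul k hd, degP_inv' k hd, hdDE, degP_delta k hd]; omega) hF
      have hDE : ∏ i, delta k (Fin.append τD τE i) hd = Dz * E := by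
        rw [Fin.prod_univ_add]
        simp only [Fin.append_left, Fin.append_right]
        rw [hτD, hτE]
      let τ' : Fin (r + 1 + e + 1) → {τ : Spec (CommRingCat.of k) ⟶ C // τ ≫ (C ↘ Spec (CommRingCat.of k)) = 𝟙 _} :=
        Fin.snoc τF (τQ 0)
      have hF' : ∏ i, delta k (τ' i) hd = Dz * E := by
        rw [Fin.prod_univ_castSucc]
        simp only [τ', Fin.snoc_castSucc, Fin.snoc_last]
        rw [← hτF, inv_mul_cancel_right]
      let τDE : Fin (r + 1 + e + 1) → {τ : Spec (CommRingCat.of k) ⟶ C // τ ≫ (C ↘ Spec (CommRingCat.of k)) = 𝟙 _} :=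
        Fin.append (m := r + 1) (n := e + 1) τD τE
      obtain ⟨i, hi⟩ : ∃ i : Fin ((r + 1) + (e + 1)), τ' (Fin.last _) = Fin.append τD τE i :=
        exists_eq_of_prod_eq k hd hg (n := r + 1 + e) τDE τ' (hDE.trans hF'.symm)
        (by rw [show ∏ i, delta k (τDE i) hd = Dz * E from hDE]; push_cast at hsub; omega)
        (by rw [show ∏ i, delta k (τDE i) hd = Dz * E from hDE]; omega) (Fin.last _)
      simp only [τ', Fin.snoc_last] at hi
      induction i using Fin.addCases with
      | left i =>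
        rw [Fin.append_left] at hi
        refine Or.inl ?_
        rw [hτD, hi, ← Finset.mul_prod_erase _ _ (Finset.mem_univ i), mul_comm (delta k (τD i) hd), mul_inv_cancel_right]
        obtain ⟨ρ, hρ⟩ : ∃ ρ : Fin r → _, (Finset.univ.erase i).prod (fun l => delta k (τD l) hd) = ∏ l, delta k (ρ l) hd :=
          ⟨fun l => τD (i.succAbove l), mul_left_cancel (a := delta k (τD i) hd) (by
            exact (Finset.mul_prod_erase Finset.univ (fun l => delta k (τD l) hd) (Finset.mem_univ i)).trans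
              (Fin.prod_univ_succAbove (fun l => delta k (τD l) hd) i))⟩
        rw [hρ]
        exact one_le_hC_prod k hd ρ
      | right i =>
        rw [Fin.append_right] at hi
        refine absurd (subset_of_rpt (D.isClosed_symSet _ a) (D.isClosed_symSet _ b) fun w hw => ?_) hnot
        rw [D.mem_symSet hd] at hw ⊢
        rw [hbx, hτE, hi, mul_assoc, Fin.prod_univ_succAbove _ i, mul_comm (delta k (τE i) hd), mul_inv_cancel_right]
        exact hw.trans (hC_le_mul_prod k hd _ _)
  · rintro (h | ⟨hD, h⟩)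
    · have hD : 1 ≤ hC k Dz 0 := by
        refine h.trans ((hC_le_mul_delta k hd _ (τQ 0)).trans_eq ?_)
        rw [inv_mul_cancel_right]
      refine ⟨hD, ?_⟩
      refine (one_le_hC_mul k hd _ _ hdE h hy).trans_eq (congrArg (fun e => hC k e 0) ?_)
      apply Additive.ofMul.injective; simp only [ofMul_mul, ofMul_inv]; module
    · refine ⟨hD, ?_⟩
      have := hC_le_succ k hd (Dz * E) (τQ 0)
      push_cast at hsub
      omega

end Groth.Agent.PicCurve
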