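import Groth.Agent.PicCurve.PointUnique

/-!
Isomorphisms of curves compatible with a map of Jacobians, on rational points.
-/

set_option autoImplicit false
set_option backward.isDefEq.respectTransparency false
set_option backward.isDefEq.respectTransparency.types false
set_option linter.style.haveILetI false
set_option linter.unusedSectionVars false
set_option maxHeartbeats 1000000

universe u

open CategoryTheory CategoryTheory.Limits AlgebraicGeometry TopologicalSpace MonoidalCategory CartesianMonoidalCategory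
open PicF
open scoped MonObj
open Groth.Agent.W7Cube (pull pull_pull pull_cls)

attribute [local instance] Groth.Agent.W7Cube.law

noncomputable section

namespace Groth.Agent.PicCurve

variable {k : Type u} [Field k] [IsAlgClosed k] {C C' : Scheme.{u}} [C.Over (Spec (CommRingCat.of k))] [C'.Over (Spec (CommRingCat.of k))]
  [IsProper (C' ↘ Spec (CommRingCat.of k))] [Smooth (C' ↘ Spec (CommRingCat.of k))]
  [GeometricallyConnected (C' ↘ Spec (CommRingCat.of k))] [GeometricallyIrreducible (C' ↘ Spec (CommRingCat.of k))]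
  [SmoothOfRelativeDimension 1 (C' ↘ Spec (CommRingCat.of k))] [IsIntegral C']
  {σ' : {τ : Spec (CommRingCat.of k) ⟶ C' // τ ≫ (C' ↘ Spec (CommRingCat.of k)) = 𝟙 _}}
  {J J' : Over (Spec (CommRingCat.of k))} [GrpObj J'] {j : Over.mk (C ↘ Spec (CommRingCat.of k)) ⟶ J}
  {j' : Over.mk (C' ↘ Spec (CommRingCat.of k)) ⟶ J'} (hd' : topologicalKrullDim C' = 1) (D' : JacData σ' J' j')

include hd' D' in
/-- The value on a rational point of a morphism compatible with the Abel maps. -/
theorem compat_point (φ : J ⟶ J') (α : C ≅ C') (hα : α.hom ≫ (C' ↘ Spec (CommRingCat.of k)) = (C ↘ Spec (CommRingCat.of k)))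
    (c : (𝟙_ (Over (Spec (CommRingCat.of k)))) ⟶ J') (s : ℤ)
    (h : Over.homMk α.hom hα ≫ j' = (j ≫ φ) ^ s * (toUnit (Over.mk (C ↘ Spec (CommRingCat.of k))) ≫ c))
    (t : (𝟙_ (Over (Spec (CommRingCat.of k)))) ⟶ Over.mk (C ↘ Spec (CommRingCat.of k)))
    (Q : {τ : Spec (CommRingCat.of k) ⟶ C' // τ ≫ (C' ↘ Spec (CommRingCat.of k)) = 𝟙 _}) (hQ : t.left ≫ α.hom = Q.1) :
    delta k Q hd' * (delta k σ' hd')⁻¹ = D'.cl (t ≫ j ≫ φ) ^ s * D'.cl c := by
  rw [← D'.cl_abel hd' Q, ← map_zpow, ← map_mul]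
  refine congrArg D'.cl ?_
  rw [show (Over.homMk Q.1 Q.2 : (𝟙_ (Over (Spec (CommRingCat.of k)))) ⟶ Over.mk (C' ↘ Spec (CommRingCat.of k))) =
      t ≫ (Over.homMk α.hom hα : Over.mk (C ↘ Spec (CommRingCat.of k)) ⟶ Over.mk (C' ↘ Spec (CommRingCat.of k))) from Over.OverMorphism.ext hQ.symm, Category.assoc, h, MonObj.comp_mul, GrpObj.comp_zpow,
    ← Category.assoc t (toUnit _) c, toUnit_unique (t ≫ toUnit _) (𝟙 _), Category.id_comp]

end Groth.Agent.PicCurve
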