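import Groth.Agent.PicCurve.DegZeroProps
import Groth.Agent.PicCurve.Points

/-!
Degree zero rigidified classes and extensions of the base.
-/

set_option autoImplicit false
set_option backward.isDefEq.respectTransparency false
set_option backward.isDefEq.respectTransparency.types false
set_option linter.style.haveILetI false
set_option linter.unusedSectionVars false
set_option maxHeartbeats 2000000

universe u

open CategoryTheory CategoryTheory.Limits AlgebraicGeometry TopologicalSpace Opposite
open PicF
open Groth.Agent.W7Cube (pull pull_pull pull_cls)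

attribute [local instance] Groth.Agent.W7Cube.law

noncomputable section

namespace Groth.Agent.PicCurve

variable {X S B : Scheme.{u}} (f : X ⟶ S) [IsProper f] [SmoothOfRelativeDimension 1 f] [GeometricallyConnected f]
  (σ : S ⟶ X) (hσ : σ ≫ f = 𝟙 S) (p : B ⟶ S)

/-- The base change of the family. -/
abbrev fB : pullback f p ⟶ B := pullback.snd f p

/-- The base change of the section. -/
def σB : B ⟶ pullback f p := pullback.lift (p ≫ σ) (𝟙 B) (by rw [Category.assoc, hσ, Category.comp_id, Category.id_comp])

theorem σB_proj : σB f σ hσ p ≫ fB f p = 𝟙 B := pullback.lift_snd _ _ _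

instance : SmoothOfRelativeDimension 1 (fB f p) :=
  haveI := smoothOfRelativeDimension_isStableUnderBaseChange (n := 1)
  MorphismProperty.pullback_snd (P := @SmoothOfRelativeDimension 1) _ _ ‹_›

/-- A scheme over the extension as a scheme over the base. -/
abbrev downOver (T : Over B) : Over S := Over.mk (T.hom ≫ p)

/-- A morphism over the extension as a morphism over the base. -/
abbrev downMap {T T' : Over B} (m : T' ⟶ T) : downOver p T' ⟶ downOver p T :=
  Over.homMk m.left (by show m.left ≫ T.hom ≫ p = T'.hom ≫ p; rw [← Category.assoc, Over.w m])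

/-- The comparison of total spaces. -/
def upIso (T : Over B) : XT (fB f p) T ≅ XT f (downOver p T) := pullbackLeftPullbackSndIso f p T.hom

theorem upIso_proj (T : Over B) : (upIso f p T).hom ≫ XTproj f (downOver p T) = XTproj (fB f p) T :=
  pullbackLeftPullbackSndIso_hom_snd f p T.hom

theorem upIso_fst (T : Over B) :
    (upIso f p T).hom ≫ pullback.fst f (downOver p T).hom = pullback.fst (fB f p) T.hom ≫ pullback.fst f p :=
  pullbackLeftPullbackSndIso_hom_fst f p T.hom

theorem upIso_nat {T T' : Over B} (m : T' ⟶ T) :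
    XTmap (fB f p) m ≫ (upIso f p T).hom = (upIso f p T').hom ≫ XTmap f (downMap p m) := by
  refine pullback.hom_ext ?_ ?_
  · rw [Category.assoc, upIso_fst, Category.assoc, AbelMap.XTmap_fst, upIso_fst, ← Category.assoc,
      AbelMap.XTmap_fst]
  · show (_ ≫ _) ≫ XTproj f _ = (_ ≫ _) ≫ XTproj f _
    rw [Category.assoc, upIso_proj, Category.assoc, XTmap_proj, XTmap_proj, ← Category.assoc, upIso_proj]
    rfl

theorem secT_upIso (T : Over B) :
    secT (fB f p) (σB f σ hσ p) (σB_proj f σ hσ p) T ≫ (upIso f p T).hom = secT f σ hσ (downOver p T) := by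
  refine pullback.hom_ext ?_ ?_
  · rw [Category.assoc, upIso_fst]
    show pullback.lift _ _ _ ≫ _ ≫ _ = pullback.lift _ _ _ ≫ _
    rw [pullback.lift_fst_assoc, pullback.lift_fst, Category.assoc, σB, pullback.lift_fst]
    exact (Category.assoc _ _ _).symm
  · show (_ ≫ _) ≫ XTproj f _ = _ ≫ XTproj f _
    rw [Category.assoc, upIso_proj, S12403.secT_proj (fB f p) _ (σB_proj f σ hσ p) T, S12403.secT_proj f σ hσ]
    rfl

/-- Transport of classes. -/
def upCl (T : Over B) : PicLoc.PicSet (XT f (downOver p T)) →* PicLoc.PicSet (XT (fB f p) T) :=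
  pull (upIso f p T).hom

/-- Transport of classes back. -/
def downCl (T : Over B) : PicLoc.PicSet (XT (fB f p) T) →* PicLoc.PicSet (XT f (downOver p T)) :=
  pull (upIso f p T).inv

theorem down_up (T : Over B) (c : PicLoc.PicSet (XT f (downOver p T))) : downCl f p T (upCl f p T c) = c := by
  rw [downCl, upCl, pull_pull, Iso.inv_hom_id, pull_id]

theorem up_down (T : Over B) (c : PicLoc.PicSet (XT (fB f p) T)) : upCl f p T (downCl f p T c) = c := by
  rw [downCl, upCl, pull_pull, Iso.hom_inv_id, pull_id]

theorem upCl_pull {T T' : Over B} (m : T' ⟶ T) (c : PicLoc.PicSet (XT f (downOver p T))) :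
    pull (XTmap (fB f p) m) (upCl f p T c) = upCl f p T' (pull (XTmap f (downMap p m)) c) := by
  rw [upCl, upCl, pull_pull, pull_pull, upIso_nat]

theorem secT_upCl (T : Over B) (c : PicLoc.PicSet (XT f (downOver p T))) :
    pull (secT (fB f p) (σB f σ hσ p) (σB_proj f σ hσ p) T) (upCl f p T c) = pull (secT f σ hσ (downOver p T)) c := by
  rw [upCl, pull_pull, secT_upIso]
  rfl

theorem degC_upCl (T : Over B) (c : PicLoc.PicSet (XT f (downOver p T))) (t : T.left) :
    degC (fB f p) T (upCl f p T c) t = degC f (downOver p T) c t := by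
  haveI : Smooth f := SmoothOfRelativeDimension.smooth 1 f
  obtain ⟨L, hL, rfl⟩ := PicGrp.exists_eq_cls c
  rw [upCl, pull_cls, degC_cls, degC_cls]
  have sq : IsPullback (upIso f p T).hom (XTproj (fB f p) T) (XTproj f (downOver p T)) (𝟙 T.left) :=
    IsPullback.of_horiz_isIso ⟨(upIso_proj f p T).trans (Category.comp_id _).symm⟩
  haveI : IsProper (XTproj f (downOver p T)) := isProper_proj f _
  unfold PicSmooth.delta PerfAux.eulerChar
  have key : ∀ M : (XT f (downOver p T)).Modules, Coh.IsQCoh M → ∀ i,
      PerfAux.betti (XTproj (fB f p) T) ((Scheme.Modules.pullback (upIso f p T).hom).obj M) t i =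
        PerfAux.betti (XTproj f (downOver p T)) M t i := fun M hM i =>
    PicSmooth.betti_of_isPullback sq M hM t i
  simp only [key L (TMul.isQCoh_of_isInvertible hL)]
  congr 1
  refine finsum_congr fun i => ?_
  rw [← key _ (QC.isQCoh_unit _) i,
    PicSmooth.betti_iso (XTproj (fB f p) T) (PicLoc.pullbackStructureIso (upIso f p T).hom) t i]

theorem dim_fB (hdim : ∀ z : S, topologicalKrullDim ↥(f.fiber z) = 1) (z : B) :
    topologicalKrullDim ↥((fB f p).fiber z) = 1 :=
  (DimField.dim_fiber_eq_of_isPullback (IsPullback.of_hasPullback f p) z).trans (hdim _)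

end Groth.Agent.PicCurve
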